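import Mathlib

/-!
The finite searches for the Suzuki characterisation by a self-centralisation system
(`notes/s3240_plan.md`, section D), as kernel-checked Boolean tests.
-/

set_option autoImplicit false

namespace CfsgLib.SuzukiSC.Search

/-- Extended Euclid with fuel: the coefficient of the first argument. -/
def xg : ℕ → ℕ → ℕ → ℤ → ℤ → ℤ
  | 0, _, _, s, _ => s
  | f + 1, a, b, s, s' => if b = 0 then s else xg f b (a % b) s' (s - ((a / b : ℕ) : ℤ) * s')

/-- A candidate for the inverse of `a` modulo `M`; it is never trusted, only checked. -/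
def invMod (a M : ℕ) : ℕ := ((xg 64 a M 1 0) % (M : ℤ)).toNat

/-- `2 b c + a c + a b`. -/
def bnN (a b c : ℕ) : ℕ := 2 * b * c + a * c + a * b

/-- A residue `k₀` of `k` modulo `m` is excluded: no `E = j n₂ n₃` fits. -/
def stdK (t a b k0 : ℕ) : Bool :=
  (List.range 35).all fun i =>
    let E : ℤ := ((i : ℤ) - 17) * (((4 * a + 1) * (4 * b + 1) : ℕ) : ℤ)
    if (E - 2) % ((2 * t + 1 : ℕ) : ℤ) = 0 then
      let m := (2 * t + 1) * (4 * a + 1) * (4 * b + 1)
      let f := (E - 1).natAbs
      !decide ((m + k0) % f = 0) && !decide ((2 * m + k0) % f = 0)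
    else true

/-- The standard case for one triple. -/
def stdOne (t a b : ℕ) : Bool :=
  if 100 * (t + a + b) ≤ 131 * (2 * t + 1) ∧ Nat.gcd (2 * t + 1) (4 * a + 1) = 1 ∧
      Nat.gcd (2 * t + 1) (4 * b + 1) = 1 ∧ Nat.gcd (4 * a + 1) (4 * b + 1) = 1 then
    let n1 := 2 * t + 1
    let n2 := 4 * a + 1
    let n3 := 4 * b + 1
    let m := n1 * n2 * n3
    let x := invMod (bnN n1 n2 n3) m
    decide (bnN n1 n2 n3 * x % m = 1) && stdK t a b (4 * x % m)
  else true

/-- The standard case for one `t`. -/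
def stdT (t : ℕ) : Bool :=
  (List.range 39).all fun a => if 2 ≤ a then
    (List.range 39).all fun b => if 2 ≤ b then stdOne t a b else true
  else true

/-- `k` is smooth over `2, 3, 7, 11, 13`. -/
def isSmooth (k : ℕ) : Bool := decide (6006 ^ 18 % k = 0)

/-- No `E` fits the special case for this `k`. -/
def spcK (n2 n3 j0 g : ℕ) : Bool :=
  (List.range 4).all fun i =>
    let E : ℤ := ((j0 : ℤ) + ((i : ℤ) - 2) * ((5 * n2 : ℕ) : ℤ)) * (n3 : ℤ)
    !(decide (2 * E ^ 2 < (g : ℤ)) && decide (g % E.natAbs = 0) && decide (g % (E - 1).natAbs = 0))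

/-- The special case for one pair. -/
def spcOne (a b : ℕ) : Bool :=
  if a + b ≤ 57 ∧ (4 * a + 1) % 3 ≠ 0 ∧ (4 * b + 1) % 3 ≠ 0 ∧ (4 * a + 1) % 5 ≠ 0 ∧ (4 * b + 1) % 5 ≠ 0 ∧
      Nat.gcd (4 * a + 1) (4 * b + 1) = 1 then
    let n2 := 4 * a + 1
    let n3 := 4 * b + 1
    let m := 5 * n2 * n3
    let x := invMod (bnN 5 n2 n3) m
    let M := 5 * n2
    let c := 1 + n2 * (invMod n2 5)
    let y := invMod n3 M
    let k0 := 4 * x % m
    decide (bnN 5 n2 n3 * x % m = 1) && decide (n3 * y % M = 1) && decide (c % n2 = 1) &&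
      decide (c % 5 = 2) &&
      (!isSmooth (m + k0) || spcK n2 n3 (c * y % M) ((m + k0) * m)) &&
      (!isSmooth (2 * m + k0) || spcK n2 n3 (c * y % M) ((2 * m + k0) * m))
  else true

/-- The special case for one `a`. -/
def spcA (a : ℕ) : Bool := (List.range 56).all fun b => if 2 ≤ b then spcOne a b else true

theorem stdT_le_12 : ∀ t < 13, 2 ≤ t → stdT t = true := by decide +kernel

theorem stdT_le_18 : ∀ t < 19, 13 ≤ t → stdT t = true := by decide +kernel

theorem stdT_le_24 : ∀ t < 25, 19 ≤ t → stdT t = true := by decide +kernel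

theorem spcA_low : ∀ a < 28, 2 ≤ a → spcA a = true := by decide +kernel

theorem spcA_high : ∀ a < 56, 28 ≤ a → spcA a = true := by decide +kernel

theorem stdOne_true {t a b : ℕ} (t0 : 2 ≤ t) (t1 : t < 25) (a0 : 2 ≤ a) (a1 : a < 39) (b0 : 2 ≤ b)
    (b1 : b < 39) : stdOne t a b = true := by
  have h : stdT t = true := by
    rcases lt_or_ge t 13 with h | h
    · exact stdT_le_12 t h t0
    rcases lt_or_ge t 19 with h' | h'
    · exact stdT_le_18 t h' h
    · exact stdT_le_24 t t1 h'
  have h' := List.all_eq_true.mp h a (List.mem_range.mpr a1)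
  rw [if_pos a0] at h'
  have h'' := List.all_eq_true.mp h' b (List.mem_range.mpr b1)
  rwa [if_pos b0] at h''

theorem spcOne_true {a b : ℕ} (a0 : 2 ≤ a) (a1 : a < 56) (b0 : 2 ≤ b) (b1 : b < 56) :
    spcOne a b = true := by
  have h : spcA a = true := by
    rcases lt_or_ge a 28 with h | h
    · exact spcA_low a h a0
    · exact spcA_high a a1 h
  have h' := List.all_eq_true.mp h b (List.mem_range.mpr b1)
  rwa [if_pos b0] at h'

end CfsgLib.SuzukiSC.Search
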