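import Cfsg.Agent.Lib.SuzukiSC.Basic
import Cfsg.Agent.Lib.SuzukiSC.ArithCheck

/-!
Arithmetic of the Suzuki characterisation (`notes/s3240_plan.md`, section D), on bare numbers.
-/

set_option autoImplicit false

namespace CfsgLib.SuzukiSC

open Search

/-- The small case: the odd part of the index is at most three. -/
theorem small_u_false {r n1 n2 n3 k c u : ℕ} (hr : r = 3 ∨ r = 5) (o1 : Odd n1) (h1 : 5 ≤ n1)
    (q2 : n2 % 4 = 1) (l2 : 5 < n2) (q3 : n3 % 4 = 1) (l3 : 5 < n3) (h23 : n2.Coprime n3)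
    (r2 : ¬ r ∣ n2) (r3 : ¬ r ∣ n3) (hu : r = 3 ∧ u ∣ 3 ∨ u = 1) (hk : k = u * c)
    (hkm : n1 * n2 * n3 < k)
    (hcl : c ^ 2 * ((n1 - 1) / 2 + (n2 - 1) / 4 + (n3 - 1) / 4) ≤ k * (n1 * n2 * n3)) : False := by
  set L := (n1 - 1) / 2 + (n2 - 1) / 4 + (n3 - 1) / 4 with hLdef
  set m := n1 * n2 * n3
  subst hk
  have hL : L < u * u := by
    by_contra h
    push Not at h
    have hc0 : 0 < c := Nat.pos_of_ne_zero fun hc => by rw [hc, mul_zero] at hkm; exact Nat.not_lt_zero _ hkm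
    have h2 : u * c * m < u * c * (u * c) := Nat.mul_lt_mul_of_pos_left hkm (by omega)
    nlinarith [Nat.mul_le_mul_left (c * c) h]
  have hne : n2 ≠ n3 := fun h => by
    rw [h, Nat.coprime_self] at h23
    omega
  rcases hu with ⟨rfl, hu⟩ | rfl
  · have : u * u ≤ 9 := by
      have := Nat.le_of_dvd (by norm_num) hu
      nlinarith
    rcases o1 with ⟨a, ha⟩
    rw [Nat.dvd_iff_mod_eq_zero] at r2 r3
    have e2 : 13 ≤ n2 := by omega
    have e3 : 13 ≤ n3 := by omega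
    have e4 : 17 ≤ n2 ∨ 17 ≤ n3 := by
      rcases lt_or_gt_of_ne hne with h | h
      · exact Or.inr (by omega)
      · exact Or.inl (by omega)
    omega
  · rcases o1 with ⟨a, ha⟩
    omega

/-- The column of a small rational element bounds `n₁`. -/
theorem std_col {t1 t2 t3 C : ℕ} {P X2 X3 s2 s3 : ℤ} (hs2 : s2 = 1 ∨ s2 = -1) (hs3 : s3 = 1 ∨ s3 = -1)
    (hb : C ≤ 25 ∧ 3 ≤ t2 ∧ 3 ≤ t3 ∨ C ≤ 11 ∧ 2 ≤ t2 ∧ 2 ≤ t3)
    (hC : 1 + P ^ 2 + (t1 : ℤ) * (1 + P) ^ 2 + (t2 : ℤ) * X2 ^ 2 + (t3 : ℤ) * X3 ^ 2 ≤ (C : ℤ))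
    (h0 : 2 - 2 * P + s2 * X2 + s3 * X3 = 0) : t1 ≤ 24 := by
  have h2 : 0 ≤ (t2 : ℤ) * X2 ^ 2 := by positivity
  have h3 : 0 ≤ (t3 : ℤ) * X3 ^ 2 := by positivity
  by_cases hP : P = -1
  · exfalso
    subst hP
    have hsq : 8 ≤ X2 ^ 2 + X3 ^ 2 := by
      rcases hs2 with rfl | rfl <;> rcases hs3 with rfl | rfl <;> nlinarith [sq_nonneg (X2 - X3), sq_nonneg (X2 + X3)]
    rcases hb with ⟨hC', e2, e3⟩ | ⟨hC', e2, e3⟩
    · have : (3 : ℤ) * X2 ^ 2 ≤ (t2 : ℤ) * X2 ^ 2 := mul_le_mul_of_nonneg_right (by exact_mod_cast e2) (sq_nonneg _)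
      have : (3 : ℤ) * X3 ^ 2 ≤ (t3 : ℤ) * X3 ^ 2 := mul_le_mul_of_nonneg_right (by exact_mod_cast e3) (sq_nonneg _)
      have : (C : ℤ) ≤ 25 := by exact_mod_cast hC'
      nlinarith
    · have : (2 : ℤ) * X2 ^ 2 ≤ (t2 : ℤ) * X2 ^ 2 := mul_le_mul_of_nonneg_right (by exact_mod_cast e2) (sq_nonneg _)
      have : (2 : ℤ) * X3 ^ 2 ≤ (t3 : ℤ) * X3 ^ 2 := mul_le_mul_of_nonneg_right (by exact_mod_cast e3) (sq_nonneg _)
      have : (C : ℤ) ≤ 11 := by exact_mod_cast hC'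
      nlinarith
  · have h1 : 1 ≤ (1 + P) ^ 2 := by
      rcases lt_or_gt_of_ne hP with h | h <;> nlinarith
    have h4 : (t1 : ℤ) ≤ (t1 : ℤ) * (1 + P) ^ 2 := le_mul_of_one_le_right (by positivity) h1
    have : (C : ℤ) ≤ 25 := by rcases hb with ⟨h, -⟩ | ⟨h, -⟩ <;> exact_mod_cast (show C ≤ 25 by omega)
    nlinarith [sq_nonneg P]

/-! ### The congruence -/

theorem bn_cast (n1 n2 n3 : ℕ) : bn n1 n2 n3 = ((bnN n1 n2 n3 : ℕ) : ℤ) := by
  simp [bn, bnN]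

/-- `k` is prime to `m`. -/
theorem coprime_of_cong {m k : ℕ} {B : ℤ} (hm : Odd m) (h : (m : ℤ) ∣ (k : ℤ) * B - 4) : k.Coprime m := by
  rw [Nat.coprime_iff_gcd_eq_one]
  have h1 : (Nat.gcd k m : ℤ) ∣ (4 : ℤ) := by
    have a : (Nat.gcd k m : ℤ) ∣ (k : ℤ) * B := (Int.natCast_dvd_natCast.mpr (Nat.gcd_dvd_left k m)).mul_right B
    have b := (Int.natCast_dvd_natCast.mpr (Nat.gcd_dvd_right k m)).trans h
    simpa using dvd_sub a b
  have h2 : Nat.gcd k m ∣ 4 := by exact_mod_cast h1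
  have hodd : Odd (Nat.gcd k m) := hm.of_dvd_nat (Nat.gcd_dvd_right k m)
  have := Nat.le_of_dvd (by norm_num) h2
  obtain ⟨a, ha⟩ := hodd
  rw [Nat.dvd_iff_mod_eq_zero, ha] at h2
  have : a = 0 ∨ a = 1 := by omega
  rcases this with rfl | rfl
  · omega
  · norm_num at h2

/-- The residue of `k` modulo `m`, read off a checked inverse. -/
theorem k_cases {m k B x : ℕ} (hm : 1 < m) (hk : m < k) (hk3 : k ≤ 3 * m) (hcop : k.Coprime m)
    (hx : B * x % m = 1) (h : (m : ℤ) ∣ (k : ℤ) * (B : ℤ) - 4) :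
    k = m + 4 * x % m ∨ k = 2 * m + 4 * x % m := by
  have h1 : (m : ℤ) ∣ (B : ℤ) * x - 1 := by
    have e : ((B * x : ℕ) : ℤ) = (m : ℤ) * ((B * x / m : ℕ) : ℤ) + 1 := by
      exact_mod_cast ((Nat.div_add_mod (B * x) m).symm.trans (by rw [hx]))
    refine ⟨((B * x / m : ℕ) : ℤ), ?_⟩
    push_cast at e ⊢
    linarith
  have h2 : (m : ℤ) ∣ ((4 * x : ℕ) : ℤ) - (k : ℤ) := by
    have e : ((4 * x : ℕ) : ℤ) - (k : ℤ) = (k : ℤ) * ((B : ℤ) * x - 1) - (x : ℤ) * ((k : ℤ) * B - 4) := by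
      push_cast; ring
    rw [e]
    exact dvd_sub (h1.mul_left _) (h.mul_left _)
  have hmod : k % m = 4 * x % m := Nat.modEq_iff_dvd.mpr h2
  have hk0 : k % m ≠ 0 := fun h0 => by
    have := Nat.dvd_gcd (Nat.dvd_of_mod_eq_zero h0) dvd_rfl
    rw [hcop] at this
    exact absurd (Nat.le_of_dvd one_pos this) (by omega)
  have hlo : 1 ≤ k / m := (Nat.one_le_div_iff (by omega)).mpr hk.le
  have hhi : k / m < 3 := by
    refine Nat.div_lt_of_lt_mul ?_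
    rcases eq_or_lt_of_le hk3 with e | e
    · exact absurd (by rw [e, Nat.mul_mod_left]) hk0
    · linarith
  have e := Nat.div_add_mod k m
  rw [← hmod]
  interval_cases k / m <;> omega

/-- The two parts of the involution equation. -/
theorem ineq_of_eq {n1 k m c L : ℕ} {F P : ℤ} (hkm : 0 < k * m) (hc : 0 < c)
    (heq : (n1 : ℤ) * (c : ℤ) ^ 2 * F * (1 + F) = (k : ℤ) * m * (F - P) ^ 2) (hcl : c ^ 2 * L ≤ k * m) :
    (L : ℤ) * (F - P) ^ 2 ≤ (n1 : ℤ) * (|F| * (|F| + 1)) := by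
  have hG : (0 : ℤ) < (k : ℤ) * m := by exact_mod_cast hkm
  have hc' : (0 : ℤ) < (c : ℤ) ^ 2 := by positivity
  have hcl' : (c : ℤ) ^ 2 * L ≤ (k : ℤ) * m := by exact_mod_cast hcl
  have h1 : (L : ℤ) * (F - P) ^ 2 * ((k : ℤ) * m) ≤ (n1 : ℤ) * (F * (1 + F)) * ((k : ℤ) * m) := by
    have hnn : (0 : ℤ) ≤ (n1 : ℤ) * (F * (1 + F)) := by
      refine mul_nonneg (by positivity) ?_
      rcases le_or_gt 0 F with h | h <;> nlinarith
    calc (L : ℤ) * (F - P) ^ 2 * ((k : ℤ) * m) = (c : ℤ) ^ 2 * L * ((n1 : ℤ) * (F * (1 + F))) := by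
          linear_combination (-(L : ℤ)) * heq
      _ ≤ (k : ℤ) * m * ((n1 : ℤ) * (F * (1 + F))) := mul_le_mul_of_nonneg_right hcl' hnn
      _ = _ := by ring
  refine (le_of_mul_le_mul_right h1 hG).trans (mul_le_mul_of_nonneg_left ?_ (by positivity))
  rcases le_or_gt 0 F with h | h
  · rw [abs_of_nonneg h]; linarith
  · rw [abs_of_neg h]; nlinarith

/-- The column of the involution bounds `(|P| - 1)²`. -/
theorem col_bound {t c : ℕ} {P : ℤ} (hc : 1 + P ^ 2 + (t : ℤ) * (1 + P) ^ 2 ≤ (c : ℤ)) :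
    ((t : ℤ) + 1) * (|P| - 1) ^ 2 ≤ (c : ℤ) ∨ P = 0 := by
  by_cases hP : P = 0
  · exact Or.inr hP
  refine Or.inl (le_trans ?_ hc)
  have h1 : (|P| - 1) ^ 2 ≤ (1 + P) ^ 2 := by
    rcases le_or_gt 0 P with h | h
    · rw [abs_of_nonneg h]; nlinarith
    · rw [abs_of_neg h]; nlinarith
  have h2 : (|P| - 1) ^ 2 ≤ 1 + P ^ 2 := by nlinarith [abs_nonneg P, sq_abs P]
  nlinarith [Int.natCast_nonneg t]

theorem std_quad {N q : ℤ} (hN : 117 ≤ N) (h16 : 16 * q ≤ 21 * N) (hsq : (3 * N - 28) ^ 2 < 625 * q) :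
    False := by
  nlinarith [mul_le_mul_of_nonneg_right hN (show (0 : ℤ) ≤ N by linarith)]

theorem std_sixteen {N q : ℤ} (hq : 0 ≤ q) (hN : 0 ≤ N) (h : 7 * q ^ 2 ≤ 12 * N ^ 2) : 16 * q ≤ 21 * N := by
  by_contra hno
  push Not at hno
  have : (21 * N) ^ 2 < (16 * q) ^ 2 := pow_lt_pow_left₀ hno (by linarith) (by norm_num)
  linarith [sq_nonneg N]

/-- In the standard case the sum of the three `t`'s is at most `1.31 n₁`. -/
theorem std_bound {n1 N t1 L k c : ℕ} {F P : ℤ} (e1 : n1 = 2 * t1 + 1) (hN : 117 ≤ N) (hL : 7 ≤ L)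
    (hk : 0 < k) (hk3 : k ≤ 3 * (n1 * N)) (hF : (N : ℤ) ∣ F + 1) (hF0 : F + 1 ≠ 0)
    (heq : (n1 : ℤ) * (c : ℤ) ^ 2 * F * (1 + F) = (k : ℤ) * ((n1 * N : ℕ) : ℤ) * (F - P) ^ 2)
    (hcl : c ^ 2 * L ≤ k * (n1 * N)) (hc : 1 + P ^ 2 + (t1 : ℤ) * (1 + P) ^ 2 ≤ (c : ℤ)) :
    100 * L ≤ 131 * n1 := by
  have hn1 : 0 < n1 := by omega
  have hc0 : 0 < c := by
    have h : (0 : ℤ) < (c : ℤ) := lt_of_lt_of_le (by positivity) hc
    exact_mod_cast h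
  have hmain := ineq_of_eq (m := n1 * N) (by positivity) hc0 heq hcl
  have hf : (N : ℤ) - 1 ≤ |F| := by
    have h := Int.le_of_dvd (abs_pos.mpr hF0) ((dvd_abs _ _).mpr hF)
    have := abs_add_le F 1
    simp at this
    linarith
  have hN' : (117 : ℤ) ≤ N := by exact_mod_cast hN
  have hp : 25 * |P| ≤ 3 * |F| := by
    rcases col_bound hc with hq | rfl
    swap
    · simp
    by_contra hno
    push Not at hno
    set q : ℤ := (|P| - 1) ^ 2 with hq'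
    have hq0 : 0 ≤ q := sq_nonneg _
    have e1' : (n1 : ℤ) = 2 * t1 + 1 := by exact_mod_cast e1
    have hcl' : (c : ℤ) ^ 2 * L ≤ 3 * ((n1 : ℤ) * N) ^ 2 := by
      have h : c ^ 2 * L ≤ 3 * (n1 * N) ^ 2 := hcl.trans (by rw [pow_two, ← mul_assoc 3]; exact Nat.mul_le_mul_right _ hk3)
      exact_mod_cast h
    have h7 : (7 : ℤ) * (((t1 : ℤ) + 1) * q) ^ 2 ≤ 12 * (((t1 : ℤ) + 1) * N) ^ 2 := by
      have a1 : (((t1 : ℤ) + 1) * q) ^ 2 ≤ (c : ℤ) ^ 2 := pow_le_pow_left₀ (by positivity) hq 2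
      have a2 : (7 : ℤ) * (c : ℤ) ^ 2 ≤ (c : ℤ) ^ 2 * L := by
        rw [mul_comm]; exact mul_le_mul_of_nonneg_left (by exact_mod_cast hL) (by positivity)
      have a3 : ((n1 : ℤ) * N) ^ 2 ≤ (2 * ((t1 : ℤ) + 1) * N) ^ 2 :=
        pow_le_pow_left₀ (by positivity) (mul_le_mul_of_nonneg_right (by rw [e1']; linarith) (by positivity)) 2
      nlinarith
    have h7' : 7 * q ^ 2 ≤ 12 * (N : ℤ) ^ 2 := by
      have hpos : (0 : ℤ) < ((t1 : ℤ) + 1) ^ 2 := by positivity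
      refine le_of_mul_le_mul_left ?_ hpos
      linarith
    have h16 : 16 * q ≤ 21 * (N : ℤ) := std_sixteen hq0 (by linarith) h7'
    have hlo : 3 * (N : ℤ) - 28 < 25 * (|P| - 1) := by linarith
    have hsq : (3 * (N : ℤ) - 28) ^ 2 < 625 * q := by
      have := pow_lt_pow_left₀ hlo (by linarith) (show 2 ≠ 0 by norm_num)
      rw [mul_pow] at this
      rw [hq']
      linarith
    exact std_quad hN' h16 hsq
  have hd : 22 * |F| ≤ 25 * |F - P| := by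
    have := abs_sub_abs_le_abs_sub F P
    linarith
  have hd2 : 484 * |F| ^ 2 ≤ 625 * (F - P) ^ 2 := by
    have := pow_le_pow_left₀ (by positivity) hd 2
    rw [mul_pow, mul_pow, sq_abs (F - P)] at this
    linarith
  have hf116 : (116 : ℤ) ≤ |F| := by linarith
  have h2 : 484 * |F| * L ≤ 625 * (n1 : ℤ) * (|F| + 1) := by
    refine le_of_mul_le_mul_right ?_ (lt_of_lt_of_le (by norm_num) hf116)
    nlinarith
  have h3 : (100 : ℤ) * L ≤ 131 * n1 := by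
    refine le_of_mul_le_mul_left ?_ (show (0 : ℤ) < 484 * |F| by positivity)
    nlinarith [Int.natCast_nonneg n1]
  exact_mod_cast h3

theorem coprime_F {m : ℕ} {n1 n2 n3 : ℕ} {F : ℤ} (hm : m = n1 * n2 * n3) (h1 : (n1 : ℤ) ∣ F - 1)
    (h2 : (n2 : ℤ) ∣ F + 1) (h3 : (n3 : ℤ) ∣ F + 1) : F.natAbs.Coprime m := by
  have key : ∀ (n : ℕ) (s : ℤ), s.natAbs = 1 → (n : ℤ) ∣ F + s → F.natAbs.Coprime n := by
    intro n s hs h
    rw [Nat.coprime_iff_gcd_eq_one, ← Nat.dvd_one, ← hs, ← Int.natCast_dvd]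
    have a : ((Nat.gcd F.natAbs n : ℕ) : ℤ) ∣ F := Int.natCast_dvd.mpr (Nat.gcd_dvd_left _ _)
    have b := (Int.natCast_dvd_natCast.mpr (Nat.gcd_dvd_right F.natAbs n)).trans h
    simpa using dvd_sub b a
  subst hm
  exact ((key n1 (-1) rfl (by simpa [← sub_eq_add_neg] using h1)).mul_right (key n2 1 rfl h2)).mul_right
    (key n3 1 rfl h3)

set_option maxHeartbeats 1000000 in
/-- The standard case. -/
theorem std_false {n1 n2 n3 k c : ℕ} {F P : ℤ} (o1 : Odd n1) (h1 : 5 ≤ n1) (h49 : n1 ≤ 49)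
    (q2 : n2 % 4 = 1) (l2 : 5 < n2) (q3 : n3 % 4 = 1) (l3 : 5 < n3) (h12 : n1.Coprime n2)
    (h13 : n1.Coprime n3) (h23 : n2.Coprime n3) (hk : n1 * n2 * n3 < k) (hk3 : k ≤ 3 * (n1 * n2 * n3))
    (hcong : ((n1 * n2 * n3 : ℕ) : ℤ) ∣ (k : ℤ) * bn n1 n2 n3 - 4)
    (hF1 : (n1 : ℤ) ∣ F - 1) (hF2 : (n2 : ℤ) ∣ F + 1) (hF3 : (n3 : ℤ) ∣ F + 1)
    (hFg : F ∣ ((k * (n1 * n2 * n3) : ℕ) : ℤ))
    (hE : (((n1 - 1) / 2 : ℕ) : ℤ) * (1 + F) ^ 2 < ((k * (n1 * n2 * n3) : ℕ) : ℤ))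
    (heq : (n1 : ℤ) * (c : ℤ) ^ 2 * F * (1 + F) = (k : ℤ) * ((n1 * n2 * n3 : ℕ) : ℤ) * (F - P) ^ 2)
    (hcl : c ^ 2 * ((n1 - 1) / 2 + (n2 - 1) / 4 + (n3 - 1) / 4) ≤ k * (n1 * n2 * n3))
    (hc : 1 + P ^ 2 + (((n1 - 1) / 2 : ℕ) : ℤ) * (1 + P) ^ 2 ≤ (c : ℤ)) : False := by
  obtain ⟨t, rfl⟩ := o1
  obtain ⟨a, rfl⟩ : ∃ a, n2 = 4 * a + 1 := ⟨n2 / 4, by omega⟩
  obtain ⟨b, rfl⟩ : ∃ b, n3 = 4 * b + 1 := ⟨n3 / 4, by omega⟩
  have et : (2 * t + 1 - 1) / 2 = t := by omega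
  have ea : (4 * a + 1 - 1) / 4 = a := by omega
  have eb : (4 * b + 1 - 1) / 4 = b := by omega
  rw [et] at hE hc
  rw [et, ea, eb] at hcl
  have hab : a ≠ b := fun h => by
    rw [h, Nat.coprime_self] at h23
    omega
  have hN : 117 ≤ (4 * a + 1) * (4 * b + 1) := by
    rcases lt_or_gt_of_ne hab with h | h
    · exact le_trans (by norm_num) (Nat.mul_le_mul (show 9 ≤ 4 * a + 1 by omega) (show 13 ≤ 4 * b + 1 by omega))
    · exact le_trans (by norm_num) (Nat.mul_le_mul (show 13 ≤ 4 * a + 1 by omega) (show 9 ≤ 4 * b + 1 by omega))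
  have hF23 : (((4 * a + 1) * (4 * b + 1) : ℕ) : ℤ) ∣ F + 1 := by
    rw [Int.natCast_dvd] at hF2 hF3 ⊢
    exact h23.mul_dvd_of_dvd_of_dvd hF2 hF3
  have hF0 : F + 1 ≠ 0 := by
    intro h
    rw [show F - 1 = -((2 : ℕ) : ℤ) by push_cast; linarith, dvd_neg, Int.natCast_dvd_natCast] at hF1
    have := Nat.le_of_dvd (by norm_num) hF1
    omega
  have hL := std_bound (k := k) (c := c) (F := F) (P := P) (n1 := 2 * t + 1) (N := (4 * a + 1) * (4 * b + 1)) (t1 := t) (L := t + a + b) rfl hN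
    (by omega) (by omega) (by rwa [← mul_assoc (2 * t + 1)]) hF23 hF0
    (by rwa [← mul_assoc (2 * t + 1)]) (by rwa [← mul_assoc (2 * t + 1)]) hc
  have hchk := stdOne_true (t := t) (a := a) (b := b) (by omega) (by omega) (by omega) (by omega) (by omega)
    (by omega)
  unfold stdOne at hchk
  rw [if_pos ⟨hL, h12, h13, h23⟩] at hchk
  simp only [Bool.and_eq_true, decide_eq_true_eq] at hchk
  obtain ⟨hx, hK⟩ := hchk
  set m := (2 * t + 1) * (4 * a + 1) * (4 * b + 1) with hm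
  have hmodd : Odd m := by
    rw [hm]
    exact ((odd_two_mul_add_one t).mul (Nat.odd_iff.mpr (by omega))).mul (Nat.odd_iff.mpr (by omega))
  have hm1 : 1 < m := by
    rw [hm, mul_assoc]
    exact lt_of_lt_of_le (by norm_num) (Nat.mul_le_mul (show 1 ≤ 2 * t + 1 by omega) hN)
  rw [bn_cast] at hcong
  have hcop := coprime_of_cong hmodd hcong
  have hkc := k_cases hm1 hk hk3 hcop hx hcong
  have hfk : F.natAbs ∣ k :=
    (coprime_F hm hF1 hF2 hF3).dvd_of_dvd_mul_right (Int.natCast_dvd_natCast.mp (Int.natAbs_dvd.mpr hFg))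
  obtain ⟨j, hj⟩ := hF23
  -- the range of `j`
  have hjsq : j ^ 2 * (t : ℤ) < 3 * ((2 * t + 1 : ℕ) : ℤ) ^ 2 := by
    have h3 : ((k * m : ℕ) : ℤ) ≤ 3 * (m : ℤ) ^ 2 := by
      have : k * m ≤ 3 * m ^ 2 := by rw [pow_two, ← mul_assoc 3]; exact Nat.mul_le_mul_right _ hk3
      exact_mod_cast this
    have h4 := lt_of_lt_of_le hE h3
    rw [add_comm 1 F, hj, hm] at h4
    push_cast at h4 ⊢
    have hpos : (0 : ℤ) < ((4 * (a : ℤ) + 1) * (4 * b + 1)) ^ 2 := by positivity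
    refine lt_of_mul_lt_mul_left ?_ hpos.le
    linarith
  have ht0 : (2 : ℤ) ≤ (t : ℤ) := by exact_mod_cast (show 2 ≤ t by omega)
  have ht1 : (t : ℤ) ≤ 24 := by exact_mod_cast (show t ≤ 24 by omega)
  have hj17 : -17 ≤ j ∧ j ≤ 17 := by
    push_cast at hjsq
    have hj2 : j ^ 2 < 324 := by
      by_contra h
      push Not at h
      have a1 := mul_le_mul_of_nonneg_right h (show (0 : ℤ) ≤ (t : ℤ) by linarith)
      have a2 := mul_nonneg (show (0 : ℤ) ≤ 24 - (t : ℤ) by linarith) (show (0 : ℤ) ≤ (t : ℤ) - 2 by linarith)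
      linarith only [hjsq, a1, a2]
    constructor <;> by_contra h <;> push Not at h
    · nlinarith only [hj2, h]
    · nlinarith only [hj2, h]
  have hmem := List.all_eq_true.mp hK (j + 17).toNat (List.mem_range.mpr (by omega))
  have hE' : (((j + 17).toNat : ℕ) : ℤ) - 17 = j := by omega
  have hjE : j * (((4 * a + 1) * (4 * b + 1) : ℕ) : ℤ) = F + 1 := by rw [hj, mul_comm]
  simp only [hE', hjE] at hmem
  rw [if_pos (Int.emod_eq_zero_of_dvd (by rw [show F + 1 - 2 = F - 1 by ring]; exact hF1)),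
    show F + 1 - 1 = F by ring] at hmem
  simp only [Bool.and_eq_true, Bool.not_eq_true', decide_eq_false_iff_not] at hmem
  rcases hkc with e | e <;> rw [e] at hfk
  · exact hmem.1 (Nat.mod_eq_zero_of_dvd hfk |> fun h => by simpa [hm] using h)
  · exact hmem.2 (Nat.mod_eq_zero_of_dvd hfk |> fun h => by simpa [hm] using h)

theorem spc_quad {M q : ℤ} (hM : 0 < M) (hq : 50 ^ 2 * q > 31 ^ 2 * M ^ 2)
    (h : 540 * q ^ 2 ≤ 75 * (M ^ 2) ^ 2) : False := by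
  have h2 : (31 ^ 2 * M ^ 2) ^ 2 < (50 ^ 2 * q) ^ 2 := pow_lt_pow_left₀ hq (by positivity) (by norm_num)
  have h3 : (0 : ℤ) < (M ^ 2) ^ 2 := by positivity
  linarith

theorem spc_final {f x X Y n : ℤ} (hf : 116 ≤ f) (hn : n = 5) (hx : 60 * x ≤ X) (hY : X ≤ n * Y)
    (hY' : Y = f * (f + 1)) (h : (19 * f - 81) ^ 2 ≤ 2500 * x) : False := by
  subst hn hY'
  nlinarith [mul_le_mul_of_nonneg_right hf (show (0 : ℤ) ≤ f by linarith)]

/-- In the special case the sum of the three `t`'s is below sixty. -/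
theorem spc_bound {n2 n3 k c L : ℕ} {F P : ℤ} (hL : L = 2 + ((n2 - 1) / 4 + (n3 - 1) / 4)) (q2 : n2 % 4 = 1)
    (q3 : n3 % 4 = 1) (hk : 0 < k) (hk3 : k ≤ 3 * (5 * n2 * n3)) (hF0 : F ≠ 0) (hF1 : F + 1 ≠ 0)
    (hF2 : (n2 : ℤ) ∣ F) (hF3 : (n3 : ℤ) ∣ F + 1)
    (heq : ((5 : ℕ) : ℤ) * (c : ℤ) ^ 2 * F * (1 + F) = (k : ℤ) * ((5 * n2 * n3 : ℕ) : ℤ) * (F - P) ^ 2)
    (hcl : c ^ 2 * L ≤ k * (5 * n2 * n3)) (hc : 1 + P ^ 2 + ((2 : ℕ) : ℤ) * (1 + P) ^ 2 ≤ (c : ℤ)) :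
    L < 60 := by
  by_contra hno
  push Not at hno
  have hn2 : 0 < n2 := by omega
  have hn3 : 0 < n3 := by omega
  have hc0 : 0 < c := by
    have h : (0 : ℤ) < (c : ℤ) := lt_of_lt_of_le (by positivity) hc
    exact_mod_cast h
  have hmain := ineq_of_eq (m := 5 * n2 * n3) (by positivity) hc0 heq hcl
  set M := max n2 n3 with hM
  have hM117 : (117 : ℤ) ≤ M := by exact_mod_cast (show 117 ≤ M by omega)
  have hf : (M : ℤ) - 1 ≤ |F| := by
    have h2 := Int.le_of_dvd (abs_pos.mpr hF0) ((dvd_abs _ _).mpr hF2)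
    have h3 := Int.le_of_dvd (abs_pos.mpr hF1) ((dvd_abs _ _).mpr hF3)
    have h4 := abs_add_le F 1
    simp at h4
    rcases max_cases n2 n3 with ⟨e, -⟩ | ⟨e, -⟩ <;> rw [hM, e] <;> linarith
  have hp : 50 * |P| ≤ 31 * (M : ℤ) + 50 := by
    rcases col_bound hc with hq | rfl
    swap
    · simp; linarith
    by_contra h
    push Not at h
    set q : ℤ := (|P| - 1) ^ 2 with hq'
    have hq0 : 0 ≤ q := sq_nonneg _
    have hN : ((n2 * n3 : ℕ) : ℤ) ≤ (M : ℤ) ^ 2 := by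
      have : n2 * n3 ≤ M ^ 2 := by
        rw [pow_two]
        exact Nat.mul_le_mul (le_max_left _ _) (le_max_right _ _)
      exact_mod_cast this
    have hcl' : (c : ℤ) ^ 2 * L ≤ 75 * ((n2 * n3 : ℕ) : ℤ) ^ 2 := by
      have h : c ^ 2 * L ≤ 75 * (n2 * n3) ^ 2 :=
        hcl.trans ((Nat.mul_le_mul_right _ hk3).trans (le_of_eq (by ring)))
      exact_mod_cast h
    have h60 : (60 : ℤ) ≤ L := by exact_mod_cast hno
    have a1 : (3 * q) ^ 2 ≤ (c : ℤ) ^ 2 := pow_le_pow_left₀ (by positivity) (by simpa using hq) 2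
    have a2 : (60 : ℤ) * (c : ℤ) ^ 2 ≤ (c : ℤ) ^ 2 * L := by
      rw [mul_comm]; exact mul_le_mul_of_nonneg_left h60 (by positivity)
    have a3 : ((n2 * n3 : ℕ) : ℤ) ^ 2 ≤ ((M : ℤ) ^ 2) ^ 2 := pow_le_pow_left₀ (by positivity) hN 2
    have a4 : 540 * q ^ 2 ≤ 75 * ((M : ℤ) ^ 2) ^ 2 := by linarith
    have a5 : 50 ^ 2 * q > 31 ^ 2 * (M : ℤ) ^ 2 := by
      have := pow_lt_pow_left₀ (show 31 * (M : ℤ) < 50 * (|P| - 1) by linarith) (by positivity)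
        (show 2 ≠ 0 by norm_num)
      rw [mul_pow, mul_pow] at this
      rw [hq']
      exact this
    exact spc_quad (by linarith) a5 a4
  have hd : 19 * |F| - 81 ≤ 50 * |F - P| := by
    have := abs_sub_abs_le_abs_sub F P
    linarith
  have hd2 : (19 * |F| - 81) ^ 2 ≤ 2500 * (F - P) ^ 2 := by
    have := pow_le_pow_left₀ (by linarith) hd 2
    rw [mul_pow, sq_abs (F - P)] at this
    linarith
  have h60' : (60 : ℤ) * (F - P) ^ 2 ≤ (L : ℤ) * (F - P) ^ 2 :=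
    mul_le_mul_of_nonneg_right (by exact_mod_cast hno) (sq_nonneg _)
  exact spc_final (by linarith) (by norm_num) h60' hmain rfl hd2

theorem prod_bound {x y : ℕ} (h : x + y ≤ 232) : 5 * x * y ≤ 5 * 117 * 117 := by
  have h4 : 4 * x * y ≤ (x + y) ^ 2 := four_mul_le_pow_two_add x y
  have h5 : (x + y) ^ 2 ≤ 232 ^ 2 := Nat.pow_le_pow_left h 2
  linarith

theorem dvd_smooth {k : ℕ} (hk : 0 < k) (hlt : k < 2 ^ 18)
    (h : ∀ p, p.Prime → p ∣ k → p ∈ ({2, 3, 7, 11, 13} : Finset ℕ)) : k ∣ 6006 ^ 18 := by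
  refine (Nat.dvd_iff_prime_pow_dvd_dvd _ k).mpr fun p e hp hpe => ?_
  rcases Nat.eq_zero_or_pos e with rfl | he
  · simp
  have hpk : p ∣ k := (dvd_pow_self p he.ne').trans hpe
  have h6 : p ∣ 6006 := by
    have := h p hp hpk
    fin_cases this <;> norm_num
  have he18 : e ≤ 18 := by
    by_contra hlt'
    push Not at hlt'
    have h1 : 2 ^ e ≤ p ^ e := Nat.pow_le_pow_left hp.two_le e
    have h2 : 2 ^ 18 ≤ 2 ^ e := Nat.pow_le_pow_right (by norm_num) hlt'.le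
    have h3 := Nat.le_of_dvd hk hpe
    omega
  exact (pow_dvd_pow_of_dvd h6 e).trans (pow_dvd_pow _ he18)

set_option maxHeartbeats 1000000 in
/-- The special case `n₁ = 5`. -/
theorem spc_false {n2 n3 k c : ℕ} {F P : ℤ} (q2 : n2 % 4 = 1) (l2 : 5 < n2) (q3 : n3 % 4 = 1) (l3 : 5 < n3)
    (h12 : Nat.Coprime 5 n2) (h13 : Nat.Coprime 5 n3) (h23 : n2.Coprime n3) (t2 : ¬ 3 ∣ n2) (t3 : ¬ 3 ∣ n3)
    (hk : 5 * n2 * n3 < k) (hk3 : k ≤ 3 * (5 * n2 * n3))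
    (hcong : ((5 * n2 * n3 : ℕ) : ℤ) ∣ (k : ℤ) * bn 5 n2 n3 - 4)
    (hF1 : (5 : ℤ) ∣ F - 1) (hF2 : (n2 : ℤ) ∣ F) (hF3 : (n3 : ℤ) ∣ F + 1)
    (hFg : F ∣ ((k * (5 * n2 * n3) : ℕ) : ℤ)) (hEg : 1 + F ∣ ((k * (5 * n2 * n3) : ℕ) : ℤ))
    (hE : 2 * (1 + F) ^ 2 < ((k * (5 * n2 * n3) : ℕ) : ℤ))
    (heq : ((5 : ℕ) : ℤ) * (c : ℤ) ^ 2 * F * (1 + F) = (k : ℤ) * ((5 * n2 * n3 : ℕ) : ℤ) * (F - P) ^ 2)
    (hcl : c ^ 2 * (2 + ((n2 - 1) / 4 + (n3 - 1) / 4)) ≤ k * (5 * n2 * n3))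
    (hc : 1 + P ^ 2 + 2 * (1 + P) ^ 2 ≤ (c : ℤ))
    (hpr : ∀ p : ℕ, p.Prime → p ∣ k * (5 * n2 * n3) →
      p ∣ 5 * n2 * n3 ∨ p ∈ ({2, 3, 5, 7, 11, 13} : Finset ℕ)) : False := by
  have hm0 : 0 < 5 * n2 * n3 := Nat.mul_pos (Nat.mul_pos (by norm_num) (by omega)) (by omega)
  have hg0 : ((k * (5 * n2 * n3) : ℕ) : ℤ) ≠ 0 := by
    have : 0 < k * (5 * n2 * n3) := Nat.mul_pos (by omega) hm0
    exact_mod_cast this.ne'
  have hF0 : F ≠ 0 := fun h => hg0 (by rw [h] at hFg; exact zero_dvd_iff.mp hFg)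
  have hF10 : F + 1 ≠ 0 := fun h => hg0 (by rw [add_comm, h] at hEg; exact zero_dvd_iff.mp hEg)
  have hL : 2 + ((n2 - 1) / 4 + (n3 - 1) / 4) < 60 :=
    spc_bound rfl q2 q3 (by omega) hk3 hF0 hF10 hF2 hF3 heq hcl (by exact_mod_cast hc)
  obtain ⟨a, rfl⟩ : ∃ a, n2 = 4 * a + 1 := ⟨n2 / 4, by omega⟩
  obtain ⟨b, rfl⟩ : ∃ b, n3 = 4 * b + 1 := ⟨n3 / 4, by omega⟩
  have hchk := spcOne_true (a := a) (b := b) (by omega) (by omega) (by omega) (by omega)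
  unfold spcOne at hchk
  have h52 : (4 * a + 1) % 5 ≠ 0 := fun h =>
    absurd (Nat.eq_one_of_dvd_coprimes h12 dvd_rfl (Nat.dvd_of_mod_eq_zero h)) (by norm_num)
  have h53 : (4 * b + 1) % 5 ≠ 0 := fun h =>
    absurd (Nat.eq_one_of_dvd_coprimes h13 dvd_rfl (Nat.dvd_of_mod_eq_zero h)) (by norm_num)
  rw [if_pos ⟨by omega, fun h => t2 (Nat.dvd_of_mod_eq_zero h), fun h => t3 (Nat.dvd_of_mod_eq_zero h), h52,
    h53, h23⟩] at hchk
  simp only [Bool.and_eq_true, decide_eq_true_eq] at hchk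
  obtain ⟨⟨⟨⟨⟨hx, hy⟩, hc1⟩, hc2⟩, hA⟩, hB⟩ := hchk
  set n2 := 4 * a + 1
  set n3 := 4 * b + 1
  set m := 5 * n2 * n3 with hm
  set M := 5 * n2 with hM
  set y := invMod n3 M
  set cc := 1 + n2 * invMod n2 5
  set j0 := cc * y % M with hj0
  have hmodd : Odd m := by
    rw [hm]
    exact ((by decide : Odd 5).mul (Nat.odd_iff.mpr (by omega))).mul (Nat.odd_iff.mpr (by omega))
  rw [bn_cast] at hcong
  have hcop := coprime_of_cong hmodd hcong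
  have hm1 : 1 < m := by
    rw [hm, mul_assoc]
    have := Nat.mul_pos (show 0 < n2 by omega) (show 0 < n3 by omega)
    omega
  have hkc := k_cases hm1 hk hk3 hcop hx hcong
  have hsm : isSmooth k = true := by
    have hm2 : m ≤ 5 * 117 * 117 := prod_bound (by omega)
    unfold isSmooth
    rw [decide_eq_true_eq]
    refine Nat.mod_eq_zero_of_dvd (dvd_smooth (k := k) (by omega) (by omega) fun p hp hpk => ?_)
    have hpm : ¬ p ∣ m := fun h =>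
      hp.one_lt.ne' (Nat.eq_one_of_dvd_coprimes hcop hpk h)
    have h5 : p ≠ 5 := fun h => hpm (by rw [h, hm, mul_assoc]; exact dvd_mul_right _ _)
    have := (hpr p hp (hpk.mul_right _)).resolve_left hpm
    simp only [Finset.mem_insert, Finset.mem_singleton] at this ⊢
    rcases this with e | e | e | e | e | e
    exacts [Or.inl e, Or.inr (Or.inl e), absurd e h5, Or.inr (Or.inr (Or.inl e)),
      Or.inr (Or.inr (Or.inr (Or.inl e))), Or.inr (Or.inr (Or.inr (Or.inr e)))]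
  obtain ⟨j, hj⟩ := hF3
  -- `j` modulo `5 n₂`
  have hMdvd : (M : ℤ) ∣ j - (j0 : ℤ) := by
    have e1 : (M : ℤ) ∣ (n3 : ℤ) * j - (cc : ℤ) := by
      rw [hM, Int.natCast_dvd]
      refine h12.mul_dvd_of_dvd_of_dvd (Int.natCast_dvd.mp ?_) (Int.natCast_dvd.mp ?_)
      · have e : (5 : ℤ) ∣ (cc : ℤ) - 2 := by omega
        rw [← hj, show F + 1 - (cc : ℤ) = (F - 1) - ((cc : ℤ) - 2) by ring]
        exact dvd_sub hF1 e
      · have e : (n2 : ℤ) ∣ (cc : ℤ) - 1 := ⟨(invMod n2 5 : ℤ), by simp [cc]⟩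
        rw [← hj, show F + 1 - (cc : ℤ) = F - ((cc : ℤ) - 1) by ring]
        exact dvd_sub hF2 e
    have e2 : (M : ℤ) ∣ (n3 : ℤ) * (y : ℤ) - 1 := by
      have h := Int.dvd_sub_self_of_emod_eq (show (((n3 * y : ℕ) : ℤ)) % (M : ℤ) = 1 by exact_mod_cast hy)
      rw [← dvd_neg]
      simpa using h
    have e3 : (M : ℤ) ∣ ((cc * y : ℕ) : ℤ) - (j0 : ℤ) := Nat.modEq_iff_dvd.mp (Nat.mod_modEq _ _)
    rw [show j - (j0 : ℤ) = (y : ℤ) * ((n3 : ℤ) * j - cc) - j * ((n3 : ℤ) * y - 1) +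
      (((cc * y : ℕ) : ℤ) - j0) by push_cast; ring]
    exact dvd_add (dvd_sub (e1.mul_left _) (e2.mul_left _)) e3
  obtain ⟨i, hi⟩ := hMdvd
  have hj0lt : (j0 : ℤ) < M := by exact_mod_cast (Nat.mod_lt _ (by omega) : j0 < M)
  have hj0nn : (0 : ℤ) ≤ j0 := Int.natCast_nonneg _
  have hjsq : 2 * j ^ 2 < 3 * (M : ℤ) ^ 2 := by
    have h3 : ((k * m : ℕ) : ℤ) ≤ 3 * (m : ℤ) ^ 2 := by
      have : k * m ≤ 3 * m ^ 2 := by rw [pow_two, ← mul_assoc 3]; exact Nat.mul_le_mul_right _ hk3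
      exact_mod_cast this
    have h4 := lt_of_lt_of_le hE h3
    rw [add_comm 1 F, hj, show (m : ℤ) = (M : ℤ) * n3 by rw [hm, hM]; push_cast; ring] at h4
    have hpos : (0 : ℤ) ≤ (n3 : ℤ) ^ 2 := sq_nonneg _
    refine lt_of_mul_lt_mul_left ?_ hpos
    linarith
  have hMpos : (0 : ℤ) < M := by exact_mod_cast (show 0 < M by omega)
  have hi4 : -2 ≤ i ∧ i ≤ 1 := by
    constructor <;> by_contra h <;> push Not at h
    · have : (M : ℤ) * i ≤ (M : ℤ) * (-3) := mul_le_mul_of_nonneg_left (by omega) hMpos.le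
      nlinarith
    · have : (M : ℤ) * 2 ≤ (M : ℤ) * i := mul_le_mul_of_nonneg_left (by omega) hMpos.le
      nlinarith
  have hEe : ((j0 : ℤ) + ((((i + 2).toNat : ℕ) : ℤ) - 2) * (M : ℤ)) * (n3 : ℤ) = F + 1 := by
    rw [show ((((i + 2).toNat : ℕ) : ℤ) - 2) = i by omega, hj]
    linear_combination -(n3 : ℤ) * hi
  have fin : ∀ g : ℕ, g = k * m → spcK n2 n3 j0 g = true → False := by
    intro g hg h
    have h' := List.all_eq_true.mp h (i + 2).toNat (List.mem_range.mpr (by omega))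
    simp only [← hM, hEe, Bool.not_eq_true', Bool.and_eq_false_iff, decide_eq_false_iff_not] at h'
    subst hg
    rw [show F + 1 - 1 = F by ring] at h'
    rcases h' with (h' | h') | h'
    · exact h' (by rw [add_comm F 1]; exact hE)
    · exact h' (Nat.mod_eq_zero_of_dvd (by
        rw [add_comm F 1]; exact Int.natCast_dvd_natCast.mp ((Int.natAbs_dvd).mpr hEg)))
    · exact h' (Nat.mod_eq_zero_of_dvd (Int.natCast_dvd_natCast.mp ((Int.natAbs_dvd).mpr hFg)))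
  rcases hkc with e | e
  · rw [← e] at hA
    simp only [hsm, Bool.not_true, Bool.false_or] at hA
    exact fin _ rfl hA
  · rw [← e] at hB
    simp only [hsm, Bool.not_true, Bool.false_or] at hB
    exact fin _ rfl hB

end CfsgLib.SuzukiSC
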