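import Mathlib
import Cfsg.Prelude.Def_Sz

/-!
# Suzuki groups by a self-centralisation system: shared definitions

See `notes/s3240_plan.md`.  `Setting` packs the hypotheses; `InR` is the set of elements in no conjugate
of the three subgroups; `ColBound` and `Mixed` are the outputs of the local lemma.
-/

set_option autoImplicit false

namespace CfsgLib.SuzukiSC

/-- The indices `[N(A i) : A i]`. -/
def eIdx : Fin 3 → ℕ := ![2, 4, 4]

/-- The hypotheses on the three subgroups. -/
structure Setting (G : Type*) [Group G] [Finite G] where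
  A : Fin 3 → Subgroup G
  sc : ∀ i, ∀ a ∈ A i, a ≠ 1 → Subgroup.centralizer ({a} : Set G) = A i
  nc : ∀ i j, i ≠ j → ∀ g : G, (A i).map (MulAut.conj g).toMonoidHom ≠ A j
  idx : ∀ i, (A i).relIndex (Subgroup.normalizer (A i : Set G)) = eIdx i
  five : 5 ≤ Nat.card ↥(A 0)
  six : ∀ i, i ≠ 0 → 5 < Nat.card ↥(A i)
  ord : Nat.card G ≤ 3 * Nat.card ↥(A 0) ^ 2 * Nat.card ↥(A 1) ^ 2 * Nat.card ↥(A 2) ^ 2
  ab : ∀ r : ℕ, r.Prime → r ≠ 2 → ¬ r ∣ Nat.card ↥(A 0) * Nat.card ↥(A 1) * Nat.card ↥(A 2) →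
    ∀ P : Sylow r G, IsMulCommutative ↥(P : Subgroup G)

variable {G : Type*} [Group G] [Finite G]

/-- The order of `A i`. -/
noncomputable def Setting.n (S : Setting G) (i : Fin 3) : ℕ := Nat.card ↥(S.A i)

/-- The product of the three orders. -/
noncomputable def Setting.m (S : Setting G) : ℕ := S.n 0 * S.n 1 * S.n 2

/-- The number of classes of `A i` outside the identity. -/
noncomputable def Setting.t (S : Setting G) (i : Fin 3) : ℕ := (S.n i - 1) / eIdx i

/-- A non-identity element in no conjugate of the three subgroups. -/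
def Setting.InR (S : Setting G) (y : G) : Prop :=
  y ≠ 1 ∧ ∀ (i : Fin 3) (g : G), g * y * g⁻¹ ∉ S.A i

/-- The conjugacy classes meeting `InR`. -/
def Setting.RClasses (S : Setting G) : Set (ConjClasses G) :=
  {C | ∃ y, S.InR y ∧ ConjClasses.mk y = C}

/-- The two-part of the group: all involutions are conjugate. -/
def OneInvolClass (G : Type*) [Group G] : Prop :=
  ∀ i j : G, orderOf i = 2 → orderOf j = 2 → IsConj i j

/-- An involution centralises an element of odd prime order. -/
def Mixed (G : Type*) [Group G] : Prop :=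
  ∃ i x : G, orderOf i = 2 ∧ (orderOf x).Prime ∧ orderOf x ≠ 2 ∧ i * x = x * i

/-- The bound on the small centraliser, for `r = 3` and `r = 5`. -/
def colM (r : ℕ) : ℕ := if r = 3 then 25 else 11

/-- A rational element outside the three subgroups with a small centraliser. -/
def Setting.ColBound (S : Setting G) (r : ℕ) : Prop :=
  ∃ y, S.InR y ∧ (∀ j : ℕ, j.Coprime (orderOf y) → IsConj y (y ^ j)) ∧
    Nat.card ↥(Subgroup.centralizer ({y} : Set G)) ≤ colM r

/-- The odd part of `|G|/m` outside the centraliser of an involution is tiny. -/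
def Setting.SmallU (S : Setting G) (r : ℕ) : Prop :=
  ∀ i : G, orderOf i = 2 → ∃ u, (r = 3 ∧ u ∣ 3 ∨ u = 1) ∧
    Nat.card G = S.m * u * Nat.card ↥(Subgroup.centralizer ({i} : Set G))

/-- `2 n₂ n₃ + n₁ n₃ + n₁ n₂`. -/
def bn (n1 n2 n3 : ℕ) : ℤ := 2 * (n2 : ℤ) * n3 + (n1 : ℤ) * n3 + (n1 : ℤ) * n2

/-!
Exports (one file each):

* `Family` (piece A): the family of a strongly self-centralising subgroup, with values.
* `Local` (piece C):
  `theorem local_cases (S : Setting G) (h5 : S.RClasses.ncard ≤ 5) (h1 : OneInvolClass G)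
     (hv : ∃ v : G, orderOf v = 4) (hmix : Mixed G) :
     ∃ r, (r = 3 ∨ r = 5) ∧ ¬ r ∣ S.m ∧ 4 ≤ S.RClasses.ncard ∧
       (∀ p : ℕ, p.Prime → p ∣ Nat.card G → p ∣ S.m ∨ p ∈ ({2, 3, 5, 7, 11, 13} : Finset ℕ)) ∧
       (S.SmallU r ∨ S.ColBound r)`
* `Arith` (piece D): the finite checks, statements below are on bare numbers.
* `Endgame` (piece E):
  `theorem isoSuzuki_of_cit (S : Setting G) [IsSimpleGroup G] (hnc : ¬ IsMulCommutative G)
     (hcit : ¬ Mixed G) : Cfsg.Lie.IsoSuzuki G`
-/

end CfsgLib.SuzukiSC
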