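import Cfsg.Agent.Lib.SuzukiSC.NotMixed
import Cfsg.Agent.Lib.Char.Galois

/-!
# Columns of the table at involutions and at rational elements outside the three subgroups
-/

set_option autoImplicit false
set_option linter.style.haveILetI false
set_option linter.unusedSectionVars false

namespace CfsgLib.SuzukiSC

open Cfsg CfsgLib
open scoped CfsgLib.Char _root_.Classical ComplexConjugate

variable {G : Type*} [Group G] [Finite G]

/-- A character is an integer at a rational element. -/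
theorem int_value {y : G} (h : ∀ j : ℕ, j.Coprime (orderOf y) → IsConj y (y ^ j))
    (φ : IrrCharacter G) : ∃ z : ℤ, (φ : G → ℂ) y = z := by
  have hc := Char.isCharacter_of_isIrr φ.2
  obtain ⟨q, hq⟩ := (Char.rat_value_iff hc y).2 fun k hk =>
    (Char.eq_of_isConj (Char.isClassFunction_irr φ)
      (h k (hk.coprime_dvd_right (orderOf_dvd_natCard y)))).symm
  obtain ⟨z, hz⟩ := Char.exists_int_of_isIntegral_rat (hq ▸ Char.isIntegral_value hc y)
  exact ⟨z, by rw [hq, hz]; norm_num⟩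

theorem rational_of_two {x : G} (hx : orderOf x = 2) (j : ℕ) (hj : j.Coprime (orderOf x)) :
    IsConj x (x ^ j) := by
  rw [hx, Nat.coprime_two_right, Nat.odd_iff] at hj
  rw [← pow_mod_orderOf, hx, hj, pow_one]

namespace Table

variable {S : Setting G} (T : Table S)

theorem X_at {i : Fin 3} {φ : IrrCharacter G} (hφ : φ ∈ T.F i) {g : G} (hg : g ∉ S.dSet i) :
    (φ : G → ℂ) g = (T.X i : G → ℂ) g := T.agree i φ hφ g hg

theorem zero_family {i : Fin 3} (hi : i ≠ 0) {φ : IrrCharacter G} (hφ : φ ∈ T.F i) {a : G}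
    (ha : a ∈ S.A 0) (h1 : a ≠ 1) : (φ : G → ℂ) a = 0 :=
  T.zero_val φ (Finset.disjoint_left.1 (T.disj i 0 hi) hφ)
    (fun e => T.triv_notMem i (e ▸ hφ)) (fun e => T.psi_notMem i (e ▸ hφ)) a ha h1

/-- The column of `A 0` against another column. -/
theorem orth {g : G} (hg : g ∉ S.dSet 0) :
    1 + (T.dl : ℂ) * conj ((T.psi : G → ℂ) g) + (T.s 0 : ℂ) * conj ((T.X 0 : G → ℂ) g) = 0 := by
  obtain ⟨a, ha, a1⟩ := S.exists_ne_one 0
  have h := Char.column_orthogonality a g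
  rw [if_neg fun e => hg (S.dSet_conj e (S.mem_dSet ha a1)), T.split] at h
  have z : ∀ i : Fin 3, i ≠ 0 → ∑ φ ∈ T.F i, (φ : G → ℂ) a * conj ((φ : G → ℂ) g) = 0 :=
    fun i hi => Finset.sum_eq_zero fun φ hφ => by rw [T.zero_family hi hφ ha a1, zero_mul]
  rw [z 1 (by decide), z 2 (by decide), Finset.sum_eq_zero (s := T.restSet) fun φ hφ => by
      obtain ⟨h1, h2, h3⟩ := T.mem_restSet.1 hφ
      rw [T.zero_val φ (h3 0) h1 h2 a ha a1, zero_mul],
    Finset.sum_congr rfl fun φ hφ => by rw [T.X_at hφ hg],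
    ← Finset.sum_mul, T.sum_F 0 a ha a1, T.psi_val a ha a1,
    show (Blocks.trivIrr G : G → ℂ) a * conj ((Blocks.trivIrr G : G → ℂ) g) = 1 by
      simp [Blocks.trivIrr], add_zero, add_zero, add_zero] at h
  exact h

/-- The common degree of the first family, with sign. -/
theorem X_degree : (T.s 0 : ℤ) * (charDegree (T.X 0 : G → ℂ) : ℤ) = -(1 + T.bigF) := by
  have h := T.orth (g := 1) fun h => h.1 rfl
  rw [value_one_eq, value_one_eq, map_intCast, map_intCast] at h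
  have h' : 1 + T.dl * (charDegree (T.psi : G → ℂ) : ℤ) +
      T.s 0 * (charDegree (T.X 0 : G → ℂ) : ℤ) = 0 := by exact_mod_cast h
  rw [Table.bigF]; linarith

theorem degree_dvd (φ : IrrCharacter G) :
    (charDegree (φ : G → ℂ) : ℤ) ∣ (Nat.card G : ℤ) := by
  obtain ⟨n, hn, -, hd⟩ := Char.exists_degree_dvd_card φ.2
  have e : (n : ℂ) = (charDegree (φ : G → ℂ) : ℂ) := hn.symm.trans (Blocks.irr_degree_eq φ).1
  rw [← Nat.cast_inj.1 e]
  exact Int.natCast_dvd_natCast.2 hd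

theorem bigF_dvd : T.bigF ∣ (Nat.card G : ℤ) :=
  (Int.isUnit_iff.2 T.dl_sq).mul_left_dvd.2 (degree_dvd T.psi)

theorem bigE_dvd : 1 + T.bigF ∣ (Nat.card G : ℤ) := by
  rw [← neg_dvd, ← T.X_degree]
  exact (Int.isUnit_iff.2 T.s_zero).mul_left_dvd.2 (degree_dvd (T.X 0))

theorem sq_lt_card : (S.t 0 : ℤ) * (1 + T.bigF) ^ 2 < (Nat.card G : ℤ) := by
  haveI := Fintype.ofFinite G
  have hsum : ∑ φ : IrrCharacter G, (charDegree (φ : G → ℂ) : ℤ) ^ 2 = Nat.card G := by
    have h := Char.sum_sq_degree (G := G)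
    rw [Finset.sum_congr rfl fun φ _ => by rw [value_one_eq]] at h
    exact_mod_cast h
  have hsq : (1 + T.bigF) ^ 2 = (charDegree (T.X 0 : G → ℂ) : ℤ) ^ 2 := by
    rw [← neg_sq, ← T.X_degree, mul_pow]
    rcases T.s_zero with h | h <;> rw [h] <;> ring
  have heq : ∀ φ ∈ T.F 0, (charDegree (φ : G → ℂ) : ℤ) ^ 2 = (1 + T.bigF) ^ 2 := fun φ hφ => by
    have e := T.X_at hφ (g := 1) fun h => h.1 rfl
    rw [value_one_eq, value_one_eq, Int.cast_inj] at e
    rw [hsq, e]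
  rw [← hsum, T.split, Finset.sum_congr rfl heq, Finset.sum_const, T.card_F, nsmul_eq_mul]
  have h1 : 1 ≤ (charDegree (Blocks.trivIrr G : G → ℂ) : ℤ) ^ 2 :=
    one_le_pow₀ (Int.ofNat_le.2 (Blocks.irr_degree_eq (Blocks.trivIrr G)).2)
  have n0 := sq_nonneg (charDegree (T.psi : G → ℂ) : ℤ)
  have nn : ∀ s : Finset (IrrCharacter G), 0 ≤ ∑ φ ∈ s, (charDegree (φ : G → ℂ) : ℤ) ^ 2 :=
    fun s => Finset.sum_nonneg fun φ _ => sq_nonneg _
  have := nn (T.F 1)
  have := nn (T.F 2)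
  have := nn T.restSet
  linarith

theorem bigF_modEq : (S.n 0 : ℤ) ∣ T.bigF - 1 := by
  have h := S.congr_of_zero (j := 0) (φ := T.psi) (c := T.dl) fun a ha h1 => T.psi_val a ha h1
  have hd : T.bigF - 1 = T.dl * ((charDegree (T.psi : G → ℂ) : ℤ) - T.dl) := by
    rw [Table.bigF]; rcases T.dl_sq with e | e <;> rw [e] <;> ring
  rw [hd]
  exact h.mul_left _

/-- The number of pairs of conjugates of an involution with product in `A 0`. -/
theorem pairs_eq {x : G} (hx : orderOf x = 2) {a : G} (ha : a ∈ S.A 0) (a1 : a ≠ 1) :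
    ∃ q v : ℤ, (T.psi : G → ℂ) x = q ∧ (T.X 0 : G → ℂ) x = v ∧ 1 + T.dl * q + T.s 0 * v = 0 ∧
      (Nat.card (Setting.Pairs x a) : ℤ) *
        (Nat.card ↥(Subgroup.centralizer ({x} : Set G)) : ℤ) ^ 2 * T.bigF * (1 + T.bigF) =
      (Nat.card G : ℤ) * (T.bigF - T.dl * q) ^ 2 := by
  obtain ⟨q, hq⟩ := int_value (rational_of_two hx) T.psi
  obtain ⟨v, hv⟩ := int_value (rational_of_two hx) (T.X 0)
  have hR : S.InR x := S.inR_of_two_pow (a := 0) (by rw [hx]; rfl)
  have hnd : ∀ i, x ∉ S.dSet i := fun i h => S.not_inR_of_dSet h hR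
  have ho : 1 + T.dl * q + T.s 0 * v = 0 := by
    have h := T.orth (hnd 0)
    rw [hq, hv, map_intCast, map_intCast] at h
    exact_mod_cast h
  refine ⟨q, v, hq, hv, ho, ?_⟩
  haveI := Fintype.ofFinite G
  set f : ℤ := (charDegree (T.psi : G → ℂ) : ℤ) with hf
  set x0 : ℤ := (charDegree (T.X 0 : G → ℂ) : ℤ) with hx0
  set N := Nat.card (Setting.Pairs x a)
  set c := Nat.card ↥(Subgroup.centralizer ({x} : Set G))
  set I := (Subgroup.centralizer ({x} : Set G)).index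
  have hcI : (c : ℤ) * I = Nat.card G := by exact_mod_cast Subgroup.card_mul_index _
  have hg0 : (Nat.card G : ℂ) ≠ 0 := Nat.cast_ne_zero.2 Nat.card_pos.ne'
  have hfpos : (f : ℂ) ≠ 0 := Int.cast_ne_zero.2 (by have := (Blocks.irr_degree_eq T.psi).2; omega)
  have hxpos : (x0 : ℂ) ≠ 0 := Int.cast_ne_zero.2 (by have := (Blocks.irr_degree_eq (T.X 0)).2; omega)
  have hmul : (N : ℂ) = (I : ℂ) * I / (Nat.card G : ℂ) *
      (1 + (q : ℂ) * q * T.dl / f + (v : ℂ) * v * T.s 0 / x0) := by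
    refine (Char.class_mult x x a).trans ?_
    have z : ∀ i : Fin 3, i ≠ 0 → ∑ φ ∈ T.F i, (φ : G → ℂ) x * (φ : G → ℂ) x *
        conj ((φ : G → ℂ) a) / (φ : G → ℂ) 1 = 0 := fun i hi => Finset.sum_eq_zero fun φ hφ => by
      rw [T.zero_family hi hφ ha a1, map_zero, mul_zero, zero_div]
    rw [T.split, z 1 (by decide), z 2 (by decide),
      Finset.sum_eq_zero (s := T.restSet) fun φ hφ => by
        obtain ⟨h1, h2, h3⟩ := T.mem_restSet.1 hφ
        rw [T.zero_val φ (h3 0) h1 h2 a ha a1, map_zero, mul_zero, zero_div],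
      Finset.sum_congr rfl (g := fun φ : IrrCharacter G => (v : ℂ) * v / x0 * conj ((φ : G → ℂ) a)) fun φ hφ => by
        rw [T.X_at hφ (hnd 0), T.X_at hφ (g := 1) (fun h => h.1 rfl), hv, value_one_eq (T.X 0)]
        ring,
      ← Finset.mul_sum, ← map_sum, T.sum_F 0 a ha a1, hq, T.psi_val a ha a1, value_one_eq T.psi,
      map_intCast, map_intCast,
      show (Blocks.trivIrr G : G → ℂ) x * (Blocks.trivIrr G : G → ℂ) x *
        conj ((Blocks.trivIrr G : G → ℂ) a) / (Blocks.trivIrr G : G → ℂ) 1 = 1 by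
        simp [Blocks.trivIrr]]
    ring
  have hint : (N : ℤ) * Nat.card G * f * x0 =
      (I : ℤ) * I * (f * x0 + q * q * T.dl * x0 + v * v * T.s 0 * f) := by
    refine Int.cast_injective (α := ℂ) ?_
    push_cast
    rw [hmul]
    field_simp
    try ring
  have hX : T.s 0 * x0 = -(1 + T.bigF) := T.X_degree
  have hF : T.bigF = T.dl * f := rfl
  refine mul_left_cancel₀ (Int.natCast_ne_zero.2 (Nat.card_pos (α := G)).ne') ?_
  rw [← hcI] at hint ⊢
  rcases T.dl_sq with d | d <;> rcases T.s_zero with s | s <;> rw [d] at hF hint ho ⊢ <;>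
    rw [s] at hX hint ho
  · rw [show x0 = -(1 + T.bigF) by linarith, show v = -(1 + q) by linarith, hF] at hint
    rw [hF]
    linear_combination -(c : ℤ) ^ 2 * hint
  · rw [show x0 = 1 + T.bigF by linarith, show v = 1 + q by linarith, hF] at hint
    rw [hF]
    linear_combination (c : ℤ) ^ 2 * hint
  · rw [show x0 = -(1 + T.bigF) by linarith, show v = -(1 - q) by linarith, hF] at hint
    rw [hF]
    linear_combination (c : ℤ) ^ 2 * hint
  · rw [show x0 = 1 + T.bigF by linarith, show v = 1 - q by linarith, hF] at hint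
    rw [hF]
    linear_combination -(c : ℤ) ^ 2 * hint

theorem oneInvol [IsSimpleGroup G] (T : Table S) : OneInvolClass G := by
  obtain ⟨a, ha, a1⟩ := S.exists_ne_one 0
  refine S.oneInvol_of_pairs ha a1 fun x hx h0 => ?_
  obtain ⟨q, v, hq, -, -, he⟩ := T.pairs_eq hx ha a1
  rw [h0, Nat.cast_zero, zero_mul, zero_mul, zero_mul] at he
  rcases mul_eq_zero.1 he.symm with h | h
  · exact Nat.card_pos.ne' (Int.natCast_eq_zero.1 h)
  · have hF := pow_eq_zero_iff two_ne_zero |>.1 h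
    rw [Table.bigF, ← mul_sub, mul_eq_zero] at hF
    rcases hF with hF | hF
    · rcases T.dl_sq with d | d <;> omega
    · have := BrauerReynolds.faithful_of_simple T.psi_ne (g := x)
        (by rw [hq, value_one_eq, sub_eq_zero.1 hF])
      rw [this, orderOf_one] at hx
      omega

/-- The column of a rational element outside the three subgroups. -/
theorem column {y : G} (hy : S.InR y) (hr : ∀ j : ℕ, j.Coprime (orderOf y) → IsConj y (y ^ j)) :
    ∃ z : IrrCharacter G → ℤ, (∀ φ : IrrCharacter G, (φ : G → ℂ) y = z φ) ∧ 1 + T.dl * z T.psi + T.s 0 * z (T.X 0) = 0 ∧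
      1 + z T.psi ^ 2 + (S.t 0 : ℤ) * z (T.X 0) ^ 2 + (S.t 1 : ℤ) * z (T.X 1) ^ 2 +
        (S.t 2 : ℤ) * z (T.X 2) ^ 2 ≤ Nat.card ↥(Subgroup.centralizer ({y} : Set G)) := by
  choose z hz using int_value hr
  have hnd : ∀ i, y ∉ S.dSet i := fun i h => S.not_inR_of_dSet h hy
  refine ⟨z, hz, ?_, ?_⟩
  · have h := T.orth (hnd 0)
    rw [hz, hz, map_intCast, map_intCast] at h
    exact_mod_cast h
  · have hsum : ∑ φ : IrrCharacter G, z φ ^ 2 = Nat.card ↥(Subgroup.centralizer ({y} : Set G)) := by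
      have h := Char.column_orthogonality y y
      rw [if_pos (IsConj.refl y), Finset.sum_congr rfl fun φ _ => by
        rw [hz φ, map_intCast, ← Int.cast_mul, ← pow_two], ← Int.cast_sum] at h
      exact_mod_cast h
    have hF : ∀ i, ∑ φ ∈ T.F i, z φ ^ 2 = S.t i * z (T.X i) ^ 2 := fun i => by
      rw [Finset.sum_congr rfl fun φ hφ => show z φ ^ 2 = z (T.X i) ^ 2 by
        have e := T.X_at hφ (hnd i)
        rw [hz, hz, Int.cast_inj] at e
        rw [e], Finset.sum_const, T.card_F, nsmul_eq_mul]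
    have htriv : z (Blocks.trivIrr G) = 1 :=
      Int.cast_injective (α := ℂ) ((hz _).symm.trans Int.cast_one.symm)
    have hrest : 0 ≤ ∑ φ ∈ T.restSet, z φ ^ 2 := Finset.sum_nonneg fun φ _ => sq_nonneg _
    rw [← hsum, T.split, hF, hF, hF, htriv]
    linarith

theorem invol [IsSimpleGroup G] (T : Table S) {x : G} (hx : orderOf x = 2) : ∃ P : ℤ,
    (S.n 0 : ℤ) * (Nat.card ↥(Subgroup.centralizer ({x} : Set G)) : ℤ) ^ 2 * T.bigF * (1 + T.bigF) =
      (Nat.card G : ℤ) * (T.bigF - P) ^ 2 ∧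
    1 + P ^ 2 + (S.t 0 : ℤ) * (1 + P) ^ 2 ≤ Nat.card ↥(Subgroup.centralizer ({x} : Set G)) := by
  obtain ⟨a, ha, a1⟩ := S.exists_ne_one 0
  obtain ⟨q, v, hq, hv, ho, he⟩ := T.pairs_eq hx ha a1
  have hN : Nat.card (Setting.Pairs x a) = S.n 0 :=
    le_antisymm (S.pairs_le hx ha a1) (S.le_pairs T.oneInvol hx (S.mem_dSet ha a1))
  refine ⟨T.dl * q, by rw [← he, hN], ?_⟩
  obtain ⟨z, hz, -, hb⟩ := T.column (S.inR_of_two_pow (a := 0) (by rw [hx]; rfl))
    (rational_of_two hx)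
  have e1 : z T.psi = q := Int.cast_injective (α := ℂ) ((hz _).symm.trans hq)
  have e2 : z (T.X 0) = v := Int.cast_injective (α := ℂ) ((hz _).symm.trans hv)
  rw [e1, e2] at hb
  have h2 : v ^ 2 = (1 + T.dl * q) ^ 2 := by
    rw [show 1 + T.dl * q = -(T.s 0 * v) by linarith, neg_sq, mul_pow]
    rcases T.s_zero with h | h <;> rw [h] <;> ring
  have h3 : (T.dl * q) ^ 2 = q ^ 2 := by rcases T.dl_sq with h | h <;> rw [h] <;> ring
  rw [h2] at hb
  rw [h3]
  have : 0 ≤ (S.t 1 : ℤ) * z (T.X 1) ^ 2 := by positivity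
  have : 0 ≤ (S.t 2 : ℤ) * z (T.X 2) ^ 2 := by positivity
  linarith

theorem std_column (h : T.Std) {y : G} (hy : S.InR y)
    (hr : ∀ j : ℕ, j.Coprime (orderOf y) → IsConj y (y ^ j)) :
    ∃ P X2 X3 : ℤ, 1 + P ^ 2 + (S.t 0 : ℤ) * (1 + P) ^ 2 + (S.t 1 : ℤ) * X2 ^ 2 +
        (S.t 2 : ℤ) * X3 ^ 2 ≤ Nat.card ↥(Subgroup.centralizer ({y} : Set G)) ∧
      2 - 2 * P + T.s 1 * X2 + T.s 2 * X3 = 0 := by
  obtain ⟨z, hz, ho, hb⟩ := T.column hy hr
  obtain ⟨a, ha, a1⟩ := S.exists_ne_one 1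
  obtain ⟨b, hb', b1⟩ := S.exists_ne_one 2
  obtain ⟨hpa, hpb, h2a, h1b, hrest⟩ := h.2.2 a ha a1 b hb' b1
  have hno : ∀ i : Fin 3, ∀ d ∈ S.A i, d ≠ 1 → ¬ IsConj d y := fun i d hd d1 e =>
    S.not_inR_of_dSet (S.dSet_conj e (S.mem_dSet hd d1)) hy
  refine ⟨T.dl * z T.psi, z (T.X 1), z (T.X 2), ?_, ?_⟩
  · have h2 : z (T.X 0) ^ 2 = (1 + T.dl * z T.psi) ^ 2 := by
      rw [show 1 + T.dl * z T.psi = -(T.s 0 * z (T.X 0)) by linarith, neg_sq, mul_pow]
      rcases T.s_zero with h | h <;> rw [h] <;> ring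
    have h3 : (T.dl * z T.psi) ^ 2 = z T.psi ^ 2 := by
      rcases T.dl_sq with h | h <;> rw [h] <;> ring
    rw [h2] at hb
    rwa [h3]
  · have hnd : ∀ i, y ∉ S.dSet i := fun i h => S.not_inR_of_dSet h hy
    have ea := Char.column_orthogonality a y
    have eb := Char.column_orthogonality b y
    rw [if_neg (hno 1 a ha a1)] at ea
    rw [if_neg (hno 2 b hb' b1)] at eb
    have e : ∑ φ : IrrCharacter G, ((φ : G → ℂ) a + (φ : G → ℂ) b) * (z φ : ℂ) = 0 := by
      rw [← add_zero (0 : ℂ)]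
      conv_rhs => arg 1; rw [← ea]
      conv_rhs => arg 2; rw [← eb]
      rw [← Finset.sum_add_distrib]
      exact Finset.sum_congr rfl fun φ _ => by rw [hz φ, map_intCast, add_mul]
    have f1 : ∀ φ ∈ T.F 1, (φ : G → ℂ) b = 0 := fun φ hφ => by
      rw [T.value_on (by decide) hφ hb' b1, h1b]
    have f2 : ∀ φ ∈ T.F 2, (φ : G → ℂ) a = 0 := fun φ hφ => by
      rw [T.value_on (by decide) hφ ha a1, h2a]
    have zz : ∀ i, ∀ φ ∈ T.F i, z φ = z (T.X i) := fun i φ hφ => by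
      have e := T.X_at hφ (hnd i)
      rwa [hz, hz, Int.cast_inj] at e
    rw [T.split, hpa, hpb,
      Finset.sum_eq_zero (s := T.F 0) fun φ hφ => by
        rw [hrest φ (fun e => T.triv_notMem 0 (e ▸ hφ)) (fun e => T.psi_notMem 0 (e ▸ hφ))
          (Finset.disjoint_left.1 (T.disj 0 1 (by decide)) hφ)
          (Finset.disjoint_left.1 (T.disj 0 2 (by decide)) hφ), zero_mul],
      Finset.sum_eq_zero (s := T.restSet) fun φ hφ => by
        obtain ⟨h1, h2, h3⟩ := T.mem_restSet.1 hφ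
        rw [hrest φ h1 h2 (h3 1) (h3 2), zero_mul],
      Finset.sum_congr rfl fun φ hφ => by rw [f1 φ hφ, add_zero, zz 1 φ hφ],
      ← Finset.sum_mul, T.sum_F 1 a ha a1,
      Finset.sum_congr rfl fun φ hφ => by rw [f2 φ hφ, zero_add, zz 2 φ hφ],
      ← Finset.sum_mul, T.sum_F 2 b hb' b1,
      show (Blocks.trivIrr G : G → ℂ) a = 1 from rfl,
      show (Blocks.trivIrr G : G → ℂ) b = 1 from rfl,
      show z (Blocks.trivIrr G) = 1 from
        Int.cast_injective (α := ℂ) ((hz _).symm.trans Int.cast_one.symm)] at e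
    refine Int.cast_injective (α := ℂ) ?_
    push_cast
    push_cast at e
    linear_combination e

end Table

/-- The column data. -/
theorem colData [IsSimpleGroup G] {S : Setting G} (T : Table S) : ColData T where
  dvd_F := T.bigF_dvd
  dvd_E := T.bigE_dvd
  lt_card := T.sq_lt_card
  modEq := T.bigF_modEq
  one := T.oneInvol
  invol := fun _ hx => T.invol hx
  std := fun h _ hy hr => T.std_column h hy hr

end CfsgLib.SuzukiSC
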