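import Cfsg.Agent.Lib.SuzukiSC.Facts

/-!
# Suzuki groups by a self-centralisation system: counting classes and pairs of involutions

The conjugates of `A i \ {1}` form `t i` classes with `t i * |G| / n i` elements.  The rest gives the
congruence `m ∣ k * bn - 4`; every non-identity element of `A i` is a product of `n i` pairs of involutions.
-/

set_option autoImplicit false
set_option linter.style.haveILetI false
set_option linter.unusedSectionVars false

namespace CfsgLib.SuzukiSC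

open CfsgLib

variable {G : Type*} [Group G] [Finite G]

namespace Setting

variable (S : Setting G)

/-- The conjugates of `A i \ {1}`. -/
def dSet (i : Fin 3) : Set G := {x | x ≠ 1 ∧ ∃ h : G, h * x * h⁻¹ ∈ S.A i}

/-- The elements outside the conjugates of the three subgroups. -/
def rSet : Set G := {x | S.InR x}

theorem dSet_conj {i : Fin 3} {x y : G} (h : IsConj x y) (hx : x ∈ S.dSet i) : y ∈ S.dSet i := by
  obtain ⟨c, rfl⟩ := isConj_iff.1 h
  obtain ⟨h1, d, hd⟩ := hx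
  refine ⟨fun e => h1 (conj_eq_one_iff.1 e), d * c⁻¹, ?_⟩
  rwa [show d * c⁻¹ * (c * x * c⁻¹) * (d * c⁻¹)⁻¹ = d * x * d⁻¹ by group]

theorem mem_dSet {i : Fin 3} {a : G} (ha : a ∈ S.A i) (h1 : a ≠ 1) : a ∈ S.dSet i :=
  ⟨h1, 1, by simpa using ha⟩

theorem dSet_disjoint {i j : Fin 3} {x : G} (hi : x ∈ S.dSet i) (hj : x ∈ S.dSet j) : i = j :=
  S.eq_index hi.1 hi.2.choose_spec hj.2.choose_spec

theorem not_inR_of_dSet {i : Fin 3} {x : G} (h : x ∈ S.dSet i) : ¬ S.InR x := fun hR =>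
  hR.2 i h.2.choose h.2.choose_spec

theorem dSet_or_inR {x : G} (h : x ≠ 1) : S.InR x ∨ ∃ i, x ∈ S.dSet i :=
  (S.inR_or h).imp_right fun ⟨i, g, hg⟩ => ⟨i, h, g, hg⟩

theorem card_centralizer_dSet {i : Fin 3} {a : G} (ha : a ∈ S.A i) (h1 : a ≠ 1) :
    Nat.card ↥(Subgroup.centralizer ({a} : Set G)) = S.n i := by rw [S.sc i a ha h1]; rfl

/-- A class meets `A i \ {1}` in none or `e i` elements. -/
theorem card_fusion (i : Fin 3) {a : G} (ha : a ∈ S.A i) (h1 : a ≠ 1) :
    Nat.card {b : {b : G // b ∈ S.A i ∧ b ≠ 1} // IsConj a b.1} = eIdx i := by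
  classical
  set N := Subgroup.normalizer (S.A i : Set G) with hN
  haveI := Fintype.ofFinite {b : {b : G // b ∈ S.A i ∧ b ≠ 1} // IsConj a b.1}
  let φ : N → {b : {b : G // b ∈ S.A i ∧ b ≠ 1} // IsConj a b.1} := fun x =>
    ⟨⟨(x : G) * a * (x : G)⁻¹, (Subgroup.mem_normalizer_iff.1 x.2 a).1 ha,
      fun e => h1 (conj_eq_one_iff.1 e)⟩, isConj_iff.2 ⟨x, rfl⟩⟩
  have hfib : ∀ b, Nat.card {x : N // φ x = b} = S.n i := by
    intro b
    obtain ⟨c, hc⟩ := isConj_iff.1 b.2
    have hcN : c ∈ N := S.conj_mem_normalizer i ha h1 (by rw [hc]; exact b.1.2.1)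
    have key : ∀ x : N, φ x = b ↔ c⁻¹ * (x : G) ∈ S.A i := by
      intro x
      constructor
      · intro e
        have e' : (x : G) * a * (x : G)⁻¹ = c * a * c⁻¹ := by rw [hc, ← e]
        refine S.mem_of_comm i ha h1 ?_
        calc c⁻¹ * (x : G) * a = c⁻¹ * ((x : G) * a * (x : G)⁻¹) * x := by group
          _ = _ := by rw [e']; group
      · intro hx
        apply Subtype.ext; apply Subtype.ext
        show (x : G) * a * (x : G)⁻¹ = b.1.1
        rw [← hc]
        calc (x : G) * a * (x : G)⁻¹ = c * (c⁻¹ * x * a) * (c⁻¹ * x)⁻¹ * c⁻¹ := by group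
          _ = c * (a * (c⁻¹ * x)) * (c⁻¹ * x)⁻¹ * c⁻¹ := by rw [S.comm i hx ha]
          _ = _ := by group
    refine Nat.card_congr
      { toFun := fun x => (⟨c⁻¹ * (x.1 : G), (key x.1).1 x.2⟩ : S.A i)
        invFun := fun y => ⟨⟨c * y, mul_mem hcN (Subgroup.le_normalizer y.2)⟩,
          (key _).2 (by simp)⟩
        left_inv := fun x => by ext; simp
        right_inv := fun y => by ext; simp }
  have hcard := Nat.card_congr (Equiv.sigmaFiberEquiv φ)
  rw [Nat.card_sigma, Finset.sum_congr rfl fun b _ => hfib b, Finset.sum_const, smul_eq_mul,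
    Finset.card_univ, ← Nat.card_eq_fintype_card, S.card_normalizer i] at hcard
  exact Nat.eq_of_mul_eq_mul_right (S.n_pos i) hcard

/-- The classes in `dSet i`. -/
def dClasses (i : Fin 3) : Set (ConjClasses G) := ConjClasses.mk '' S.dSet i

theorem e_pos (i : Fin 3) : 0 < eIdx i := by fin_cases i <;> simp [eIdx]

theorem ncard_dClasses (i : Fin 3) : (S.dClasses i).ncard = S.t i := by
  classical
  haveI := Fintype.ofFinite (S.dClasses i)
  let f : {b : G // b ∈ S.A i ∧ b ≠ 1} → S.dClasses i := fun b =>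
    ⟨ConjClasses.mk b.1, b.1, S.mem_dSet b.2.1 b.2.2, rfl⟩
  have hfib : ∀ C, Nat.card {b // f b = C} = eIdx i := by
    rintro ⟨_, x, ⟨hx1, h, hh⟩, rfl⟩
    have hxh : IsConj (h * x * h⁻¹) x := (isConj_iff.2 ⟨h, rfl⟩ : IsConj x _).symm
    rw [← S.card_fusion i hh (fun e => hx1 (conj_eq_one_iff.1 e))]
    refine Nat.card_congr (Equiv.subtypeEquivRight fun b => ?_)
    simp only [f, Subtype.ext_iff, ConjClasses.mk_eq_mk_iff_isConj]
    exact ⟨fun e => hxh.trans e.symm, fun e => e.symm.trans hxh⟩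
  have hcard := Nat.card_congr (Equiv.sigmaFiberEquiv f)
  have hdom : Nat.card {b : G // b ∈ S.A i ∧ b ≠ 1} + 1 = S.n i := by
    have : Nat.card {b : G // b ∈ S.A i ∧ b ≠ 1} = ((S.A i : Set G) \ {1}).ncard := by
      rw [← Nat.card_coe_set_eq]; exact Nat.card_congr (Equiv.subtypeEquivRight fun b => by simp)
    rw [this, Set.ncard_diff_singleton_add_one (one_mem (S.A i)) (Set.toFinite _), ← Nat.card_coe_set_eq]
    rfl
  rw [Nat.card_sigma, Finset.sum_congr rfl fun C _ => hfib C, Finset.sum_const, smul_eq_mul,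
    Finset.card_univ, ← Nat.card_eq_fintype_card, Nat.card_coe_set_eq] at hcard
  refine Nat.eq_of_mul_eq_mul_right (e_pos i) ?_
  rw [hcard, mul_comm]
  have := S.n_eq i
  omega

theorem card_dSet (i : Fin 3) : (S.dSet i).ncard * S.n i = S.t i * Nat.card G := by
  classical
  haveI := Fintype.ofFinite (S.dClasses i)
  let f : S.dSet i → S.dClasses i := fun x => ⟨ConjClasses.mk x.1, x.1, x.2, rfl⟩
  have hfib : ∀ C, Nat.card {x // f x = C} * S.n i = Nat.card G := by
    rintro ⟨_, x, ⟨hx1, h, hh⟩, rfl⟩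
    have hc : IsConj x (h * x * h⁻¹) := isConj_iff.2 ⟨h, rfl⟩
    have e : Nat.card {y // f y = ⟨ConjClasses.mk x, x, ⟨hx1, h, hh⟩, rfl⟩} =
        Nat.card {y : G // IsConj y (h * x * h⁻¹)} := by
      refine Nat.card_congr ((Equiv.subtypeEquivRight fun y => ?_).trans
        (Equiv.subtypeSubtypeEquivSubtype (p := fun y => y ∈ S.dSet i) fun {y} hy =>
          S.dSet_conj (hc.trans hy.symm) ⟨hx1, h, hh⟩))
      simp only [f, Subtype.ext_iff, ConjClasses.mk_eq_mk_iff_isConj]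
      exact ⟨fun e => e.trans hc, fun e => e.trans hc.symm⟩
    rw [e, Char.card_isConj_eq_index,
      ← S.card_centralizer_dSet hh (fun e => hx1 (conj_eq_one_iff.1 e)), Subgroup.index_mul_card]
  have hcard := Nat.card_congr (Equiv.sigmaFiberEquiv f)
  rw [Nat.card_sigma, Nat.card_coe_set_eq] at hcard
  rw [← hcard, Finset.sum_mul, Finset.sum_congr rfl fun C _ => hfib C, Finset.sum_const, smul_eq_mul,
    Finset.card_univ, ← Nat.card_eq_fintype_card, Nat.card_coe_set_eq, S.ncard_dClasses]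

/-- The class number. -/
theorem card_conjClasses :
    Nat.card (ConjClasses G) = 1 + (S.t 0 + S.t 1 + S.t 2) + S.RClasses.ncard := by
  have hdis : ∀ i j, i ≠ j → Disjoint (S.dClasses i) (S.dClasses j) := fun i j hij =>
    Set.disjoint_left.2 fun C ⟨x, hx, e⟩ ⟨y, hy, e'⟩ => hij (S.dSet_disjoint hx
      (S.dSet_conj (ConjClasses.mk_eq_mk_iff_isConj.1 (e'.trans e.symm)) hy))
  have hR : ∀ i, Disjoint (S.dClasses i) S.RClasses := fun i =>
    Set.disjoint_left.2 fun C ⟨x, hx, e⟩ ⟨y, hy, e'⟩ => S.not_inR_of_dSet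
      (S.dSet_conj (ConjClasses.mk_eq_mk_iff_isConj.1 (e.trans e'.symm)) hx) hy
  have h1 : ∀ i, ConjClasses.mk (1 : G) ∉ S.dClasses i := fun i ⟨x, hx, e⟩ =>
    hx.1 (isConj_one_left.1 (ConjClasses.mk_eq_mk_iff_isConj.1 e))
  have h1R : ConjClasses.mk (1 : G) ∉ S.RClasses := fun ⟨x, hx, e⟩ =>
    hx.1 (isConj_one_left.1 (ConjClasses.mk_eq_mk_iff_isConj.1 e))
  have huniv : (Set.univ : Set (ConjClasses G)) = insert (ConjClasses.mk (1 : G))
      (S.dClasses 0 ∪ S.dClasses 1 ∪ S.dClasses 2 ∪ S.RClasses) := by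
    ext C
    obtain ⟨x, rfl⟩ := ConjClasses.mk_surjective C
    simp only [Set.mem_univ, true_iff, Set.mem_insert_iff, Set.mem_union]
    by_cases hx : x = 1
    · exact Or.inl (by rw [hx])
    rcases S.dSet_or_inR hx with h | ⟨i, hi⟩
    · exact Or.inr (Or.inr ⟨x, h, rfl⟩)
    · have hmem : ConjClasses.mk x ∈ S.dClasses i := ⟨x, hi, rfl⟩
      fin_cases i
      · exact Or.inr (Or.inl (Or.inl (Or.inl hmem)))
      · exact Or.inr (Or.inl (Or.inl (Or.inr hmem)))
      · exact Or.inr (Or.inl (Or.inr hmem))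
  rw [← Set.ncard_univ, huniv, Set.ncard_insert_of_notMem (by simp [h1, h1R]) (Set.toFinite _),
    Set.ncard_union_eq (by simp [hR]) (Set.toFinite _) (Set.toFinite _),
    Set.ncard_union_eq (by simp [hdis 0 2, hdis 1 2]) (Set.toFinite _) (Set.toFinite _),
    Set.ncard_union_eq (hdis 0 1 (by decide)) (Set.toFinite _) (Set.toFinite _),
    S.ncard_dClasses, S.ncard_dClasses, S.ncard_dClasses]
  ring

theorem card_elements :
    Nat.card G = 1 + (S.dSet 0).ncard + (S.dSet 1).ncard + (S.dSet 2).ncard + S.rSet.ncard := by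
  have hdis : ∀ i j, i ≠ j → Disjoint (S.dSet i) (S.dSet j) := fun i j hij =>
    Set.disjoint_left.2 fun x hx hy => hij (S.dSet_disjoint hx hy)
  have hR : ∀ i, Disjoint (S.dSet i) S.rSet := fun i =>
    Set.disjoint_left.2 fun x hx hy => S.not_inR_of_dSet hx hy
  have huniv : (Set.univ : Set G) = insert 1 (S.dSet 0 ∪ S.dSet 1 ∪ S.dSet 2 ∪ S.rSet) := by
    ext x
    simp only [Set.mem_univ, true_iff, Set.mem_insert_iff, Set.mem_union]
    by_cases hx : x = 1
    · exact Or.inl hx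
    rcases S.dSet_or_inR hx with h | ⟨i, hi⟩
    · exact Or.inr (Or.inr h)
    · fin_cases i
      · exact Or.inr (Or.inl (Or.inl (Or.inl hi)))
      · exact Or.inr (Or.inl (Or.inl (Or.inr hi)))
      · exact Or.inr (Or.inl (Or.inr hi))
  rw [← Set.ncard_univ, huniv, Set.ncard_insert_of_notMem
      (by simp [Setting.dSet, Setting.rSet, Setting.InR]) (Set.toFinite _),
    Set.ncard_union_eq (by simp [hR]) (Set.toFinite _) (Set.toFinite _),
    Set.ncard_union_eq (by simp [hdis 0 2, hdis 1 2]) (Set.toFinite _) (Set.toFinite _),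
    Set.ncard_union_eq (hdis 0 1 (by decide)) (Set.toFinite _) (Set.toFinite _)]
  ring

theorem m_dvd_card : S.m ∣ Nat.card G :=
  Nat.Coprime.mul_dvd_of_dvd_of_dvd
    ((S.coprime (i := 0) (j := 2) (by decide)).mul_left (S.coprime (i := 1) (j := 2) (by decide)))
    (Nat.Coprime.mul_dvd_of_dvd_of_dvd (S.coprime (i := 0) (j := 1) (by decide))
      (Subgroup.card_subgroup_dvd_card _) (Subgroup.card_subgroup_dvd_card _))
    (Subgroup.card_subgroup_dvd_card _)

/-- `|G| / m`. -/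
noncomputable def k : ℕ := Nat.card G / S.m

theorem card_eq : Nat.card G = S.k * S.m := (Nat.div_mul_cancel S.m_dvd_card).symm

theorem k_le : S.k ≤ 3 * S.m := by
  refine Nat.le_of_mul_le_mul_right ?_ S.m_pos
  rw [← S.card_eq]
  refine S.ord.trans (le_of_eq ?_)
  simp only [Setting.m, Setting.n]
  ring

theorem m_dvd_rSet : S.m ∣ S.rSet.ncard := by
  classical
  haveI := Fintype.ofFinite S.RClasses
  let f : S.rSet → S.RClasses := fun x => ⟨ConjClasses.mk x.1, x.1, x.2, rfl⟩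
  have hfib : ∀ C, S.m ∣ Nat.card {x // f x = C} := by
    rintro ⟨_, y, hy, rfl⟩
    have e : Nat.card {x // f x = ⟨ConjClasses.mk y, y, hy, rfl⟩} =
        Nat.card {x : G // IsConj x y} := by
      refine Nat.card_congr ((Equiv.subtypeEquivRight fun x => ?_).trans
        (Equiv.subtypeSubtypeEquivSubtype (p := fun x => x ∈ S.rSet) fun {x} hx => ?_))
      · simp only [f, Subtype.ext_iff, ConjClasses.mk_eq_mk_iff_isConj]
      · obtain ⟨c, rfl⟩ := isConj_iff.1 hx.symm
        exact hy.conj c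
    rw [e, Char.card_isConj_eq_index]
    have h := S.m_dvd_card
    rw [← Subgroup.card_mul_index (Subgroup.centralizer ({y} : Set G))] at h
    exact (Nat.Coprime.symm hy.centralizer_coprime).dvd_of_dvd_mul_left h
  rw [← Nat.card_coe_set_eq, ← Nat.card_congr (Equiv.sigmaFiberEquiv f), Nat.card_sigma]
  exact Finset.dvd_sum fun C _ => hfib C

theorem t_mul (i : Fin 3) : (eIdx i : ℤ) * S.t i = (S.n i : ℤ) - 1 := by
  have := S.n_eq i
  rw [this]; push_cast; ring

/-- The congruence. -/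
theorem congruence : (S.m : ℤ) ∣ (S.k : ℤ) * bn (S.n 0) (S.n 1) (S.n 2) - 4 := by
  obtain ⟨q, hq⟩ := S.m_dvd_rSet
  have hn : ∀ i, (S.n i : ℤ) ≠ 0 := fun i => by exact_mod_cast (S.n_pos i).ne'
  have hd : ∀ i, ((S.dSet i).ncard : ℤ) * S.n i = S.t i * ((S.k : ℤ) * S.m) := fun i => by
    rw_mod_cast [← S.card_eq]; exact S.card_dSet i
  have hG : ((S.k : ℤ) * S.m) =
      1 + (S.dSet 0).ncard + (S.dSet 1).ncard + (S.dSet 2).ncard + (S.m : ℤ) * q := by
    have h := S.card_elements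
    rw [hq, S.card_eq] at h
    exact_mod_cast h
  have t0 := S.t_mul 0
  have t1 := S.t_mul 1
  have t2 := S.t_mul 2
  have hm : (S.m : ℤ) = S.n 0 * S.n 1 * S.n 2 := by simp [Setting.m]
  simp only [eIdx, Matrix.cons_val_zero, Matrix.cons_val_one, Matrix.cons_val_two, Matrix.cons_val,
    Matrix.head_cons, Matrix.tail_cons] at t0 t1 t2
  push_cast at t0 t1 t2
  have d0 : ((S.dSet 0).ncard : ℤ) = S.t 0 * S.k * (S.n 1 * S.n 2) :=
    mul_right_cancel₀ (hn 0) (by rw [hd 0, hm]; ring)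
  have d1 : ((S.dSet 1).ncard : ℤ) = S.t 1 * S.k * (S.n 0 * S.n 2) :=
    mul_right_cancel₀ (hn 1) (by rw [hd 1, hm]; ring)
  have d2 : ((S.dSet 2).ncard : ℤ) = S.t 2 * S.k * (S.n 0 * S.n 1) :=
    mul_right_cancel₀ (hn 2) (by rw [hd 2, hm]; ring)
  refine ⟨4 * q, ?_⟩
  rw [d0, d1, d2, hm] at hG
  rw [bn, hm]
  linear_combination 4 * hG + 2 * (S.k : ℤ) * (S.n 1 * S.n 2) * t0 +
    (S.k : ℤ) * (S.n 0 * S.n 2) * t1 + (S.k : ℤ) * (S.n 0 * S.n 1) * t2

/-- An involution inverting `A i`. -/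
theorem exists_inverting (i : Fin 3) : ∃ u : G, orderOf u = 2 ∧
    u ∈ Subgroup.normalizer (S.A i : Set G) ∧ u ∉ S.A i ∧ ∀ a ∈ S.A i, u * a * u⁻¹ = a⁻¹ := by
  rcases eq_or_ne i 0 with rfl | hi
  · obtain ⟨g, hg, hgA⟩ : ∃ g ∈ Subgroup.normalizer (S.A 0 : Set G), g ∉ S.A 0 := by
      by_contra! h
      have := S.idx 0
      rw [Subgroup.relIndex_eq_one.2 h] at this
      simp [eIdx] at this
    obtain ⟨h2, hinv⟩ := S.invol_normalizer hg hgA
    exact ⟨g, h2, hg, hgA, hinv⟩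
  · obtain ⟨v, hv, h4, hvA, hinv⟩ := S.exists_four i hi
    refine ⟨v * v, ?_, mul_mem hv hv, hvA, hinv⟩
    rw [← pow_two, orderOf_pow' v two_ne_zero, h4]
    rfl

theorem invol_not_mem {u : G} (h : orderOf u = 2) (i : Fin 3) : u ∉ S.A i := fun hu => by
  have hd := Subgroup.orderOf_dvd_natCard (S.A i) hu
  rw [h] at hd
  exact absurd (S.n_odd i) (Nat.not_odd_iff_even.2 (even_iff_two_dvd.2 hd))

theorem mul_invol {i : Fin 3} {u b : G} (h2 : orderOf u = 2)
    (hinv : ∀ a ∈ S.A i, u * a * u⁻¹ = a⁻¹) (hb : b ∈ S.A i) :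
    orderOf (u * b) = 2 ∧ u * b * (u * b) = 1 := by
  have hu : u * u = 1 := by rw [← pow_two, ← h2]; exact pow_orderOf_eq_one u
  have hsq : u * b * (u * b) = 1 := by
    calc u * b * (u * b) = u * b * u⁻¹ * (u * u) * b := by group
      _ = 1 := by rw [hinv b hb, hu, mul_one, inv_mul_cancel]
  haveI : Fact (Nat.Prime 2) := ⟨Nat.prime_two⟩
  refine ⟨orderOf_eq_prime (by rw [pow_two, hsq]) fun e => ?_, hsq⟩
  have : u = b⁻¹ := eq_inv_of_mul_eq_one_left e
  exact S.invol_not_mem h2 i (this ▸ inv_mem hb)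

/-- The pairs of conjugates of `i` with product `a`. -/
abbrev Pairs (x a : G) : Type _ := {p : G × G // IsConj x p.1 ∧ IsConj x p.2 ∧ p.1 * p.2 = a}

theorem le_pairs (h1 : OneInvolClass G) {x : G} (hx : orderOf x = 2) {i : Fin 3} {a : G}
    (ha : a ∈ S.dSet i) : S.n i ≤ Nat.card (Pairs x a) := by
  obtain ⟨-, h, hh⟩ := ha
  obtain ⟨u, hu, -, -, hinv⟩ := S.exists_inverting i
  have huu : u * u = 1 := by rw [← pow_two, ← hu]; exact pow_orderOf_eq_one u
  have conj : ∀ b ∈ S.A i, IsConj x (h⁻¹ * (u * b) * h) := fun b hb =>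
    (h1 x _ hx (S.mul_invol hu hinv hb).1).trans (isConj_iff.2 ⟨h⁻¹, by group⟩)
  refine Nat.card_le_card_of_injective (α := S.A i)
    (fun b => (⟨(h⁻¹ * (u * b) * h, h⁻¹ * (u * ((b : G) * (h * a * h⁻¹))) * h),
      conj _ b.2, conj _ (mul_mem b.2 hh), ?_⟩ : Pairs x a)) ?_
  · have e := (S.mul_invol hu hinv b.2).2
    show h⁻¹ * (u * b) * h * (h⁻¹ * (u * ((b : G) * (h * a * h⁻¹))) * h) = a
    calc _ = h⁻¹ * (u * b * (u * b) * (h * a * h⁻¹)) * h := by group
      _ = _ := by rw [e]; group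
  · intro b c e
    have e' := congrArg (fun p : Pairs x a => p.1.1) e
    exact Subtype.ext (mul_left_cancel (mul_left_cancel (mul_right_cancel e')))

theorem mul_self_of_isConj {x p : G} (hx : orderOf x = 2) (hp : IsConj x p) :
    orderOf p = 2 ∧ p * p = 1 := by
  obtain ⟨c, rfl⟩ := isConj_iff.1 hp
  have h : orderOf (c * x * c⁻¹) = 2 := by
    rw [show c * x * c⁻¹ = MulAut.conj c x from rfl, MulEquiv.orderOf_eq, hx]
  exact ⟨h, by rw [← pow_two, ← h]; exact pow_orderOf_eq_one _⟩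

/-- Both members of a pair with product in `A 0` lie in the coset of inverting involutions. -/
theorem pair_mem {x a : G} (hx : orderOf x = 2) (ha : a ∈ S.A 0) (h1 : a ≠ 1) {u : G}
    (hu : u ∈ Subgroup.normalizer (S.A 0 : Set G)) (huA : u ∉ S.A 0) (p : Pairs x a) :
    u⁻¹ * p.1.1 ∈ S.A 0 := by
  obtain ⟨⟨p, q⟩, hp, hq, hpq⟩ := p
  obtain ⟨hp2, hpp⟩ := mul_self_of_isConj hx hp
  obtain ⟨-, hqq⟩ := mul_self_of_isConj hx hq
  have hinv : p * a * p⁻¹ = a⁻¹ := by
    rw [← hpq, mul_inv_rev, inv_eq_of_mul_eq_one_right hpp, inv_eq_of_mul_eq_one_right hqq]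
    simp [← mul_assoc, hpp]
  have hpN : p ∈ Subgroup.normalizer (S.A 0 : Set G) :=
    S.conj_mem_normalizer 0 ha h1 (by rw [hinv]; exact inv_mem ha)
  exact (Subgroup.mul_mem_iff_of_index_two (S.idx 0) (a := ⟨u⁻¹, inv_mem hu⟩) (b := ⟨p, hpN⟩)).2
    (iff_of_false (by simpa [Subgroup.mem_subgroupOf] using huA) (S.invol_not_mem hp2 0))

theorem pairs_le {x a : G} (hx : orderOf x = 2) (ha : a ∈ S.A 0) (h1 : a ≠ 1) :
    Nat.card (Pairs x a) ≤ S.n 0 := by
  obtain ⟨u, -, hu, huA, -⟩ := S.exists_inverting 0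
  refine Nat.card_le_card_of_injective (β := S.A 0)
    (fun p => ⟨u⁻¹ * p.1.1, S.pair_mem hx ha h1 hu huA p⟩) ?_
  rintro ⟨⟨p, q⟩, hp, hq, hpq⟩ ⟨⟨p', q'⟩, hp', hq', hpq'⟩ e
  obtain rfl : p = p' := mul_left_cancel (congrArg Subtype.val e)
  obtain rfl : q = q' := mul_left_cancel (hpq.trans hpq'.symm)
  rfl

/-- If every involution gives a pair with product in `A 0` then all involutions are conjugate. -/
theorem oneInvol_of_pairs {a : G} (ha : a ∈ S.A 0) (h1 : a ≠ 1)
    (h : ∀ x : G, orderOf x = 2 → Nat.card (Pairs x a) ≠ 0) : OneInvolClass G := by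
  obtain ⟨u, hu2, hu, huA, hinv⟩ := S.exists_inverting 0
  have key : ∀ x : G, orderOf x = 2 → IsConj u x := by
    intro x hx
    haveI : Nonempty (Pairs x a) := (Nat.card_ne_zero.1 (h x hx)).1
    obtain ⟨p⟩ := (inferInstance : Nonempty (Pairs x a))
    have hb := S.pair_mem hx ha h1 hu huA p
    set b := u⁻¹ * p.1.1 with hbdef
    obtain ⟨⟨w, hw⟩, e⟩ := (powCoprime (G := S.A 0) (n := 2)
      (Nat.coprime_two_right.2 (S.n_odd 0))).surjective ⟨b, hb⟩
    have e' : w ^ 2 = b := congrArg Subtype.val e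
    have huu : u * u = 1 := by rw [← pow_two, ← hu2]; exact pow_orderOf_eq_one u
    have hconj : IsConj u (p.1.1) := by
      refine isConj_iff.2 ⟨w⁻¹, ?_⟩
      rw [show p.1.1 = u * b by rw [hbdef]; simp, ← e', inv_inv]
      have hwi := hinv w⁻¹ (inv_mem hw)
      rw [inv_inv] at hwi
      calc w⁻¹ * u * w = u * u * w⁻¹ * u⁻¹ * w := by
            rw [huu, inv_eq_of_mul_eq_one_right huu]; group
        _ = u * (u * w⁻¹ * u⁻¹) * w := by group
        _ = _ := by rw [hwi, pow_two]; group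
    exact hconj.trans p.2.1.symm
  intro x y hx hy
  exact (key x hx).symm.trans (key y hy)

/-- Squared centraliser of an involution times the number of real classes is at most the order. -/
theorem sq_centralizer_le (h1 : OneInvolClass G) {x : G} (hx : orderOf x = 2) :
    Nat.card ↥(Subgroup.centralizer ({x} : Set G)) ^ 2 * (S.t 0 + S.t 1 + S.t 2) ≤
      Nat.card G := by
  classical
  haveI := Fintype.ofFinite G
  set c := Nat.card ↥(Subgroup.centralizer ({x} : Set G))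
  set I := (Subgroup.centralizer ({x} : Set G)).index
  have hcI : c * I = Nat.card G := Subgroup.card_mul_index _
  have htot : ∑ a : G, Nat.card (Pairs x a) = I * I := by
    rw [← Nat.card_sigma]
    have e := Char.card_isConj_eq_index x
    have hsym : Nat.card {y : G // IsConj x y} = I := by
      exact (Nat.card_congr (Equiv.subtypeEquivRight fun y => ⟨IsConj.symm, IsConj.symm⟩)).trans e
    rw [← hsym, ← Nat.card_prod]
    refine Nat.card_congr
      { toFun := fun s => (⟨s.2.1.1, s.2.2.1⟩, ⟨s.2.1.2, s.2.2.2.1⟩)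
        invFun := fun p => ⟨p.1.1 * p.2.1, ⟨(p.1.1, p.2.1), p.1.2, p.2.2, rfl⟩⟩
        left_inv := ?_
        right_inv := fun p => rfl }
    rintro ⟨a, ⟨p, q⟩, hp, hq, rfl⟩
    rfl
  let T : Fin 3 → Finset G := fun i => (S.dSet i).toFinset
  have hT : ∀ i j, i ≠ j → Disjoint (T i) (T j) := fun i j hij =>
    Finset.disjoint_left.2 fun a hi hj => hij
      (S.dSet_disjoint (Set.mem_toFinset.1 hi) (Set.mem_toFinset.1 hj))
  have hsub : ∑ i, ∑ a ∈ T i, Nat.card (Pairs x a) ≤ I * I := by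
    rw [← htot, ← Finset.sum_biUnion (fun i _ j _ hij => hT i j hij)]
    exact Finset.sum_le_sum_of_subset (Finset.subset_univ _)
  have hi : ∀ i, S.t i * Nat.card G ≤ ∑ a ∈ T i, Nat.card (Pairs x a) := fun i => by
    rw [← S.card_dSet i, show (S.dSet i).ncard = (T i).card from Set.ncard_eq_toFinset_card' _]
    have := Finset.card_nsmul_le_sum (T i) (fun a => Nat.card (Pairs x a)) (S.n i)
      fun a ha => S.le_pairs h1 hx (Set.mem_toFinset.1 ha)
    simpa only [smul_eq_mul] using this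
  have hall := (Finset.sum_le_sum fun i (_ : i ∈ Finset.univ) => hi i).trans hsub
  rw [← Finset.sum_mul, Fin.sum_univ_three] at hall
  refine Nat.le_of_mul_le_mul_right ?_ (Nat.card_pos (α := G))
  calc c ^ 2 * (S.t 0 + S.t 1 + S.t 2) * Nat.card G
      = c ^ 2 * ((S.t 0 + S.t 1 + S.t 2) * Nat.card G) := by ring
    _ ≤ c ^ 2 * (I * I) := Nat.mul_le_mul_left _ hall
    _ = _ := by rw [← hcI]; ring

end Setting

end CfsgLib.SuzukiSC
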