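import Cfsg.Agent.Lib.SuzukiSC.Facts
import Cfsg.Agent.Lib.CIT.Iso
import Cfsg.Agent.Lib.SL2.PSL
import Cfsg.Agent.Lib.Steiner.Plane

/-!
The case without an involution centralising an element of odd prime order: the group is a Suzuki group.
-/

set_option autoImplicit false
set_option linter.style.haveILetI false
set_option linter.unusedSectionVars false

namespace CfsgLib.SuzukiSC

variable {G : Type*} [Group G] [Finite G]

namespace Setting

variable (S : Setting G)

theorem two_lt_n (i : Fin 3) : 2 < S.n i := by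
  fin_cases i
  · exact lt_of_lt_of_le (by norm_num) S.five
  · exact lt_trans (by norm_num) (S.six 1 (by decide))
  · exact lt_trans (by norm_num) (S.six 2 (by decide))

theorem exists_conj_commute_mem {r : ℕ} [Fact r.Prime] {i : Fin 3} (hr : r ∣ S.n i) (P : Sylow r G) :
    ∃ g : G, ∀ x ∈ (P : Subgroup G), g * x * g⁻¹ ∈ S.A i := by
  obtain ⟨a, hao⟩ := exists_prime_orderOf_dvd_card' (G := S.A i) r hr
  have hao' : orderOf (a : G) = r := by rw [Subgroup.orderOf_coe]; exact hao
  have ha1 : (a : G) ≠ 1 := fun h => (Fact.out : r.Prime).one_lt.ne (by rw [← hao', h, orderOf_one])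
  obtain ⟨P', hP'⟩ := (IsPGroup.of_card (p := r) (n := 1)
    (by rw [Nat.card_zpowers, hao', pow_one]) : IsPGroup r (Subgroup.zpowers (a : G))).exists_le_sylow
  obtain ⟨g, hg⟩ := MulAction.exists_smul_eq G P P'
  have haP : (a : G) ∈ (P' : Subgroup G) := hP' (Subgroup.mem_zpowers _)
  haveI : Nontrivial (P' : Subgroup G) :=
    (Subgroup.nontrivial_iff_ne_bot _).mpr fun h => ha1 (by rw [h, Subgroup.mem_bot] at haP; exact haP)
  haveI := P'.isPGroup'.center_nontrivial
  obtain ⟨⟨z, hz⟩, hz1⟩ := exists_ne (1 : Subgroup.center (P' : Subgroup G))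
  have hzc : ∀ x ∈ (P' : Subgroup G), x * (z : G) = (z : G) * x := fun x hx =>
    congrArg Subtype.val (Subgroup.mem_center_iff.mp hz ⟨x, hx⟩)
  have hzA : (z : G) ∈ S.A i := by
    rw [← S.sc i a a.2 ha1]
    exact Subgroup.mem_centralizer_singleton_iff.mpr (hzc a haP).symm
  have hz1' : (z : G) ≠ 1 := fun h => hz1 (Subtype.ext (Subtype.ext h))
  refine ⟨g, fun x hx => ?_⟩
  rw [← S.sc i z hzA hz1']
  refine Subgroup.mem_centralizer_singleton_iff.mpr (hzc _ ?_)
  rw [← hg, Sylow.coe_subgroup_smul, Subgroup.mem_pointwise_smul_iff_inv_smul_mem]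
  simpa [MulAut.smul_def, mul_assoc] using hx

theorem eq_of_inf_ne {i j : Fin 3} {g a : G} (ha : a ∈ S.A i) (ha1 : a ≠ 1) (hg : g * a * g⁻¹ ∈ S.A j) :
    (S.A i).map (MulAut.conj g).toMonoidHom = S.A j := by
  rw [← S.sc i a ha ha1, ← S.sc j _ hg (fun h => ha1 (conj_eq_one_iff.mp h))]
  ext x
  rw [Subgroup.mem_map_equiv, Subgroup.mem_centralizer_singleton_iff, Subgroup.mem_centralizer_singleton_iff,
    MulAut.conj_symm_apply]
  constructor
  · intro h
    calc x * (g * a * g⁻¹) = g * (g⁻¹ * x * g * a) * g⁻¹ := by group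
      _ = g * (a * (g⁻¹ * x * g)) * g⁻¹ := by rw [h]
      _ = _ := by group
  · intro h
    calc g⁻¹ * x * g * a = g⁻¹ * (x * (g * a * g⁻¹)) * g := by group
      _ = g⁻¹ * (g * a * g⁻¹ * x) * g := by rw [h]
      _ = _ := by group

theorem four_dvd_pred {j : Fin 3} (hj : j ≠ 0) : 4 ∣ S.n j - 1 := by
  obtain ⟨v, hvN, hv, hvA, -⟩ := S.exists_four j hj
  let V := Subgroup.zpowers v
  let X := {x : G // x ∈ S.A j ∧ x ≠ 1}
  have hVN : V ≤ Subgroup.normalizer (S.A j : Set G) := Subgroup.zpowers_le.mpr hvN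
  letI : MulAction V X :=
    { smul := fun h x => ⟨(h : G) * x.1 * (h : G)⁻¹,
        (Subgroup.mem_normalizer_iff.mp (hVN h.2) _).mp x.2.1, fun e => x.2.2 (conj_eq_one_iff.mp e)⟩
      one_smul := fun x => Subtype.ext (show ((1 : V) : G) * x.1 * ((1 : V) : G)⁻¹ = x.1 by simp)
      mul_smul := fun a b x => Subtype.ext (show ((a * b : V) : G) * x.1 * ((a * b : V) : G)⁻¹ =
        (a : G) * ((b : G) * x.1 * (b : G)⁻¹) * (a : G)⁻¹ by rw [Subgroup.coe_mul]; group) }
  have hfree : ∀ (h : V) (x : X), h • x = x → h = 1 := by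
    intro h x hx
    have e : (h : G) * x.1 * (h : G)⁻¹ = x.1 := congrArg Subtype.val hx
    have hA : (h : G) ∈ S.A j := by
      rw [← S.sc j x.1 x.2.1 x.2.2]
      exact Subgroup.mem_centralizer_singleton_iff.mpr (mul_inv_eq_iff_eq_mul.mp e)
    have h1 : orderOf (h : G) ∣ 4 := by
      exact (Subgroup.orderOf_dvd_natCard _ h.2).trans (by rw [Nat.card_zpowers, hv])
    have hco : Nat.Coprime 4 (S.n j) := by
      rw [show (4 : ℕ) = 2 ^ 2 from rfl]
      exact Nat.Coprime.pow_left 2 (Nat.coprime_two_left.mpr (S.n_odd j))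
    exact Subtype.ext (orderOf_eq_one_iff.mp
      (Nat.eq_one_of_dvd_coprimes hco h1 (Subgroup.orderOf_dvd_natCard _ hA)))
  have hdvd : Nat.card V ∣ Nat.card X := by
    rw [Nat.card_congr (MulAction.selfEquivSigmaOrbitsQuotientStabilizer V X)]
    haveI := Fintype.ofFinite (Quotient (MulAction.orbitRel V X))
    rw [Nat.card_sigma]
    refine Finset.dvd_sum fun o _ => ?_
    rw [← Subgroup.index_eq_card, show MulAction.stabilizer V o.out = ⊥ from
      (Subgroup.eq_bot_iff_forall _).mpr fun g hg => hfree g _ hg, Subgroup.index_bot]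
  have hX : Nat.card X = S.n j - 1 := by
    rw [Setting.n, show Nat.card X = Nat.card {x : G | x ∈ (S.A j : Set G) \ {1}} from
      Nat.card_congr (Equiv.subtypeEquivRight fun x => by simp), Nat.card_coe_set_eq, Set.setOf_mem_eq,
      Set.ncard_sdiff (Set.singleton_subset_iff.mpr (one_mem (S.A j))) (Set.toFinite _), Set.ncard_singleton,
      ← Nat.card_coe_set_eq]
    rfl
  rwa [hX, Nat.card_zpowers, hv] at hdvd

theorem n_dvd (i : Fin 3) : S.n i ∣ Nat.card G := Subgroup.card_subgroup_dvd_card _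

/-- An element whose order is a Hall divisor divides each `n` it is not coprime to. -/
theorem dvd_n_of_hall {c : G} {r : ℕ} (hG : Nat.card G = orderOf c * r) (hco : (orderOf c).Coprime r)
    {j : Fin 3} (hnc : ¬ (S.n j).Coprime (orderOf c)) : orderOf c ∣ S.n j := by
  obtain ⟨s, hs, hsn, hsc⟩ := Nat.Prime.not_coprime_iff_dvd.mp hnc
  haveI : Fact s.Prime := ⟨hs⟩
  obtain ⟨Q⟩ := (inferInstance : Nonempty (Sylow s (Subgroup.zpowers c)))
  set Q' := (Q : Subgroup (Subgroup.zpowers c)).map (Subgroup.zpowers c).subtype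
  have hQ' : Nat.card Q' = s ^ (Nat.card G).factorization s := by
    rw [Subgroup.card_map_of_injective (Subgroup.zpowers c).subtype_injective, Sylow.card_eq_multiplicity,
      Nat.card_zpowers, hG, Nat.factorization_mul_apply_of_coprime hco,
      Nat.factorization_eq_zero_of_not_dvd (n := r) (fun h =>
        hs.one_lt.ne' (Nat.eq_one_of_dvd_coprimes hco hsc h)), add_zero]
  obtain ⟨g, hg⟩ := S.exists_conj_commute_mem hsn (Sylow.ofCard Q' hQ')
  obtain ⟨q, hq⟩ := exists_prime_orderOf_dvd_card' (G := Q') s (by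
    rw [hQ']
    exact dvd_pow_self s ((hs.factorization_pos_of_dvd Nat.card_pos.ne' (hsn.trans (S.n_dvd j))).ne'))
  have hq1 : (q : G) ≠ 1 := fun h => hs.one_lt.ne (by rw [← hq, ← Subgroup.orderOf_coe, h, orderOf_one])
  have hqA : g * (q : G) * g⁻¹ ∈ S.A j := hg q (by exact q.2)
  obtain ⟨k, hk⟩ := Subgroup.mem_zpowers_iff.mp (Subgroup.map_subtype_le _ q.2 : (q : G) ∈ Subgroup.zpowers c)
  have hcA : g * c * g⁻¹ ∈ S.A j := by
    rw [← S.sc j _ hqA (fun h => hq1 (conj_eq_one_iff.mp h))]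
    refine Subgroup.mem_centralizer_singleton_iff.mpr ?_
    have hcq : Commute c (q : G) := hk ▸ Commute.zpow_right (Commute.refl c) k
    exact (hcq.map (MulAut.conj g).toMonoidHom).eq
  have h := Subgroup.orderOf_dvd_natCard _ hcA
  rwa [show orderOf (g * c * g⁻¹) = orderOf c from
    orderOf_injective (MulAut.conj g).toMonoidHom (MulAut.conj g).injective c] at h

theorem odd_dvd_of_dvd_pow_mul {d k x : ℕ} (hd : Odd d) (h : d ∣ 2 ^ k * x) : d ∣ x :=
  ((Nat.coprime_two_right.mpr hd).pow_right k).dvd_of_dvd_mul_left h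

include S in
theorem not_psl_prime {p k w : ℕ} (hp : p.Prime) (hG : Nat.card G = p * (2 ^ k * w)) (hw : 1 < w)
    (hwp : w < p) (hwo : Odd w) {c : G} (hc : orderOf c = w) : False := by
  have hco : (orderOf c).Coprime (p * 2 ^ k) := by
    rw [hc]
    exact Nat.Coprime.mul_right ((hp.coprime_iff_not_dvd.mpr fun h =>
      absurd (Nat.le_of_dvd (by omega) h) (by omega)).symm) ((Nat.coprime_two_right.mpr hwo).pow_right k)
  have hcases : ∀ j, S.n j = p ∨ w ∣ S.n j := by
    intro j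
    by_cases h : (S.n j).Coprime (orderOf c)
    · left
      have h1 : S.n j ∣ p * w := odd_dvd_of_dvd_pow_mul (k := k) (S.n_odd j) (by
        rw [show 2 ^ k * (p * w) = p * (2 ^ k * w) by ring, ← hG]; exact S.n_dvd j)
      rw [hc] at h
      have h2 := h.dvd_of_dvd_mul_right h1
      exact ((Nat.dvd_prime hp).mp h2).resolve_left (by have := S.two_lt_n j; omega)
    · exact Or.inr (hc ▸ S.dvd_n_of_hall (by rw [hG, hc]; ring) hco h)
  have hboth : ∀ i j : Fin 3, i ≠ j → ¬ ((S.n i = p ∧ S.n j = p) ∨ (w ∣ S.n i ∧ w ∣ S.n j)) := by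
    rintro i j hij (⟨h1, h2⟩ | ⟨h1, h2⟩)
    · have := S.coprime hij
      rw [h1, h2, Nat.coprime_self] at this
      exact hp.one_lt.ne' this
    · exact hw.ne' (Nat.eq_one_of_dvd_coprimes (S.coprime hij) h1 h2)
  rcases hcases 0 with a | a <;> rcases hcases 1 with b | b <;> rcases hcases 2 with c' | c'
  all_goals first
    | exact hboth 0 1 (by decide) (Or.inl ⟨a, b⟩)
    | exact hboth 0 2 (by decide) (Or.inl ⟨a, c'⟩)
    | exact hboth 1 2 (by decide) (Or.inl ⟨b, c'⟩)
    | exact hboth 0 1 (by decide) (Or.inr ⟨a, b⟩)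
    | exact hboth 0 2 (by decide) (Or.inr ⟨a, c'⟩)
    | exact hboth 1 2 (by decide) (Or.inr ⟨b, c'⟩)

theorem no_pair : ∀ b ∈ (315 : ℕ).divisors, ∀ c ∈ (315 : ℕ).divisors,
    5 < b → 5 < c → b % 4 = 1 → c % 4 = 1 → Nat.gcd b c = 1 → False := by
  decide +kernel

include S in
theorem not_order {k x : ℕ} (hG : Nat.card G = 2 ^ k * x) (hx : x ∣ 315) : False := by
  have h : ∀ j : Fin 3, j ≠ 0 → S.n j ∈ (315 : ℕ).divisors ∧ 5 < S.n j ∧ S.n j % 4 = 1 := fun j hj => by
    refine ⟨Nat.mem_divisors.mpr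
      ⟨(odd_dvd_of_dvd_pow_mul (S.n_odd j) (hG ▸ S.n_dvd j)).trans hx, by norm_num⟩, S.six j hj, ?_⟩
    have h4 := S.four_dvd_pred hj
    have := S.two_lt_n j
    omega
  obtain ⟨b1, b2, b3⟩ := h 1 (by decide)
  obtain ⟨c1, c2, c3⟩ := h 2 (by decide)
  exact no_pair _ b1 _ c1 b2 c2 b3 c3 (S.coprime (by decide : (1 : Fin 3) ≠ 2))

include S in
theorem not_psl_two {F : Type} [Field F] [Fintype F]
    (hF : Fintype.card F = 9 ∨ (∃ n : ℕ, Fintype.card F = 2 ^ n) ∨
      ((Fintype.card F).Prime ∧ ∃ k : ℕ, Fintype.card F = 2 ^ k + 1 ∨ Fintype.card F + 1 = 2 ^ k))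
    (φ : G ≃* Matrix.ProjectiveSpecialLinearGroup (Fin 2) F) : False := by
  have hcard := CfsgLib.SL2.card_PSL (F := F)
  rw [← Nat.card_congr φ.toEquiv, Nat.card_eq_fintype_card (α := F)] at hcard
  obtain ⟨e, hp, he⟩ := FiniteField.card F (ringChar F)
  haveI : Fact (ringChar F).Prime := ⟨hp⟩
  rcases hF with h9 | ⟨n, hn⟩ | ⟨hpr, k, hk⟩
  · rw [h9] at hcard
    norm_num at hcard
    exact S.not_order (k := 3) (x := 45) (by omega) (by norm_num)
  · have hn1 : 1 ≤ n := by
      have := Fintype.one_lt_card (α := F)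
      by_contra h
      interval_cases n
      omega
    have h2 : ringChar F = 2 :=
      (Nat.prime_dvd_prime_iff_eq hp Nat.prime_two).mp (hp.dvd_of_dvd_pow (m := 2) (n := n) (by
        rw [← hn, he]; exact dvd_pow_self _ e.ne_zero))
    rcases eq_or_lt_of_le hn1 with h1 | h1
    · subst h1
      rw [hn] at hcard
      norm_num at hcard
      exact S.not_order (k := 1) (x := 3) (by omega) (by norm_num)
    haveI : CharP F 2 := h2 ▸ (inferInstance : CharP F (ringChar F))
    have h4 : 4 ≤ Nat.card F := by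
      rw [Nat.card_eq_fintype_card, hn, show (4 : ℕ) = 2 ^ 2 from rfl]
      exact Nat.pow_le_pow_right (by norm_num) h1
    obtain ⟨v, -, hv, -, -⟩ := S.exists_four 1 (by decide)
    have hspec := CfsgLib.SL2.spectrum_PSL (F := F) 2 h4
    have hmem : 4 ∈ Set.range (orderOf : Matrix.ProjectiveSpecialLinearGroup (Fin 2) F → ℕ) :=
      ⟨φ v, by rw [MulEquiv.orderOf_eq, hv]⟩
    rw [hspec, Nat.card_eq_fintype_card, hn] at hmem
    have hev : 2 ∣ 2 ^ n := dvd_pow_self 2 (by omega)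
    have hgd := Nat.gcd_dvd_right 2 (2 ^ n - 1)
    have hgl := Nat.gcd_dvd_left 2 (2 ^ n - 1)
    have hone : 1 ≤ 2 ^ n := Nat.one_le_two_pow
    have hge : Nat.gcd 2 (2 ^ n - 1) = 1 := by
      rcases (Nat.dvd_prime Nat.prime_two).mp hgl with h | h
      · exact h
      · rw [h] at hgd; generalize 2 ^ n = q at *; omega
    rw [Set.mem_ofPred_eq, hge, Nat.div_one, Nat.div_one] at hmem
    rcases hmem with h | h | h
    · exact absurd (Nat.le_of_dvd (by norm_num) h) (by norm_num)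
    · have := (show (2 : ℕ) ∣ 4 by norm_num).trans h; generalize 2 ^ n = q at *; omega
    · have := (show (2 : ℕ) ∣ 4 by norm_num).trans h; generalize 2 ^ n = q at *; omega
  · set p := Fintype.card F with hpdef
    by_cases hp4 : p < 4
    · have : p = 2 ∨ p = 3 := by have := hpr.two_le; omega
      rcases this with h | h <;> rw [h] at hcard <;> norm_num at hcard
      · exact S.not_order (k := 1) (x := 3) (by omega) (by norm_num)
      · exact S.not_order (k := 2) (x := 3) (by omega) (by norm_num)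
    have hchar : ringChar F = p := (Nat.prime_dvd_prime_iff_eq hp hpr).mp (he ▸ dvd_pow_self _ e.ne_zero)
    have hpo : p % 2 = 1 := Nat.odd_iff.mp (hpr.odd_of_ne_two (by omega))
    have hg : Nat.gcd 2 (p - 1) = 2 := Nat.gcd_eq_left (by omega)
    rw [hg] at hcard
    have hspec := CfsgLib.SL2.spectrum_PSL (F := F) (ringChar F) (by rw [Nat.card_eq_fintype_card]; omega)
    rw [Nat.card_eq_fintype_card, hg] at hspec
    have hk2 : 2 ≤ k := by
      by_contra h
      interval_cases k <;> simp at hk <;> omega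
    obtain ⟨k', rfl⟩ : ∃ k', k = k' + 2 := ⟨k - 2, by omega⟩
    have hex : ∀ w, (w ∣ (p - 1) / 2 ∨ w ∣ (p + 1) / 2) → ∃ c : G, orderOf c = w := by
      intro w hw
      obtain ⟨c, hc⟩ : w ∈ Set.range (orderOf : Matrix.ProjectiveSpecialLinearGroup (Fin 2) F → ℕ) := by
        rw [hspec]; exact Or.inr hw
      exact ⟨φ.symm c, by rw [MulEquiv.orderOf_eq, hc]⟩
    have hpow : 2 ^ (k' + 2) = 4 * 2 ^ k' := by ring
    have hev : 2 ^ k' = 1 ∨ 2 ∣ 2 ^ k' := by
      rcases Nat.eq_zero_or_pos k' with rfl | h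
      · exact Or.inl rfl
      · exact Or.inr (dvd_pow_self 2 (by omega))
    rcases hk with h | h
    · obtain ⟨c, hc⟩ := hex (2 * 2 ^ k' + 1) (Or.inr (dvd_of_eq (by omega)))
      refine S.not_psl_prime hpr (k := k' + 2) (w := 2 * 2 ^ k' + 1) ?_ (by omega) (by omega) ⟨2 ^ k', rfl⟩ hc
      have e1 : p - 1 = 2 ^ (k' + 2) := by omega
      have e2 : p + 1 = 2 * (2 * 2 ^ k' + 1) := by omega
      rw [e1, e2] at hcard
      refine Nat.eq_of_mul_eq_mul_left (show 0 < 2 by norm_num) ?_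
      rw [hcard]; ring
    · obtain ⟨c, hc⟩ := hex (2 * 2 ^ k' - 1) (Or.inl (dvd_of_eq (by omega)))
      refine S.not_psl_prime hpr (k := k' + 2) (w := 2 * 2 ^ k' - 1) ?_ (by omega) (by omega)
        (by rw [Nat.odd_iff]; omega) hc
      have e1 : p + 1 = 2 ^ (k' + 2) := by omega
      have e2 : p - 1 = 2 * (2 * 2 ^ k' - 1) := by omega
      rw [e1, e2] at hcard
      refine Nat.eq_of_mul_eq_mul_left (show 0 < 2 by norm_num) ?_
      rw [hcard]; ring

end Setting

/-- Without an involution commuting with an element of odd prime order the group is a Suzuki group. -/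
theorem isoSuzuki_of_cit (S : Setting G) [IsSimpleGroup G] (hnc : ¬ IsMulCommutative G)
    (hcit : ¬ Mixed G) : Cfsg.Lie.IsoSuzuki G := by
  have hG : ∃ a b : G, a * b ≠ b * a := by
    by_contra! h
    exact hnc ⟨⟨h⟩⟩
  have hC : ∀ t : G, orderOf t = 2 → IsPGroup 2 (Subgroup.centralizer ({t} : Set G)) := by
    intro t ht
    rw [IsPGroup.iff_card]
    refine ⟨_, Nat.eq_prime_pow_of_unique_prime_dvd Nat.card_pos.ne' fun {s} hs hsd => ?_⟩
    by_contra hs2
    haveI : Fact s.Prime := ⟨hs⟩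
    obtain ⟨x, hx⟩ := exists_prime_orderOf_dvd_card' s hsd
    refine hcit ⟨t, x, ht, ?_, ?_, (Subgroup.mem_centralizer_singleton_iff.mp x.2).symm⟩
    · rw [Subgroup.orderOf_coe, hx]; exact hs
    · rw [Subgroup.orderOf_coe, hx]; exact hs2
  rcases CfsgLib.CIT.classification_iso hG hC with ⟨F, i1, i2, hF, ⟨φ⟩⟩ | ⟨F, i1, i2, hF, ⟨φ⟩⟩ | h
  · exact (S.not_psl_two hF φ).elim
  · exfalso
    refine S.not_order (k := 6) (x := 315) ?_ dvd_rfl
    rw [Nat.card_congr φ.toEquiv, CfsgLib.Steiner.natCard_PSL34 F hF]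
    norm_num
  · exact h

end CfsgLib.SuzukiSC
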