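import Cfsg.Agent.Lib.SuzukiSC.Basic
import Cfsg.Agent.Lib.Char.TIFamily

/-!
# Elementary facts about the three strongly self-centralising subgroups
-/

set_option autoImplicit false
set_option linter.style.haveILetI false
set_option linter.unusedSectionVars false

namespace CfsgLib.SuzukiSC

variable {G : Type*} [Group G] [Finite G]

namespace Setting

variable (S : Setting G)

theorem n_pos (i : Fin 3) : 0 < S.n i := Nat.card_pos

theorem n_ge (i : Fin 3) : 5 ≤ S.n i := by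
  rcases eq_or_ne i 0 with rfl | h
  · exact S.five
  · exact (S.six i h).le

theorem ne_bot (i : Fin 3) : S.A i ≠ ⊥ := fun h => by
  have h' := S.n_ge i
  rw [Setting.n, h, Subgroup.card_bot] at h'
  omega

theorem exists_ne_one (i : Fin 3) : ∃ a ∈ S.A i, a ≠ 1 :=
  (Subgroup.bot_or_exists_ne_one (S.A i)).resolve_left (S.ne_bot i)

theorem comm (i : Fin 3) {a b : G} (ha : a ∈ S.A i) (hb : b ∈ S.A i) : a * b = b * a := by
  by_cases h : a = 1
  · simp [h]
  · have := (S.sc i a ha h).symm ▸ hb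
    exact (Subgroup.mem_centralizer_singleton_iff.1 this).symm

theorem mem_of_comm (i : Fin 3) {a b : G} (ha : a ∈ S.A i) (h1 : a ≠ 1) (h : b * a = a * b) :
    b ∈ S.A i := by
  rw [← S.sc i a ha h1]; exact Subgroup.mem_centralizer_singleton_iff.2 h

/-- An element centralising a conjugate of a non-identity element lies in that conjugate. -/
theorem conj_mem_of_comm (i : Fin 3) {a b g : G} (ha : g * a * g⁻¹ ∈ S.A i) (h1 : a ≠ 1)
    (h : b * a = a * b) : g * b * g⁻¹ ∈ S.A i := by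
  refine S.mem_of_comm i ha (fun e => h1 (conj_eq_one_iff.1 e)) ?_
  calc g * b * g⁻¹ * (g * a * g⁻¹) = g * (b * a) * g⁻¹ := by group
    _ = g * (a * b) * g⁻¹ := by rw [h]
    _ = _ := by group

/-- The trivial intersection property. -/
theorem conj_mem_normalizer (i : Fin 3) {a g : G} (ha : a ∈ S.A i) (h1 : a ≠ 1)
    (h : g * a * g⁻¹ ∈ S.A i) : g ∈ Subgroup.normalizer (S.A i : Set G) := by
  haveI := Fintype.ofFinite G
  refine Subgroup.mem_normalizer_fintype fun c hc => ?_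
  exact S.conj_mem_of_comm i h h1 (S.comm i hc ha)

theorem card_normalizer (i : Fin 3) :
    Nat.card ↥(Subgroup.normalizer (S.A i : Set G)) = eIdx i * S.n i := by
  have h := ((S.A i).subgroupOf (Subgroup.normalizer (S.A i : Set G))).card_mul_index
  rw [Nat.card_congr (Subgroup.subgroupOfEquivOfLe Subgroup.le_normalizer).toEquiv] at h
  rw [← h, ← S.idx i, mul_comm]
  rfl

theorem n_eq (i : Fin 3) : S.n i = eIdx i * S.t i + 1 := by
  classical
  haveI := Fintype.ofFinite G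
  haveI := Fintype.ofFinite (S.A i)
  obtain ⟨Fam, hF, -⟩ := CfsgLib.Char.exists_family (S.A i) (fun x hx h1 => S.sc i x hx h1)
    (S.ne_bot i) (S.card_normalizer i)
  have he : 0 < eIdx i := by fin_cases i <;> simp [eIdx]
  have : S.t i = Fam.card := by
    rw [Setting.t, Setting.n, ← hF, Nat.add_sub_cancel, Nat.mul_div_cancel_left _ he]
  rw [this, hF]; rfl

theorem n_odd (i : Fin 3) : Odd (S.n i) := by
  rw [S.n_eq i]
  refine Even.add_one (Even.mul_right ?_ _)
  fin_cases i <;> simp [eIdx, even_iff_two_dvd]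

theorem t_two (i : Fin 3) : 2 ≤ S.t i := by
  have h := S.n_eq i
  have h5 := S.n_ge i
  rcases eq_or_ne i 0 with rfl | hi
  · simp [eIdx] at h; omega
  · have h6 : 5 < S.n i := S.six i hi
    have he : eIdx i = 4 := by fin_cases i <;> simp [eIdx] at hi ⊢
    rw [he] at h; omega

theorem m_pos : 0 < S.m := Nat.mul_pos (Nat.mul_pos (S.n_pos 0) (S.n_pos 1)) (S.n_pos 2)

theorem n_dvd_m (i : Fin 3) : S.n i ∣ S.m := by
  fin_cases i
  · exact (Dvd.intro _ rfl).mul_right _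
  · exact (Dvd.intro_left _ rfl).mul_right _
  · exact Dvd.intro_left _ rfl

theorem exists_n_of_dvd_m {l : ℕ} (hl : l.Prime) (h : l ∣ S.m) : ∃ i, l ∣ S.n i := by
  rcases hl.dvd_mul.1 h with h | h
  · rcases hl.dvd_mul.1 h with h | h
    exacts [⟨0, h⟩, ⟨1, h⟩]
  · exact ⟨2, h⟩

theorem m_odd : Odd S.m := ((S.n_odd 0).mul (S.n_odd 1)).mul (S.n_odd 2)

/-- A `p`-element, `p` dividing `|A i|`, is conjugate into `A i`. -/
theorem conj_into {l : ℕ} (hl : l.Prime) (i : Fin 3) (h : l ∣ S.n i) {y : G} {a : ℕ}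
    (hy : orderOf y = l ^ a) : ∃ g, g * y * g⁻¹ ∈ S.A i := by
  haveI : Fact l.Prime := ⟨hl⟩
  obtain ⟨⟨x, hxA⟩, hx⟩ := exists_prime_orderOf_dvd_card' (G := S.A i) l h
  rw [Subgroup.orderOf_mk] at hx
  have hx1 : x ≠ 1 := fun e => by rw [e, orderOf_one] at hx; exact hl.one_lt.ne hx
  obtain ⟨P, hP⟩ := (IsPGroup.of_card (G := Subgroup.zpowers x) (n := 1)
    (by rw [Nat.card_zpowers, hx, pow_one])).exists_le_sylow
  have hxP : x ∈ (P : Subgroup G) := hP (Subgroup.mem_zpowers x)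
  haveI : Nontrivial (P : Subgroup G) := ⟨⟨⟨x, hxP⟩, 1, fun e => hx1 (congrArg Subtype.val e)⟩⟩
  haveI := P.2.center_nontrivial
  obtain ⟨⟨⟨c, hcP⟩, hcZ⟩, hc1⟩ := exists_ne (1 : Subgroup.center (P : Subgroup G))
  have hcomm : ∀ q ∈ (P : Subgroup G), q * c = c * q := fun q hq =>
    congrArg Subtype.val (Subgroup.mem_center_iff.1 hcZ ⟨q, hq⟩)
  have hc1' : c ≠ 1 := fun e => hc1 (Subtype.ext (Subtype.ext e))
  have hcA : c ∈ S.A i := S.mem_of_comm i hxA hx1 (hcomm x hxP).symm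
  have hPA : (P : Subgroup G) ≤ S.A i := fun q hq => S.mem_of_comm i hcA hc1' (hcomm q hq)
  obtain ⟨R, hR⟩ := (IsPGroup.of_card (G := Subgroup.zpowers y) (n := a)
    (by rw [Nat.card_zpowers, hy])).exists_le_sylow
  obtain ⟨g, hg⟩ := MulAction.exists_smul_eq G R P
  refine ⟨g, hPA ?_⟩
  rw [← hg]
  exact ⟨y, hR (Subgroup.mem_zpowers y), rfl⟩

theorem coprime {i j : Fin 3} (hij : i ≠ j) : (S.n i).Coprime (S.n j) := by
  refine Nat.coprime_of_dvd fun l hl hi hj => ?_
  haveI : Fact l.Prime := ⟨hl⟩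
  obtain ⟨⟨x, hx⟩, hxl⟩ := exists_prime_orderOf_dvd_card' (G := S.A i) l hi
  rw [Subgroup.orderOf_mk] at hxl
  have hx1 : x ≠ 1 := fun e => by rw [e, orderOf_one] at hxl; exact hl.one_lt.ne hxl
  obtain ⟨g, hg⟩ := S.conj_into hl j hj (a := 1) (by rw [hxl, pow_one])
  refine S.nc i j hij g (le_antisymm ?_ ?_)
  · rintro _ ⟨b, hb, rfl⟩
    exact S.conj_mem_of_comm j hg hx1 (S.comm i hb hx)
  · intro b hb
    refine ⟨g⁻¹ * b * g, ?_, by simp [mul_assoc]⟩
    refine S.mem_of_comm i hx hx1 ?_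
    have := S.comm j hb hg
    calc g⁻¹ * b * g * x = g⁻¹ * (b * (g * x * g⁻¹)) * g := by group
      _ = g⁻¹ * (g * x * g⁻¹ * b) * g := by rw [this]
      _ = _ := by group

/-- A non-identity element lies in conjugates of at most one of the three subgroups. -/
theorem eq_index {i j : Fin 3} {y g h : G} (h1 : y ≠ 1) (hi : g * y * g⁻¹ ∈ S.A i)
    (hj : h * y * h⁻¹ ∈ S.A j) : i = j := by
  by_contra hij
  have d1 := Subgroup.orderOf_dvd_natCard _ hi
  have d2 := Subgroup.orderOf_dvd_natCard _ hj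
  rw [show g * y * g⁻¹ = MulAut.conj g y from rfl, MulEquiv.orderOf_eq] at d1
  rw [show h * y * h⁻¹ = MulAut.conj h y from rfl, MulEquiv.orderOf_eq] at d2
  exact h1 (orderOf_eq_one_iff.1 (Nat.eq_one_of_dvd_coprimes (S.coprime hij) d1 d2))

theorem InR.ne_one {S : Setting G} {y : G} (h : S.InR y) : y ≠ 1 := h.1

theorem InR.conj {S : Setting G} {y : G} (h : S.InR y) (c : G) : S.InR (c * y * c⁻¹) := by
  refine ⟨fun e => h.1 (conj_eq_one_iff.1 e), fun i g hg => h.2 i (g * c) ?_⟩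
  rwa [show g * c * y * (g * c)⁻¹ = g * (c * y * c⁻¹) * g⁻¹ by group]

theorem InR.pow {S : Setting G} {y : G} (h : S.InR y) {d : ℕ} (hd : y ^ d ≠ 1) : S.InR (y ^ d) :=
  ⟨hd, fun i g hg => h.2 i g (S.conj_mem_of_comm i hg hd (Commute.self_pow y d).eq)⟩

theorem InR.comm_inR {S : Setting G} {y z : G} (h : S.InR y) (hz : z ≠ 1) (hc : y * z = z * y) :
    S.InR z :=
  ⟨hz, fun i g hg => h.2 i g (S.conj_mem_of_comm i hg hz hc)⟩

theorem inR_or {y : G} (h : y ≠ 1) : S.InR y ∨ ∃ (i : Fin 3) (g : G), g * y * g⁻¹ ∈ S.A i := by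
  by_cases hR : ∃ (i : Fin 3) (g : G), g * y * g⁻¹ ∈ S.A i
  · exact Or.inr hR
  · push Not at hR; exact Or.inl ⟨h, hR⟩

theorem inR_of_coprime {y : G} (h : y ≠ 1) (hc : (orderOf y).Coprime S.m) : S.InR y := by
  refine ⟨h, fun i g hg => h ?_⟩
  have d := Subgroup.orderOf_dvd_natCard _ hg
  rw [show g * y * g⁻¹ = MulAut.conj g y from rfl, MulEquiv.orderOf_eq] at d
  exact orderOf_eq_one_iff.1 (Nat.eq_one_of_dvd_coprimes hc dvd_rfl (d.trans (S.n_dvd_m i)))

theorem inR_of_two_pow {y : G} {a : ℕ} (h : orderOf y = 2 ^ (a + 1)) : S.InR y := by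
  refine S.inR_of_coprime (fun e => ?_) ?_
  · rw [e, orderOf_one] at h
    exact absurd h.symm (Nat.one_lt_two_pow (by omega)).ne'
  · rw [h]; exact (Nat.coprime_two_left.2 S.m_odd).pow_left _

theorem InR.centralizer_coprime {S : Setting G} {y : G} (h : S.InR y) :
    (Nat.card ↥(Subgroup.centralizer ({y} : Set G))).Coprime S.m := by
  refine Nat.coprime_of_dvd fun l hl hlc hlm => ?_
  haveI : Fact l.Prime := ⟨hl⟩
  obtain ⟨i, hi⟩ := S.exists_n_of_dvd_m hl hlm
  obtain ⟨⟨c, hc⟩, hcl⟩ := exists_prime_orderOf_dvd_card'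
    (G := Subgroup.centralizer ({y} : Set G)) l hlc
  rw [Subgroup.orderOf_mk] at hcl
  have hc1 : c ≠ 1 := fun e => by rw [e, orderOf_one] at hcl; exact hl.one_lt.ne hcl
  obtain ⟨g, hg⟩ := S.conj_into hl i hi (a := 1) (by rw [hcl, pow_one])
  exact h.2 i g (S.conj_mem_of_comm i hg hc1 (Subgroup.mem_centralizer_singleton_iff.1 hc).symm)

theorem InR.orderOf_coprime {S : Setting G} {y : G} (h : S.InR y) : (orderOf y).Coprime S.m :=
  h.centralizer_coprime.coprime_dvd_left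
    (Subgroup.orderOf_dvd_natCard _ (Subgroup.mem_centralizer_singleton_iff.2 rfl))

/-- An element of the normaliser fixing only `1` of `A i`. -/
theorem fixed_eq_one (i : Fin 3) {g a : G} (hg : g ∉ S.A i) (ha : a ∈ S.A i) (h : g * a = a * g) :
    a = 1 := by
  by_contra h1
  exact hg (S.mem_of_comm i ha h1 h)

theorem sq_eq_one_of_sq_mem (i : Fin 3) {g : G} (hg : g ∉ S.A i) (h : g * g ∈ S.A i) : g * g = 1 :=
  S.fixed_eq_one i hg h (mul_assoc g g g).symm

/-- An involution of the normaliser inverts `A i`. -/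
theorem inverts (i : Fin 3) {g : G} (hgN : g ∈ Subgroup.normalizer (S.A i : Set G)) (hg : g ∉ S.A i)
    (hsq : g * g ∈ S.A i) {a : G} (ha : a ∈ S.A i) : g * a * g⁻¹ = a⁻¹ := by
  have h2 := S.sq_eq_one_of_sq_mem i hg hsq
  have gi : g⁻¹ = g := inv_eq_of_mul_eq_one_right h2
  have hb : g * a * g⁻¹ ∈ S.A i := (Subgroup.mem_normalizer_iff.1 hgN a).1 ha
  refine eq_inv_of_mul_eq_one_left (S.fixed_eq_one i hg (mul_mem hb ha) ?_)
  have hc := S.comm i hb ha
  calc g * (g * a * g⁻¹ * a) = g * g * a * (g⁻¹ * a) := by group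
    _ = a * (g * a * g⁻¹) * g := by rw [h2, gi]; simp [mul_assoc, h2]
    _ = _ := by rw [← hc]

theorem relIndex_two {g : G} (hg : g ∈ Subgroup.normalizer (S.A 0 : Set G)) : g * g ∈ S.A 0 := by
  set N := Subgroup.normalizer (S.A 0 : Set G)
  have h2 : ((S.A 0).subgroupOf N).index = 2 := S.idx 0
  exact Subgroup.mul_self_mem_of_index_two h2 ⟨g, hg⟩

theorem invol_normalizer {g : G} (hg : g ∈ Subgroup.normalizer (S.A 0 : Set G)) (h : g ∉ S.A 0) :
    orderOf g = 2 ∧ ∀ a ∈ S.A 0, g * a * g⁻¹ = a⁻¹ := by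
  have hm := S.relIndex_two hg
  refine ⟨?_, fun a ha => S.inverts 0 hg h hm ha⟩
  haveI : Fact (Nat.Prime 2) := ⟨Nat.prime_two⟩
  exact orderOf_eq_prime (by rw [pow_two, S.sq_eq_one_of_sq_mem 0 h hm]) fun e => h (e ▸ one_mem _)

/-- An element of order four of the normaliser. -/
theorem exists_four (i : Fin 3) (hi : i ≠ 0) : ∃ v ∈ Subgroup.normalizer (S.A i : Set G),
    orderOf v = 4 ∧ v * v ∉ S.A i ∧ ∀ a ∈ S.A i, v * v * a * (v * v)⁻¹ = a⁻¹ := by
  set N := Subgroup.normalizer (S.A i : Set G) with hNdef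
  set K := (S.A i).subgroupOf N with hKdef
  haveI : K.Normal := Subgroup.normal_subgroupOf_of_le_normalizer le_rfl
  have h4 : K.index = 4 := by
    rw [hKdef, ← Subgroup.relIndex, S.idx i]
    fin_cases i <;> simp [eIdx] at hi ⊢
  have hex : ∃ g ∈ N, g * g ∉ S.A i := by
    by_contra! hall
    obtain ⟨a, ha, ha1⟩ := S.exists_ne_one i
    -- two elements outside `A` in different cosets
    obtain ⟨g, hg⟩ : ∃ g : N, g ∉ K := by
      by_contra! h
      rw [show K = ⊤ from eq_top_iff.2 fun x _ => h x, Subgroup.index_top] at h4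
      omega
    obtain ⟨h, hh1, hh2⟩ : ∃ h : N, h ∉ K ∧ g⁻¹ * h ∉ K := by
      by_contra! hcov
      have : ∀ q : N ⧸ K, q = 1 ∨ q = (g : N ⧸ K) := by
        intro q
        obtain ⟨h, rfl⟩ := QuotientGroup.mk_surjective q
        by_cases hk : h ∈ K
        · exact Or.inl ((QuotientGroup.eq_one_iff h).2 hk)
        · exact Or.inr (QuotientGroup.eq.2 (hcov h hk)).symm
      have hle := Nat.card_le_card_of_surjective (fun b : Bool => if b then (1 : N ⧸ K) else (g : N ⧸ K))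
        fun q => by rcases this q with r | r <;> [exact ⟨true, r.symm⟩; exact ⟨false, r.symm⟩]
      rw [← Subgroup.index_eq_card, h4, Nat.card_eq_fintype_card, Fintype.card_bool] at hle
      omega
    have inv : ∀ c : N, c ∉ K → ∀ b ∈ S.A i, (c : G) * b * (c : G)⁻¹ = b⁻¹ := fun c hc b hb =>
      S.inverts i c.2 hc (hall _ c.2) hb
    have hghc : (g : G)⁻¹ * h * a = a * ((g : G)⁻¹ * h) := by
      have e1 := inv g hg a ha
      have e2 := inv h hh1 a ha
      calc (g : G)⁻¹ * h * a = (g : G)⁻¹ * ((h : G) * a * (h : G)⁻¹) * h := by group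
        _ = (g : G)⁻¹ * ((g : G) * a * (g : G)⁻¹) * h := by rw [e1, e2]
        _ = _ := by group
    exact ha1 (S.fixed_eq_one i (g := (g : G)⁻¹ * h) hh2 ha hghc)
  obtain ⟨g, hg, hgg⟩ := hex
  have hg4 : g ^ 4 ∈ S.A i := by
    have h := Subgroup.pow_index_mem K (⟨g, hg⟩ : N)
    rw [h4] at h
    exact h
  have hgA : g ∉ S.A i := fun h => hgg (mul_mem h h)
  have h41 : g ^ 4 = 1 := S.fixed_eq_one i hgA hg4 (Commute.self_pow g 4).eq
  haveI : Fact (Nat.Prime 2) := ⟨Nat.prime_two⟩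
  refine ⟨g, hg, ?_, hgg, fun a ha => S.inverts i (mul_mem hg hg) hgg ?_ ha⟩
  · exact orderOf_eq_prime_pow (p := 2) (n := 1)
      (by rw [pow_one, pow_two]; exact fun e => hgg (e ▸ one_mem _)) (by simpa using h41)
  · rw [show g * g * (g * g) = g ^ 4 by simp [pow_succ, mul_assoc]]; exact hg4

theorem exists_four' (S : Setting G) : ∃ v : G, orderOf v = 4 := by
  obtain ⟨v, -, hv, -⟩ := S.exists_four 1 (by decide)
  exact ⟨v, hv⟩

end Setting

end CfsgLib.SuzukiSC
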