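import Cfsg.Agent.Lib.SuzukiSC.TableDef
import Cfsg.Agent.Lib.Char.TIFamily

/-!
# The exceptional family of a self-centralising TI subgroup with its values

On the nonidentity elements of `X` the members are `ε χ + γ` for the characters `χ` of the normaliser
of degree `e` and one integer `γ`; the other characters are constant integers there.
-/

set_option autoImplicit false
set_option linter.style.haveILetI false
set_option linter.unusedSectionVars false

namespace CfsgLib.SuzukiSC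

open Cfsg CfsgLib
open scoped ComplexConjugate CfsgLib.Char _root_.Classical

section Kernel

variable {H : Type*} [Group H] [Fintype H] (K : Subgroup H) [K.Normal]

/-- The characters of a group with a self-centralising abelian normal subgroup `K` which are not
constant on `K`. -/
theorem exists_rel [Fintype K] (hC : ∀ k ∈ K, k ≠ 1 → ∀ x : H, x * k = k * x → x ∈ K)
    (hab : ∀ a b : K, a * b = b * a) (hK : K ≠ ⊥) {e n : ℕ} (hidx : K.index = e)
    (hn : Nat.card K = n) (hbig : e + 1 < n) :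
    ∃ Rel : Finset (IrrCharacter H), e * Rel.card + 1 = n ∧
      (∀ χ ∈ Rel, (χ : H → ℂ) 1 = (e : ℂ) ∧ (∀ x : H, x ∉ K → (χ : H → ℂ) x = 0) ∧
        ∑ x : K, (χ : H → ℂ) x = 0 ∧
        ¬ ∀ a ∈ K, ∀ b ∈ K, a ≠ 1 → b ≠ 1 → (χ : H → ℂ) a = (χ : H → ℂ) b) ∧
      (∀ χ, χ ∉ Rel → ∀ x ∈ K, (χ : H → ℂ) x = (χ : H → ℂ) 1) ∧
      ∀ k ∈ K, k ≠ 1 → ∑ χ ∈ Rel, (χ : H → ℂ) k = -1 ∧
        ∑ χ ∈ Rel, (χ : H → ℂ) k * conj ((χ : H → ℂ) k) = (n : ℂ) - e := by
  classical
  let P : IrrCharacter H → Prop := fun χ => ∃ k : H, k ∈ K ∧ (χ : H → ℂ) k ≠ (χ : H → ℂ) 1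
  let Rel : Finset (IrrCharacter H) := Finset.univ.filter P
  have hRel : ∀ χ, χ ∈ Rel ↔ P χ := fun χ => by simp [Rel]
  have hvan : ∀ χ ∈ Rel, ∀ x : H, x ∉ K → (χ : H → ℂ) x = 0 := fun χ hχ x hx =>
    Char.vanish_off_of_nonconstant K hC χ.2 ((hRel χ).mp hχ) hx
  have hdeg : ∀ χ ∈ Rel, (χ : H → ℂ) 1 = (e : ℂ) := fun χ hχ => by
    rw [Char.degree_of_nonconstant K hC hab χ.2 ((hRel χ).mp hχ), hidx]
  have hnon : ∀ χ, χ ∉ Rel → ∀ x ∈ K, (χ : H → ℂ) x = (χ : H → ℂ) 1 := by
    intro χ hχ x hx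
    by_contra h
    exact hχ ((hRel χ).mpr ⟨x, hx, h⟩)
  have hH : Nat.card H = e * n := by rw [← K.card_mul_index, hidx, hn, mul_comm]
  have hHc : (Nat.card H : ℂ) = (e : ℂ) * n := by rw [hH]; push_cast; rfl
  have hHne : (Nat.card H : ℂ) ≠ 0 := Nat.cast_ne_zero.mpr Nat.card_pos.ne'
  have hepos : 0 < e := hidx ▸ Nat.pos_of_ne_zero Subgroup.index_ne_zero_of_finite
  have hsumK : ∀ f : H → ℂ, (∀ x, x ∉ K → f x = 0) → ∑ x : H, f x = ∑ x : K, f x := by
    intro f hf
    refine (Fintype.sum_of_injective (fun x : K => (x : H)) Subtype.val_injective _ _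
      (fun x hx => ?_) fun x => rfl).symm
    exact hf x fun h => hx ⟨⟨x, h⟩, rfl⟩
  have hzero : ∀ χ ∈ Rel, ∑ x : K, (χ : H → ℂ) x = 0 := by
    intro χ hχ
    rw [← hsumK _ (hvan χ hχ)]
    have hne : (χ : H → ℂ) ≠ fun _ => 1 := fun h => by
      obtain ⟨k, -, hk'⟩ := (hRel χ).mp hχ
      rw [h] at hk'
      exact hk' rfl
    have h := Char.classInner_irr_ne χ.2 (Char.isIrrCharacter_one (G := H)) hne
    rw [classInner, mul_eq_zero, or_iff_right (inv_ne_zero hHne)] at h
    simpa using h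
  have hsq : ∀ χ ∈ Rel, ∑ x : K, (χ : H → ℂ) x * conj ((χ : H → ℂ) x) = (e : ℂ) * n := by
    intro χ hχ
    rw [← hsumK (fun x => (χ : H → ℂ) x * conj ((χ : H → ℂ) x))
      (fun x hx => by simp [hvan χ hχ x hx]), ← hHc]
    have h := Char.classInner_irr_self χ.2
    rw [classInner, inv_mul_eq_iff_eq_mul₀ hHne, mul_one] at h
    exact h
  obtain ⟨S, hS⟩ : ∃ S : ℂ, S = ∑ χ ∈ Relᶜ, (χ : H → ℂ) 1 * (χ : H → ℂ) 1 := ⟨_, rfl⟩
  have hreg : ∀ x ∈ K, x ≠ 1 → (e : ℂ) * ∑ χ ∈ Rel, (χ : H → ℂ) x + S = 0 := by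
    intro x hxK hx
    have h := Char.sum_degree_mul_irr (G := H) x
    rw [if_neg hx, ← Finset.sum_add_sum_compl Rel] at h
    rw [hS, Finset.mul_sum, ← h]
    congr 1
    · exact Finset.sum_congr rfl fun χ hχ => by rw [hdeg χ hχ]
    · exact Finset.sum_congr rfl fun χ hχ => by rw [hnon χ (Finset.mem_compl.mp hχ) x hxK]
  have htot : S + (Rel.card : ℂ) * (e * e) = (e : ℂ) * n := by
    have h := Char.sum_sq_degree (G := H)
    rw [← Finset.sum_add_sum_compl Rel, Finset.sum_congr rfl fun χ hχ => by rw [hdeg χ hχ],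
      Finset.sum_const, nsmul_eq_mul, hHc] at h
    rw [hS]
    simp only [pow_two] at h
    linear_combination h
  have hone : ∑ x : K, (if x = 1 then (0 : ℂ) else 1) = (n : ℂ) - 1 := by
    rw [Finset.sum_congr rfl (g := fun x : K => 1 - if x = 1 then (1 : ℂ) else 0) fun x _ => by
      by_cases hx : x = 1 <;> simp [hx],
      Finset.sum_sub_distrib, Finset.sum_ite_eq' Finset.univ (1 : K), if_pos (Finset.mem_univ _),
      Finset.sum_const, Finset.card_univ, nsmul_eq_mul, mul_one, ← Nat.card_eq_fintype_card, hn]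
  have he : (e : ℂ) ≠ 0 := Nat.cast_ne_zero.mpr hepos.ne'
  have hcard : e * Rel.card + 1 = n := by
    have h : ((n : ℂ) - 1) * S = (Rel.card : ℂ) * (e * e) := by
      have hs : ∑ x : K, ((e : ℂ) * ∑ χ ∈ Rel, (χ : H → ℂ) x + S) =
          (e : ℂ) * ((Rel.card : ℂ) * e) + S := by
        rw [Finset.sum_eq_single (1 : K)]
        · congr 2
          rw [Finset.sum_congr rfl fun χ hχ => ?_, Finset.sum_const, nsmul_eq_mul]
          exact hdeg χ hχ
        · exact fun x _ hx => hreg x x.2 fun h => hx (Subtype.ext h)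
        · simp
      rw [Finset.sum_add_distrib, ← Finset.mul_sum, Finset.sum_comm, Finset.sum_congr rfl hzero,
        Finset.sum_const_zero, mul_zero, zero_add, Finset.sum_const, Finset.card_univ, nsmul_eq_mul,
        ← Nat.card_eq_fintype_card, hn] at hs
      linear_combination hs
    have ha0 : (n : ℂ) ≠ 0 := Nat.cast_ne_zero.mpr (by omega)
    have h2 : ((e * Rel.card + 1 : ℕ) : ℂ) = (n : ℂ) := by
      push_cast
      refine mul_left_cancel₀ (mul_ne_zero he ha0) ?_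
      linear_combination ((n : ℂ) - 1) * htot - h
    exact_mod_cast h2
  have hSe : S = e := by
    have hc : (e : ℂ) * Rel.card + 1 = n := by exact_mod_cast hcard
    linear_combination htot - (e : ℂ) * hc
  refine ⟨Rel, hcard, fun χ hχ => ⟨hdeg χ hχ, hvan χ hχ, hzero χ hχ, fun hc => ?_⟩, hnon, fun k hk hk1 => ?_⟩
  · haveI : Nontrivial K := (Subgroup.nontrivial_iff_ne_bot K).mpr hK
    obtain ⟨x₀, hx₀⟩ := exists_ne (1 : K)
    have hd : ∀ x : K, x ≠ 1 → (χ : H → ℂ) x = (χ : H → ℂ) x₀ := fun x hx =>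
      hc x x.2 x₀ x₀.2 (fun h => hx (Subtype.ext h)) fun h => hx₀ (Subtype.ext h)
    obtain ⟨δ, hδ⟩ : ∃ δ : ℂ, δ = (χ : H → ℂ) x₀ := ⟨_, rfl⟩
    have h1 := hzero χ hχ
    rw [Finset.sum_congr rfl (g := fun x : K => δ * (if x = 1 then 0 else 1) +
      if x = 1 then (e : ℂ) else 0) fun x _ => ?_, Finset.sum_add_distrib, ← Finset.mul_sum, hone,
      Finset.sum_ite_eq' Finset.univ (1 : K), if_pos (Finset.mem_univ _)] at h1
    swap
    · by_cases hx : x = 1
      · subst hx; simpa using hdeg χ hχ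
      · rw [if_neg hx, if_neg hx, hd x hx, hδ]; ring
    have h2 := hsq χ hχ
    rw [Finset.sum_congr rfl (g := fun x : K => δ * conj δ * (if x = 1 then 0 else 1) +
      if x = 1 then (e : ℂ) * e else 0) fun x _ => ?_, Finset.sum_add_distrib, ← Finset.mul_sum, hone,
      Finset.sum_ite_eq' Finset.univ (1 : K), if_pos (Finset.mem_univ _)] at h2
    swap
    · by_cases hx : x = 1
      · subst hx
        rw [if_pos rfl, if_pos rfl, OneMemClass.coe_one, hdeg χ hχ, Complex.conj_natCast]; ring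
      · rw [if_neg hx, if_neg hx, hd x hx, hδ]; ring
    have h3 : conj δ * ((n : ℂ) - 1) + e = 0 := by
      have := congrArg conj h1
      simpa using this
    have h4 : ((((n : ℤ) - e) * ((n : ℤ) - 1) : ℤ) : ℂ) = ((e : ℤ) : ℂ) := by
      push_cast
      refine mul_left_cancel₀ he ?_
      linear_combination (conj δ * ((n : ℂ) - 1)) * h1 - ((n : ℂ) - 1) * h2 - (e : ℂ) * h3
    have h5 : ((n : ℤ) - e) * ((n : ℤ) - 1) = e := by exact_mod_cast h4
    nlinarith
  · have hs : ∑ χ ∈ Rel, (χ : H → ℂ) k = -1 := by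
      refine mul_left_cancel₀ he ?_
      linear_combination hreg k hk hk1 - hSe
    refine ⟨hs, ?_⟩
    have hcent : Subgroup.centralizer ({k} : Set H) = K := le_antisymm
      (fun x hx => hC k hk hk1 x (Subgroup.mem_centralizer_singleton_iff.mp hx)) fun x hx =>
      Subgroup.mem_centralizer_singleton_iff.mpr (congrArg Subtype.val (hab ⟨x, hx⟩ ⟨k, hk⟩))
    have h := Char.column_orthogonality (G := H) k k
    rw [if_pos (IsConj.refl k), hcent, hn, ← Finset.sum_add_sum_compl Rel,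
      Finset.sum_congr (s₁ := Relᶜ) rfl fun χ hχ => by
        rw [hnon χ (Finset.mem_compl.mp hχ) k hk,
          show conj ((χ : H → ℂ) 1) = (χ : H → ℂ) 1 by
            obtain ⟨d, -, hd⟩ := Char.exists_nat_degree_irr χ.2
            rw [hd, Complex.conj_natCast]],
      ← hS, hSe] at h
    linear_combination h

end Kernel

variable {G : Type*} [Group G] [Finite G]

/-- The exceptional family of a self-centralising TI subgroup, with values. -/
theorem exists_family_values (X : Subgroup G)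
    (hcent : ∀ x ∈ X, x ≠ 1 → Subgroup.centralizer ({x} : Set G) = X) (hX : X ≠ ⊥) {e : ℕ}
    (hN : Nat.card ↥(Subgroup.normalizer (X : Set G)) = e * Nat.card X) (hbig : e + 1 < Nat.card X) :
    ∃ (F : Finset (IrrCharacter G)) (gam eps : ℤ), (eps = 1 ∨ eps = -1) ∧
      e * F.card + 1 = Nat.card X ∧
      (∀ φ, φ ∉ F → ∃ c : ℤ, ∀ a ∈ X, a ≠ 1 → (φ : G → ℂ) a = c) ∧
      (∀ φ ∈ F, ∀ ψ ∈ F, ∀ g : G, (∀ h : G, h * g * h⁻¹ ∈ X → g = 1) →
        (φ : G → ℂ) g = (ψ : G → ℂ) g) ∧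
      (∀ φ ∈ F, ¬ ∀ a ∈ X, ∀ b ∈ X, a ≠ 1 → b ≠ 1 → (φ : G → ℂ) a = (φ : G → ℂ) b) ∧
      ∀ a ∈ X, a ≠ 1 → ∑ φ ∈ F, (φ : G → ℂ) a = ((-eps + F.card * gam : ℤ) : ℂ) ∧
        ∑ φ ∈ Fᶜ, (φ : G → ℂ) a * conj ((φ : G → ℂ) a) =
          ((e + 2 * (eps * gam) - F.card * gam ^ 2 : ℤ) : ℂ) := by
  classical
  letI : Fintype G := Fintype.ofFinite G
  set N : Subgroup G := Subgroup.normalizer (X : Set G) with hNdef
  haveI : Fintype N := Fintype.ofFinite _
  haveI : (X.subgroupOf N).Normal := Subgroup.normal_subgroupOf_of_le_normalizer le_rfl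
  have hXN : X ≤ N := Subgroup.le_normalizer
  have hab : ∀ a ∈ X, ∀ b ∈ X, a * b = b * a := by
    intro a ha b hb
    by_cases h : b = 1
    · simp [h]
    · exact Subgroup.mem_centralizer_singleton_iff.mp ((hcent b hb h).symm ▸ ha)
  have hTI : ∀ g : G, g ∉ N → ∀ k ∈ (X : Set G), g * k * g⁻¹ ∈ (X : Set G) → k = 1 := by
    intro g hg k hk hgk
    by_contra hk1
    have hk2 : g * k * g⁻¹ ≠ 1 := fun h => hk1 (conj_eq_one_iff.mp h)
    refine hg (Subgroup.mem_normalizer_fintype fun c hc => ?_)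
    rw [SetLike.mem_coe] at hc hk hgk ⊢
    rw [← hcent _ hgk hk2, Subgroup.mem_centralizer_singleton_iff]
    have h := hab c hc k hk
    calc g * c * g⁻¹ * (g * k * g⁻¹) = g * (c * k) * g⁻¹ := by group
      _ = g * (k * c) * g⁻¹ := by rw [h]
      _ = g * k * g⁻¹ * (g * c * g⁻¹) := by group
  set K := X.subgroupOf N with hK
  haveI : Fintype K := Fintype.ofFinite _
  have hC' : ∀ k ∈ K, k ≠ 1 → ∀ x : N, x * k = k * x → x ∈ K := by
    intro k hk hk1 x hx
    show (x : G) ∈ X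
    rw [← hcent _ hk (fun h => hk1 (Subtype.ext h)), Subgroup.mem_centralizer_singleton_iff]
    exact congrArg Subtype.val hx
  have hab' : ∀ a b : K, a * b = b * a := fun a b =>
    Subtype.ext (Subtype.ext (hab _ a.2 _ b.2))
  have hKcard : Nat.card K = Nat.card X :=
    Nat.card_congr (Subgroup.subgroupOfEquivOfLe hXN).toEquiv
  have hKidx : K.index = e := by
    have h := K.card_mul_index
    rw [hKcard, hN, mul_comm e] at h
    exact Nat.eq_of_mul_eq_mul_left Nat.card_pos h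
  have hKbot : K ≠ ⊥ := fun h => by
    rw [h, Subgroup.card_bot] at hKcard
    omega
  obtain ⟨Rel, hcard, hRel, hnon, hsums⟩ := exists_rel K hC' hab' hKbot hKidx hKcard hbig
  set n := Nat.card X with hn
  obtain ⟨χ₀, hχ₀⟩ : Rel.Nonempty := Finset.card_pos.mp (by
    rcases Nat.eq_zero_or_pos Rel.card with h | h
    · rw [h] at hcard; omega
    · exact h)
  obtain ⟨ε, hε, θ, hθirr, hθinj, hind⟩ := Char.exceptional_of_ti N (X : Set G) hTI
    (⟨χ₀, hχ₀⟩ : {χ : IrrCharacter N // χ ∈ Rel}) (fun χ => (χ.1 : N → ℂ)) (fun χ => χ.1.2)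
    (fun i j h => Subtype.ext (Subtype.ext h))
    (fun i j x hx => by rw [(hRel _ i.2).2.1 x hx, (hRel _ j.2).2.1 x hx])
    (fun i j => by rw [(hRel _ i.2).1, (hRel _ j.2).1])
  let Θ : {χ : IrrCharacter N // χ ∈ Rel} → IrrCharacter G := fun i => ⟨θ i, hθirr i⟩
  have hΘ : Function.Injective Θ := fun i j h => hθinj (congrArg Subtype.val h)
  obtain ⟨eps, heps, hεi⟩ : ∃ eps : ℤ, (eps = 1 ∨ eps = -1) ∧ ε = eps := by
    rcases hε with h | h
    · exact ⟨1, Or.inl rfl, by simp [h]⟩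
    · exact ⟨-1, Or.inr rfl, by simp [h]⟩
  have hεε : ε * ε = 1 := by rcases hε with h | h <;> simp [h]
  have hεconj : conj ε = ε := by rcases hε with h | h <;> simp [h]
  -- multiplicities in the restrictions
  have hcoef : ∀ (φ : IrrCharacter G) (i j : {χ : IrrCharacter N // χ ∈ Rel}),
      classInner (fun n : N => (φ : G → ℂ) n) (i.1 : N → ℂ) -
        classInner (fun n : N => (φ : G → ℂ) n) (j.1 : N → ℂ) =
      ε * ((if φ = Θ i then 1 else 0) - (if φ = Θ j then 1 else 0)) := by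
    intro φ i j
    have h := Char.frobenius_reciprocity N ((i.1 : N → ℂ) - (j.1 : N → ℂ)) (Char.isClassFunction_irr φ)
    rw [Char.indFun_sub, hind, Char.classInner_smul_left, Char.classInner_sub_left,
      Char.classInner_sub_left] at h
    rw [show θ i = ((Θ i : IrrCharacter G) : G → ℂ) from rfl,
      show θ j = ((Θ j : IrrCharacter G) : G → ℂ) from rfl, Char.classInner_coe, Char.classInner_coe] at h
    rw [← Char.classInner_conj_symm (i.1 : N → ℂ), ← Char.classInner_conj_symm (j.1 : N → ℂ), ← map_sub,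
      ← h, map_mul, hεconj, map_sub]
    congr 1
    congr 1 <;> split_ifs with h1 h2 h2 <;>
      first | exact map_one _ | exact map_zero _ | exact absurd h1.symm h2 | exact absurd h2.symm h1
  have hval : ∀ φ : IrrCharacter G, ∃ γ : ℂ, ∀ x ∈ K, x ≠ 1 → (φ : G → ℂ) (x : G) =
      (∑ i : {χ : IrrCharacter N // χ ∈ Rel},
        if φ = Θ i then ε * (i.1 : N → ℂ) x else 0) + γ := by
    intro φ
    set u : IrrCharacter N → ℂ := fun χ => classInner (fun n : N => (φ : G → ℂ) n) (χ : N → ℂ)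
    set c₀ : ℂ := u χ₀ - ε * (if φ = Θ ⟨χ₀, hχ₀⟩ then 1 else 0) with hc₀
    refine ⟨-c₀ + ∑ χ ∈ Relᶜ, u χ * (χ : N → ℂ) 1, fun x hxK hx => ?_⟩
    have he := congrFun (Char.classFunction_expansion
      (Char.isClassFunction_restrict N (Char.isClassFunction_irr φ))) x
    simp only [Finset.sum_apply, Pi.smul_apply, smul_eq_mul] at he
    rw [he, ← Finset.sum_add_sum_compl Rel, ← add_assoc]
    congr 1
    · rw [← Finset.sum_coe_sort Rel,
        Finset.sum_congr rfl (g := fun i : {χ : IrrCharacter N // χ ∈ Rel} =>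
          (if φ = Θ i then ε * (i.1 : N → ℂ) x else 0) + c₀ * (i.1 : N → ℂ) x) fun i _ => ?_]
      · rw [Finset.sum_add_distrib, ← Finset.mul_sum, Finset.sum_coe_sort Rel (fun χ => (χ : N → ℂ) x),
          (hsums x hxK hx).1, mul_neg, mul_one]
      · have h := hcoef φ i ⟨χ₀, hχ₀⟩
        have hi : u i.1 = c₀ + ε * (if φ = Θ i then 1 else 0) := by
          rw [hc₀]; linear_combination h
        show u i.1 * _ = _
        rw [hi]
        split_ifs <;> ring
    · refine Finset.sum_congr rfl fun χ hχ => ?_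
      show u χ * _ = _
      rw [hnon χ (Finset.mem_compl.mp hχ) x hxK]
  obtain ⟨γ, hγ₀⟩ : ∃ γ : ℂ, ∀ x ∈ K, x ≠ 1 →
      (Θ ⟨χ₀, hχ₀⟩ : G → ℂ) (x : G) = ε * (χ₀ : N → ℂ) x + γ := by
    obtain ⟨γ, hγ⟩ := hval (Θ ⟨χ₀, hχ₀⟩)
    refine ⟨γ, fun x hxK hx => ?_⟩
    rw [hγ x hxK hx, Finset.sum_eq_single (⟨χ₀, hχ₀⟩ : {χ : IrrCharacter N // χ ∈ Rel}), if_pos rfl]
    · exact fun i _ hi => if_neg fun h => hi (hΘ h).symm
    · simp
  have hγ : ∀ (i : {χ : IrrCharacter N // χ ∈ Rel}), ∀ x ∈ K, x ≠ 1 →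
      (Θ i : G → ℂ) (x : G) = ε * (i.1 : N → ℂ) x + γ := by
    intro i x hxK hx
    have hcl : IsClassFunction N ((i.1 : N → ℂ) - (χ₀ : N → ℂ)) := Char.isClassFunction_of_isGeneralized
      (Char.isGeneralized_sub (Char.isGeneralized_of_isIrr i.1.2) (Char.isGeneralized_of_isIrr χ₀.2))
    have h := Char.indFun_eq_of_ti N (X : Set G) hTI _ hcl (fun y hy => by
      rw [Pi.sub_apply, (hRel _ i.2).2.1 y hy, (hRel _ hχ₀).2.1 y hy, sub_self]) x hxK hx
    rw [Char.indFun_sub, hind i ⟨χ₀, hχ₀⟩, Pi.smul_apply, Pi.sub_apply, Pi.sub_apply, smul_eq_mul] at h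
    have h0 := hγ₀ x hxK hx
    show θ i (x : G) = _
    linear_combination ε * h + h0 - (θ i (x : G) - θ ⟨χ₀, hχ₀⟩ (x : G)) * hεε
  -- the common constant is an integer
  haveI : Nontrivial K := (Subgroup.nontrivial_iff_ne_bot K).mpr hKbot
  obtain ⟨gam, hgam⟩ : ∃ gam : ℤ, γ = gam := by
    have hKc : (Nat.card K : ℂ) = n := by rw [hKcard]
    have hn0 : (Nat.card K : ℂ) ≠ 0 := Nat.cast_ne_zero.mpr Nat.card_pos.ne'
    have hcc : (1 : ℕ) < Nat.card (ConjClasses K) := by
      rw [Nat.card_congr (Equiv.ofBijective (ConjClasses.mk : K → _) ⟨fun x y h => by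
        obtain ⟨g, hg⟩ := isConj_iff.mp (ConjClasses.mk_eq_mk_iff_isConj.mp h)
        rw [hab' g x, mul_inv_cancel_right] at hg
        exact hg, ConjClasses.mk_surjective⟩).symm]
      exact Finite.one_lt_card
    obtain ⟨lam, hlam⟩ : ∃ lam : IrrCharacter K, (lam : K → ℂ) ≠ fun _ => 1 := by
      by_contra h
      push Not at h
      rw [← Char.card_irr_eq_card_conjClasses] at hcc
      haveI : Subsingleton (IrrCharacter K) := ⟨fun a b => Subtype.ext ((h a).trans (h b).symm)⟩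
      exact absurd hcc (Finite.card_le_one_iff_subsingleton.mpr ‹_›).not_gt
    have hres : IsCharacter K fun k : K => θ ⟨χ₀, hχ₀⟩ ((k : N) : G) :=
      Char.isCharacter_restrict K (Char.isCharacter_restrict N (Char.isCharacter_of_isIrr (hθirr _)))
    have hres' := Char.isCharacter_restrict K (Char.isCharacter_of_isIrr χ₀.2)
    obtain ⟨d, hd⟩ : ∃ d : ℂ, d = θ ⟨χ₀, hχ₀⟩ 1 - ε * e - γ := ⟨_, rfl⟩
    have key : ∀ μ : IrrCharacter K, (μ : K → ℂ) 1 = 1 →
        (Nat.card K : ℂ) * classInner (fun k : K => θ ⟨χ₀, hχ₀⟩ ((k : N) : G)) (μ : K → ℂ) =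
          ε * ((Nat.card K : ℂ) * classInner (fun k : K => (χ₀ : N → ℂ) k) (μ : K → ℂ)) +
            γ * (∑ k : K, conj ((μ : K → ℂ) k)) + d := by
      intro μ hμ
      rw [classInner, classInner, mul_inv_cancel_left₀ hn0, mul_inv_cancel_left₀ hn0, Finset.mul_sum,
        Finset.mul_sum, Finset.sum_congr rfl (g := fun k : K => ε * ((χ₀ : N → ℂ) k * conj ((μ : K → ℂ) k)) +
          γ * conj ((μ : K → ℂ) k) + if k = 1 then d else 0) fun k _ => ?_]
      · rw [Finset.sum_add_distrib, Finset.sum_add_distrib, Finset.sum_ite_eq' Finset.univ (1 : K),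
          if_pos (Finset.mem_univ _)]
      · by_cases hk : k = 1
        · subst hk
          rw [if_pos rfl, hμ, map_one, hd, OneMemClass.coe_one, (hRel _ hχ₀).1, OneMemClass.coe_one]
          ring
        · rw [if_neg hk, show θ ⟨χ₀, hχ₀⟩ ((k : N) : G) = _ from
            hγ₀ k k.2 fun h => hk (Subtype.ext h)]
          ring
    let tr : IrrCharacter K := ⟨fun _ => 1, Char.isIrrCharacter_one⟩
    obtain ⟨n₀, hn₀⟩ := Char.exists_nat_classInner hres (Char.isCharacter_of_isIrr tr.2)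
    obtain ⟨n₁, hn₁⟩ := Char.exists_nat_classInner hres (Char.isCharacter_of_isIrr lam.2)
    obtain ⟨m, hm⟩ := Char.exists_nat_classInner hres' (Char.isCharacter_of_isIrr lam.2)
    have e0 := key tr rfl
    have e1 := key lam (Char.degree_one_of_comm hab' lam)
    have hm0 : classInner (fun k : K => (χ₀ : N → ℂ) k) (tr : K → ℂ) = 0 := by
      simp [classInner, tr, (hRel _ hχ₀).2.2.1]
    have hl0 : ∑ k : K, conj ((lam : K → ℂ) k) = 0 := by
      have h := Char.classInner_irr_ne (φ := fun _ : K => (1 : ℂ)) Char.isIrrCharacter_one lam.2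
        (Ne.symm hlam)
      rw [classInner, mul_eq_zero, or_iff_right (inv_ne_zero hn0)] at h
      simpa using h
    rw [hn₀, hm0, mul_zero, mul_zero, zero_add] at e0
    rw [hn₁, hm, hl0, mul_zero, add_zero] at e1
    simp only [tr, map_one, Finset.sum_const, Finset.card_univ, nsmul_eq_mul, mul_one,
      ← Nat.card_eq_fintype_card] at e0
    refine ⟨(n₀ : ℤ) - n₁ + eps * m, mul_left_cancel₀ hn0 ?_⟩
    push_cast
    rw [← hεi]
    linear_combination e1 - e0
  have hK' : ∀ a ∈ X, a ≠ 1 → ∃ x ∈ K, x ≠ 1 ∧ ((x : N) : G) = a := fun a ha ha1 =>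
    ⟨⟨a, hXN ha⟩, ha, fun h => ha1 (congrArg Subtype.val h), rfl⟩
  refine ⟨Finset.univ.image Θ, gam, eps, heps, ?_, ?_, ?_, ?_, ?_⟩
  · rw [Finset.card_image_of_injective _ hΘ, Finset.card_univ, Fintype.card_coe]
    exact hcard
  · intro φ hφ
    obtain ⟨c, hc⟩ := hval φ
    have h0 : ∀ i, φ ≠ Θ i := fun i h => hφ (Finset.mem_image.mpr ⟨i, Finset.mem_univ _, h.symm⟩)
    simp only [if_neg (h0 _), Finset.sum_const_zero, zero_add] at hc
    have hc' : ∀ a ∈ X, a ≠ 1 → (φ : G → ℂ) a = c := fun a ha ha1 => by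
      obtain ⟨x, hxK, hx1, rfl⟩ := hK' a ha ha1
      exact hc x hxK hx1
    haveI : Fintype X := Fintype.ofFinite _
    obtain ⟨d, -, hd⟩ := Char.exists_nat_degree_irr φ.2
    obtain ⟨k, hk, -⟩ := Char.exists_int_of_constant X hab hX φ hc' hd
    exact ⟨k, fun a ha ha1 => (hc' a ha ha1).trans hk⟩
  · intro φ hφ ψ hψ g hg
    obtain ⟨i, -, rfl⟩ := Finset.mem_image.mp hφ
    obtain ⟨j, -, rfl⟩ := Finset.mem_image.mp hψ
    show θ i g = θ j g
    have h := congrFun (hind i j) g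
    rw [Pi.smul_apply, smul_eq_mul, Pi.sub_apply, Pi.sub_apply, ← Pi.sub_apply (indFun N _),
      ← Char.indFun_sub] at h
    have h0 : indFun N ((i.1 : N → ℂ) - (j.1 : N → ℂ)) g = 0 := by
      simp only [indFun]
      refine mul_eq_zero_of_right _ (Finset.sum_eq_zero fun y _ => ?_)
      by_cases hy : y⁻¹ * g * y ∈ N
      · rw [Char.extendByZero_mem _ _ hy]
        by_cases hyX : y⁻¹ * g * y ∈ X
        · have hg1 : g = 1 := hg y⁻¹ (by rwa [inv_inv])
          have hy1 : (⟨y⁻¹ * g * y, hy⟩ : N) = 1 := Subtype.ext (by simp [hg1])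
          rw [hy1, Pi.sub_apply, (hRel _ i.2).1, (hRel _ j.2).1, sub_self]
        · rw [Pi.sub_apply, (hRel _ i.2).2.1 _ hyX, (hRel _ j.2).2.1 _ hyX, sub_self]
      · exact Char.extendByZero_notMem _ _ hy
    rw [h0] at h
    have hε0 : ε ≠ 0 := by rintro rfl; simp at hεε
    exact sub_eq_zero.mp ((mul_eq_zero.mp h.symm).resolve_left hε0)
  · intro φ hφ hc
    obtain ⟨i, -, rfl⟩ := Finset.mem_image.mp hφ
    refine (hRel _ i.2).2.2.2 fun a ha b hb ha1 hb1 => ?_
    have h := hc a ha b hb (fun h => ha1 (Subtype.ext h)) fun h => hb1 (Subtype.ext h)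
    rw [hγ i a ha ha1, hγ i b hb hb1] at h
    linear_combination ε * h - ((i.1 : N → ℂ) a - (i.1 : N → ℂ) b) * hεε
  · intro a ha ha1
    obtain ⟨x, hxK, hx1, rfl⟩ := hK' a ha ha1
    have hs := hsums x hxK hx1
    rw [← Finset.sum_coe_sort Rel, ← Finset.sum_coe_sort Rel] at hs
    have hcardΘ : (Finset.univ.image Θ).card = Rel.card := by
      rw [Finset.card_image_of_injective _ hΘ, Finset.card_univ, Fintype.card_coe]
    have hct : (e : ℂ) * Rel.card + 1 = n := by exact_mod_cast hcard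
    have hFsum : ∑ φ ∈ Finset.univ.image Θ, (φ : G → ℂ) (x : G) = -ε + Rel.card * γ := by
      rw [Finset.sum_image fun i _ j _ h => hΘ h, Finset.sum_congr rfl fun i _ => hγ i x hxK hx1,
        Finset.sum_add_distrib, ← Finset.mul_sum, hs.1, Finset.sum_const, Finset.card_univ,
        Fintype.card_coe, nsmul_eq_mul, mul_neg, mul_one]
    refine ⟨by rw [hFsum, hcardΘ, hgam, hεi]; push_cast; ring, ?_⟩
    have hFsq : ∑ φ ∈ Finset.univ.image Θ, (φ : G → ℂ) (x : G) * conj ((φ : G → ℂ) (x : G)) =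
        (n : ℂ) - e - 2 * (ε * γ) + Rel.card * γ ^ 2 := by
      have hγc : conj γ = γ := by rw [hgam, map_intCast]
      rw [Finset.sum_image fun i _ j _ h => hΘ h, Finset.sum_congr rfl
        (g := fun i : {χ : IrrCharacter N // χ ∈ Rel} => (i.1 : N → ℂ) x * conj ((i.1 : N → ℂ) x) +
          ε * γ * (i.1 : N → ℂ) x + ε * γ * conj ((i.1 : N → ℂ) x) + γ ^ 2) fun i _ => by
          rw [hγ i x hxK hx1, map_add, map_mul, hεconj, hγc]
          linear_combination ((i.1 : N → ℂ) x * conj ((i.1 : N → ℂ) x)) * hεε,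
        Finset.sum_add_distrib, Finset.sum_add_distrib, Finset.sum_add_distrib, ← Finset.mul_sum,
        ← Finset.mul_sum, ← map_sum, hs.1, hs.2, Finset.sum_const, Finset.card_univ, Fintype.card_coe,
        nsmul_eq_mul, map_neg, map_one]
      ring
    have h := Char.column_orthogonality (G := G) (x : G) (x : G)
    rw [if_pos (IsConj.refl _), hcent (x : G) hxK (fun h => hx1 (Subtype.ext h)), ← hn,
      ← Finset.sum_add_sum_compl (Finset.univ.image Θ), hFsq] at h
    rw [hcardΘ]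
    push_cast
    rw [← hgam, ← hεi]
    convert (eq_sub_of_add_eq' h).trans (show (n : ℂ) - ((n : ℂ) - e - 2 * (ε * γ) + Rel.card * γ ^ 2) =
      e + 2 * (ε * γ) - Rel.card * γ ^ 2 by ring) using 2
    ext
    simp

theorem exists_famData (S : Setting G) (i : Fin 3) : Nonempty (FamData S i) := by
  classical
  have hbig : eIdx i + 1 < Nat.card ↥(S.A i) := by
    have h5 := S.n_ge i
    rcases eq_or_ne i 0 with rfl | hi
    · simp only [eIdx, Matrix.cons_val_zero]; unfold Setting.n at h5; omega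
    · have h6 := S.six i hi
      have he : eIdx i = 4 := by fin_cases i <;> simp [eIdx] at hi ⊢
      omega
  obtain ⟨F, gam, eps, heps, hcard, hconst, hagree, hnc, hsum⟩ := exists_family_values (S.A i)
    (fun x hx h1 => S.sc i x hx h1) (S.ne_bot i) (S.card_normalizer i) hbig
  have hF : F.card = S.t i := by
    rw [Setting.t, Setting.n, ← hcard, Nat.add_sub_cancel, Nat.mul_div_cancel_left _ (Setting.e_pos i)]
  refine ⟨{
    F := F
    card_F := hF
    const := hconst
    agree := fun φ hφ ψ hψ g hg => hagree φ hφ ψ hψ g fun h hh =>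
      by_contra fun hg1 => hg ⟨hg1, h, hh⟩
    nonconst := ?_
    gam := gam
    eps := eps
    eps_sq := heps
    sum_F := fun a ha ha1 => by rw [← hF]; exact (hsum a ha ha1).1
    sum_compl := ?_ }⟩
  · intro φ hφ
    have h := hnc φ hφ
    push Not at h
    obtain ⟨a, ha, b, hb, ha1, hb1, hne⟩ := h
    exact ⟨a, ha, ha1, b, hb, hb1, hne⟩
  · intro a ha ha1
    apply Complex.ofReal_injective
    rw [Complex.ofReal_sum, Complex.ofReal_intCast, ← hF, ← (hsum a ha ha1).2,
      show (Finset.univ.filter fun φ => φ ∉ F) = Fᶜ by ext; simp]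
    exact Finset.sum_congr rfl fun φ _ => (Complex.mul_conj _).symm

end CfsgLib.SuzukiSC
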