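import Cfsg.Agent.Lib.SuzukiSC.LocalTwoR
import Cfsg.Agent.Lib.CNOdd.Solvable

/-!
A further prime `q` outside `m`: the Sylow `q`-subgroup is self centralising with one class, its
normaliser complement has order dividing `8r`, so the centraliser of a `q`-element is small.
-/

set_option autoImplicit false
set_option linter.unusedSectionVars false
set_option linter.style.haveILetI false

namespace CfsgLib.SuzukiSC

namespace LCtx

variable {G : Type*} [Group G] [Finite G] (C : LCtx G)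

theorem inR_prime {q : ℕ} (hq : q.Prime) (hqm : ¬ q ∣ C.S.m) {y : G} (hy : orderOf y = q) : C.S.InR y := by
  refine C.S.inR_of_coprime (fun e => ?_) ?_
  · rw [e, orderOf_one] at hy; exact hq.one_lt.ne hy
  · rw [hy]; exact hq.coprime_iff_not_dvd.mpr hqm

theorem other_prime_facts {q : ℕ} (hq : q.Prime) (hqm : ¬ q ∣ C.S.m) (h2 : q ≠ 2) (hr : q ≠ C.r) {y : G}
    (hy : orderOf y = q) : ¬ C.Known y := by
  intro h
  rcases C.known_order h with e | e | e | e <;> rw [hy] at e
  · exact h2 e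
  · exact absurd (e ▸ hq) (by norm_num)
  · exact hr e
  · exact absurd (e ▸ hq) (Nat.not_prime_mul (by norm_num) C.hr.one_lt.ne')

/-- A further prime is at most eleven. -/
theorem other_prime_le {q : ℕ} (hq : q.Prime) (hqd : q ∣ Nat.card G) (hqm : ¬ q ∣ C.S.m) (h2 : q ≠ 2)
    (hr : q ≠ C.r) : q ≤ 11 := by
  haveI : Fact q.Prime := ⟨hq⟩
  obtain ⟨y, hy⟩ := exists_prime_orderOf_dvd_card' (G := G) q hqd
  have hyR := C.inR_prime hq hqm hy
  have hyk := C.other_prime_facts hq hqm h2 hr hy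
  obtain ⟨g, hdvd⟩ := exists_sub_one_dvd hq hy fun j hj =>
    C.unknown_conj hyR hyk (C.inR_prime hq hqm hj) (C.other_prime_facts hq hqm h2 hr hj)
  have hqodd : q % 2 = 1 := Nat.odd_iff.mp (hq.odd_of_ne_two h2)
  have he : 2 ∣ orderOf g := (Nat.dvd_of_mod_eq_zero (by omega)).trans hdvd
  obtain ⟨hgR, hcases⟩ := C.even_order he
  have hr3 := C.r3
  have hro := C.r_odd
  have hgk : orderOf g = 2 ∨ orderOf g = 4 ∨ orderOf g = 2 * C.r := by
    by_cases hk : C.Known g
    · rcases C.known_order hk with e | e | e | e <;> omega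
    · have e := orderOf_of_isConj (C.unknown_conj hyR hyk hgR hk)
      rw [hy] at e
      omega
  rcases C.r_three_or_five with hr' | hr' <;> rcases hgk with e | e | e <;> rw [e] at hdvd <;>
    have := Nat.le_of_dvd (by omega) hdvd <;> omega

/-- A further prime gives a small rational centraliser. -/
theorem colBound_of_other {q : ℕ} (hq : q.Prime) (hqd : q ∣ Nat.card G) (hqm : ¬ q ∣ C.S.m) (h2 : q ≠ 2)
    (hr : q ≠ C.r) : C.S.ColBound C.r := by
  classical
  haveI : Fact q.Prime := ⟨hq⟩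
  have hq11 := C.other_prime_le hq hqd hqm h2 hr
  have hr3 := C.r3
  have hro := C.r_odd
  have hqodd : q % 2 = 1 := Nat.odd_iff.mp (hq.odd_of_ne_two h2)
  obtain ⟨y, hy⟩ := exists_prime_orderOf_dvd_card' (G := G) q hqd
  obtain ⟨Q, hQy⟩ := (IsPGroup.of_card (G := Subgroup.zpowers y) (n := 1)
    (by rw [Nat.card_zpowers, hy, pow_one])).exists_le_sylow
  have hyQ : y ∈ (Q : Subgroup G) := hQy (Subgroup.mem_zpowers y)
  have hQc : IsMulCommutative (Q : Subgroup G) := C.S.ab q hq h2 hqm Q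
  have hQcm : ∀ a ∈ (Q : Subgroup G), ∀ b ∈ (Q : Subgroup G), a * b = b * a := fun a ha b hb =>
    congrArg Subtype.val (hQc.is_comm.comm ⟨a, ha⟩ ⟨b, hb⟩)
  have hyR := C.inR_prime hq hqm hy
  have hyk := C.other_prime_facts hq hqm h2 hr hy
  -- elements commuting with an element of order `q` have order `q`
  have only_q : ∀ {y' w : G}, orderOf y' = q → w ≠ 1 → y' * w = w * y' → orderOf w = q := by
    intro y' w hy' hw hc
    have hy'R := C.inR_prime hq hqm hy'
    have hy'k := C.other_prime_facts hq hqm h2 hr hy'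
    have hwR := hy'R.comm_inR hw hc
    by_cases hwk : C.Known w
    · exfalso
      obtain ⟨p, hp, hpw⟩ := Nat.exists_prime_and_dvd (n := orderOf w) (fun e => hw (orderOf_eq_one_iff.mp e))
      haveI : Fact p.Prime := ⟨hp⟩
      set u := w ^ (orderOf w / p) with hu
      have huo : orderOf u = p := orderOf_pow_orderOf_div (orderOf_pos w).ne' hpw
      have hp2r : p = 2 ∨ p = C.r := by
        have h2p : p ∣ 2 → p = 2 := fun h => (Nat.prime_dvd_prime_iff_eq hp Nat.prime_two).mp h
        have hrp : p ∣ C.r → p = C.r := fun h => (Nat.prime_dvd_prime_iff_eq hp C.hr).mp h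
        rcases C.known_order hwk with e | e | e | e <;> rw [e] at hpw
        · exact Or.inl (h2p hpw)
        · exact Or.inl (h2p (hp.dvd_of_dvd_pow (show p ∣ 2 ^ 2 by simpa using hpw)))
        · exact Or.inr (hrp hpw)
        · exact (hp.dvd_mul.mp hpw).imp h2p hrp
      have hpq : p ≠ q := by rcases hp2r with rfl | rfl <;> [exact h2.symm; exact hr.symm]
      have hcu : y' * u = u * y' := ((show Commute y' w from hc).pow_right _).eq
      have ho : orderOf (y' * u) = q * p := by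
        rw [Commute.orderOf_mul_eq_mul_orderOf_of_coprime hcu (by
          rw [hy', huo]; exact (Nat.coprime_primes hq hp).mpr hpq.symm), hy', huo]
      have h2q : q * 2 ≤ q * p := Nat.mul_le_mul_left q hp.two_le
      have hne1 : y' * u ≠ 1 := fun e => by rw [e, orderOf_one] at ho; have := hq.two_le; omega
      have hR : C.S.InR (y' * u) := hy'R.comm_inR hne1 (by rw [mul_assoc y' u y', ← hcu])
      have hk : ¬ C.Known (y' * u) := fun h => by
        have hd : q ∣ orderOf (y' * u) := ho ▸ dvd_mul_right q p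
        rcases C.known_order h with e | e | e | e <;> rw [e] at hd
        · exact h2 ((Nat.prime_dvd_prime_iff_eq hq Nat.prime_two).mp hd)
        · exact h2 ((Nat.prime_dvd_prime_iff_eq hq Nat.prime_two).mp
            (hq.dvd_of_dvd_pow (show q ∣ 2 ^ 2 by simpa using hd)))
        · exact hr ((Nat.prime_dvd_prime_iff_eq hq C.hr).mp hd)
        · rcases hq.dvd_mul.mp hd with h' | h'
          · exact h2 ((Nat.prime_dvd_prime_iff_eq hq Nat.prime_two).mp h')
          · exact hr ((Nat.prime_dvd_prime_iff_eq hq C.hr).mp h')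
      refine C.two_orders_false hy'R hR hy'k hk ?_
      rw [hy', ho]
      have := hq.two_le
      omega
    · exact (orderOf_of_isConj (C.unknown_conj hy'R hy'k hwR hwk)).symm.trans hy'
  have hcentQ : ∀ {y' : G}, y' ∈ (Q : Subgroup G) → y' ≠ 1 →
      Subgroup.centralizer ({y'} : Set G) = (Q : Subgroup G) := by
    intro y' hm hne
    have hy'q : orderOf y' = q := by
      obtain ⟨n, hn⟩ := Q.2 ⟨y', hm⟩
      by_cases hyy : y' = y
      · rw [hyy, hy]
      · exact only_q hy hne (hQcm y hyQ y' hm)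
    refine Q.3 ?_ fun w hw => Subgroup.mem_centralizer_singleton_iff.mpr (hQcm w hw y' hm)
    intro w
    refine ⟨1, Subtype.ext ?_⟩
    by_cases hw1 : (w : G) = 1
    · simp [hw1]
    · have := only_q hy'q hw1 (Subgroup.mem_centralizer_singleton_iff.mp w.2).symm
      show (w : G) ^ q ^ 1 = 1
      rw [pow_one, ← this, pow_orderOf_eq_one]
  have hordQ : ∀ {y' : G}, y' ∈ (Q : Subgroup G) → y' ≠ 1 → orderOf y' = q := fun hm hne =>
    only_q hy hne (hQcm y hyQ _ hm)
  set N := Subgroup.normalizer ((Q : Subgroup G) : Set G) with hN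
  set yN : N := ⟨y, Subgroup.le_normalizer hyQ⟩ with hyN
  have hy1 : y ≠ 1 := hyR.ne_one
  have hclass : ∀ b : N, IsConj yN b ↔ (b : G) ∈ (Q : Subgroup G) ∧ (b : G) ≠ 1 := by
    intro b
    constructor
    · intro h
      obtain ⟨u, hu⟩ := isConj_iff.mp h
      have hu' : (u : G) * y * (u : G)⁻¹ = (b : G) := congrArg Subtype.val hu
      refine ⟨hu' ▸ (Subgroup.mem_normalizer_iff.mp u.2 _).mp hyQ, fun e => hy1 ?_⟩
      rwa [e, conj_eq_one_iff] at hu'
    · rintro ⟨hb, hb1⟩
      have hbo := hordQ hb hb1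
      obtain ⟨g, hg⟩ := isConj_iff.mp (C.unknown_conj hyR hyk (C.inR_prime hq hqm hbo)
        (C.other_prime_facts hq hqm h2 hr hbo))
      haveI := hQc
      obtain ⟨n, hn, hn'⟩ := Q.conj_eq_normalizer_conj_of_mem y g⁻¹ hyQ (by rw [inv_inv, hg]; exact hb)
      refine isConj_iff.mpr ⟨⟨n⁻¹, inv_mem hn⟩, Subtype.ext ?_⟩
      show n⁻¹ * y * n⁻¹⁻¹ = b
      rw [inv_inv, ← hn', inv_inv, hg]
  have hsize : Nat.card {b : N // IsConj yN b} + 1 = Nat.card (Q : Subgroup G) := by
    haveI := Fintype.ofFinite (Q : Subgroup G)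
    have e : {b : N // IsConj yN b} ≃ {b : (Q : Subgroup G) // b ≠ 1} :=
      { toFun := fun b => ⟨⟨b.1, ((hclass b.1).mp b.2).1⟩, fun h =>
          ((hclass b.1).mp b.2).2 (congrArg Subtype.val h)⟩
        invFun := fun b => ⟨⟨b.1, Subgroup.le_normalizer b.1.2⟩, (hclass _).mpr ⟨b.1.2, fun h =>
          b.2 (Subtype.ext h)⟩⟩
        left_inv := fun b => rfl
        right_inv := fun b => rfl }
    rw [Nat.card_congr e, Nat.card_eq_fintype_card, Nat.card_eq_fintype_card, Fintype.card_subtype_compl,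
      Fintype.card_subtype_eq]
    have := Fintype.card_pos (α := (Q : Subgroup G))
    omega
  have hNcard : (Nat.card (Q : Subgroup G) - 1) * Nat.card (Q : Subgroup G) = Nat.card N := by
    rw [← card_conjugates yN, ← hsize, Nat.add_sub_cancel, hsize]
    congr 1
    have hmap : (Subgroup.centralizer ({yN} : Set N)).map N.subtype = (Q : Subgroup G) := by
      ext u
      constructor
      · rintro ⟨w, hw, rfl⟩
        have := congrArg Subtype.val (Subgroup.mem_centralizer_singleton_iff.mp hw)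
        rw [← hcentQ hyQ hy1]
        exact Subgroup.mem_centralizer_singleton_iff.mpr this
      · intro hu
        exact ⟨⟨u, Subgroup.le_normalizer hu⟩, Subgroup.mem_centralizer_singleton_iff.mpr
          (Subtype.ext (hQcm u hu y hyQ)), rfl⟩
    rw [← hmap, Subgroup.card_map_of_injective N.subtype_injective]
  -- an involution inverting `Q`
  have hyinv : (y⁻¹ : G) ≠ 1 := fun e => hy1 (inv_eq_one.mp e)
  obtain ⟨n, hn⟩ := isConj_iff.mp ((hclass ⟨y⁻¹, inv_mem (Subgroup.le_normalizer hyQ)⟩).mpr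
    ⟨inv_mem hyQ, hyinv⟩)
  have hn' : (n : G) * y * (n : G)⁻¹ = y⁻¹ := congrArg Subtype.val hn
  have hnn : (n : G) * (n : G) ∈ (Q : Subgroup G) := by
    rw [← hcentQ hyQ hy1, Subgroup.mem_centralizer_singleton_iff, ← mul_inv_eq_iff_eq_mul]
    calc (n : G) * n * y * ((n : G) * n)⁻¹ = (n : G) * ((n : G) * y * (n : G)⁻¹) * (n : G)⁻¹ := by group
      _ = y := by rw [hn', ← inv_inv ((n : G) * y⁻¹ * (n : G)⁻¹)]; simp [mul_assoc, hn', ← mul_assoc]
  have hnQ : (n : G) ∉ (Q : Subgroup G) := by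
    intro h
    have e : (n : G) * y * (n : G)⁻¹ = y := by rw [hQcm _ h y hyQ, mul_inv_cancel_right]
    rw [hn'] at e
    have h2' : y ^ 2 = 1 := by rw [pow_two]; nth_rewrite 1 [← e]; rw [inv_mul_cancel]
    have h2'' := orderOf_dvd_of_pow_eq_one h2'
    rw [hy] at h2''
    have := Nat.le_of_dvd two_pos h2''
    have := hq.two_le
    omega
  set τ := (n : G) ^ q with hτ
  have hτN : τ ∈ N := pow_mem n.2 q
  obtain ⟨k, hk⟩ : ∃ k, q = 2 * k + 1 := ⟨q / 2, by omega⟩
  have hτQ : τ ∉ (Q : Subgroup G) := by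
    intro h
    apply hnQ
    have e : τ = ((n : G) * (n : G)) ^ k * (n : G) := by
      rw [hτ, show (n : G) ^ q = (n : G) ^ (2 * k + 1) from congrArg ((n : G) ^ ·) hk, pow_succ, pow_mul,
        pow_two]
    rw [e] at h
    exact ((Q : Subgroup G).mul_mem_cancel_left (pow_mem hnn k)).mp h
  have hτ2 : orderOf τ = 2 := by
    haveI : Fact (Nat.Prime 2) := ⟨Nat.prime_two⟩
    refine orderOf_eq_prime ?_ fun e => hτQ (e ▸ one_mem _)
    rw [hτ, ← pow_mul, mul_comm, pow_mul, pow_two]
    by_cases h1 : (n : G) * n = 1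
    · rw [h1, one_pow]
    · rw [← hordQ hnn h1, pow_orderOf_eq_one]
  have hnoq : ∀ {t w : G}, orderOf t = 2 → w ∈ (Q : Subgroup G) → t * w = w * t → w = 1 := by
    intro t w ht hw hc
    by_contra h1
    have := only_q (hordQ hw h1) (fun e => by rw [e, orderOf_one] at ht; omega) hc.symm
    omega
  have inverts : ∀ {t : G}, orderOf t = 2 → t ∈ N → ∀ w ∈ (Q : Subgroup G), t * w * t⁻¹ = w⁻¹ := by
    intro t ht htN w hw
    have ht2 : t * t = 1 := by rw [← pow_two, ← ht, pow_orderOf_eq_one]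
    have hti : t⁻¹ = t := inv_eq_of_mul_eq_one_right ht2
    have hw' : t * w * t⁻¹ ∈ (Q : Subgroup G) := (Subgroup.mem_normalizer_iff.mp htN w).mp hw
    refine eq_inv_of_mul_eq_one_left (hnoq ht (mul_mem hw' hw) ?_)
    calc t * (t * w * t⁻¹ * w) = w * (t * w) := by
          rw [hti, show t * (t * w * t * w) = t * t * w * (t * w) by group, ht2, one_mul]
      _ = w * (t * w * t⁻¹) * t := by group
      _ = _ := by rw [hQcm w hw _ hw']
  set τN : N := ⟨τ, hτN⟩
  set H := Subgroup.centralizer ({τN} : Set N) with hH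
  have hτclass : Nat.card {b : N // IsConj τN b} = Nat.card (Q : Subgroup G) := by
    have hmem : ∀ b : {b : N // IsConj τN b}, τ⁻¹ * ((b : N) : G) ∈ (Q : Subgroup G) := by
      rintro ⟨b, hb⟩
      obtain ⟨u, rfl⟩ := isConj_iff.mp hb
      rw [← hcentQ hyQ hy1, Subgroup.mem_centralizer_singleton_iff, ← mul_inv_eq_iff_eq_mul]
      have hti : τ⁻¹ = τ := inv_eq_of_mul_eq_one_right (by rw [← pow_two, ← hτ2, pow_orderOf_eq_one])
      have hyw : (u : G)⁻¹ * y * (u : G) ∈ (Q : Subgroup G) := by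
        have := (Subgroup.mem_normalizer_iff.mp (inv_mem u.2) y).mp hyQ
        rwa [inv_inv] at this
      show τ⁻¹ * ((u : G) * τ * (u : G)⁻¹) * y * (τ⁻¹ * ((u : G) * τ * (u : G)⁻¹))⁻¹ = y
      calc τ⁻¹ * ((u : G) * τ * (u : G)⁻¹) * y * (τ⁻¹ * ((u : G) * τ * (u : G)⁻¹))⁻¹
          = τ⁻¹ * ((u : G) * (τ * ((u : G)⁻¹ * y * (u : G)) * τ⁻¹) * (u : G)⁻¹) * τ := by group
        _ = τ⁻¹ * y⁻¹ * τ := by rw [inverts hτ2 hτN _ hyw]; group
        _ = (τ * y * τ⁻¹)⁻¹ := by rw [mul_inv_rev, mul_inv_rev, inv_inv, hti, mul_assoc]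
        _ = y := by rw [inverts hτ2 hτN y hyQ, inv_inv]
    refine Nat.card_congr (Equiv.ofBijective (fun b => (⟨_, hmem b⟩ : (Q : Subgroup G))) ⟨?_, ?_⟩)
    · intro b b' h
      exact Subtype.ext (Subtype.ext (mul_left_cancel (congrArg Subtype.val h)))
    · rintro ⟨w, hw⟩
      obtain ⟨m, hm⟩ : ∃ m : ℕ, (w ^ m) * (w ^ m) = w := by
        refine ⟨k + 1, ?_⟩
        rw [← pow_add, show k + 1 + (k + 1) = q + 1 by omega, pow_succ]
        by_cases h1 : w = 1
        · simp [h1]
        · rw [show w ^ q = 1 by rw [← hordQ hw h1, pow_orderOf_eq_one], one_mul]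
      have hv : (w ^ m)⁻¹ ∈ N := inv_mem (Subgroup.le_normalizer (pow_mem hw m))
      refine ⟨⟨_, isConj_iff.mpr ⟨⟨_, hv⟩, rfl⟩⟩, Subtype.ext ?_⟩
      show τ⁻¹ * ((w ^ m)⁻¹ * τ * (w ^ m)⁻¹⁻¹) = w
      have hti : τ⁻¹ = τ := inv_eq_of_mul_eq_one_right (by rw [← pow_two, ← hτ2, pow_orderOf_eq_one])
      rw [inv_inv, show τ⁻¹ * ((w ^ m)⁻¹ * τ * w ^ m) = τ⁻¹ * (w ^ m)⁻¹ * τ * w ^ m by group,
        show τ⁻¹ * (w ^ m)⁻¹ * τ = w ^ m by
          have := inverts hτ2 hτN _ (inv_mem (pow_mem hw m))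
          rw [inv_inv, hti] at this
          rw [hti]; exact this, hm]
  have hHcard : Nat.card H + 1 = Nat.card (Q : Subgroup G) := by
    have h := card_conjugates τN
    rw [hτclass, ← hNcard, mul_comm _ (Nat.card (Q : Subgroup G))] at h
    have e := Nat.eq_of_mul_eq_mul_left Nat.card_pos h
    have := Nat.card_pos (α := (Q : Subgroup G))
    rw [← hH] at e
    omega
  -- the complement as a subgroup of `G`
  set H' : Subgroup G := H.map N.subtype with hH'
  have hH'card : Nat.card H' = Nat.card H := Subgroup.card_map_of_injective N.subtype_injective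
  have hH'N : H' ≤ N := by rintro _ ⟨u, -, rfl⟩; exact u.2
  have hH'c : ∀ w ∈ H', w * τ = τ * w := by
    rintro _ ⟨u, hu, rfl⟩
    exact congrArg Subtype.val (Subgroup.mem_centralizer_singleton_iff.mp hu)
  have hH'mem : ∀ {w : G}, w ∈ N → w * τ = τ * w → w ∈ H' := fun {w} hw hc =>
    ⟨⟨w, hw⟩, Subgroup.mem_centralizer_singleton_iff.mpr (Subtype.ext hc), rfl⟩
  have hHQ : ∀ w ∈ H', w ∈ (Q : Subgroup G) → w = 1 := fun w hw hwQ =>
    hnoq hτ2 hwQ (hH'c w hw).symm
  have hHR : ∀ w ∈ H', w ≠ 1 → C.S.InR w := fun w hw h1 =>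
    (C.inR_two hτ2).comm_inR h1 (hH'c w hw).symm
  have hHk : ∀ w ∈ H', w ≠ 1 → C.Known w := by
    intro w hw h1
    by_contra hwk
    have e := (orderOf_of_isConj (C.unknown_conj hyR hyk (hHR w hw h1) hwk)).symm.trans hy
    have := only_q (w := τ) e (fun e' => by rw [e', orderOf_one] at hτ2; omega) (hH'c w hw)
    omega
  have hfpf : ∀ e ∈ H', e ≠ 1 → (Q : Subgroup G) ⊓ Subgroup.centralizer {e} = ⊥ := by
    intro e he he1
    rw [eq_bot_iff]
    intro w ⟨hwQ, hwc⟩
    rw [Subgroup.mem_bot]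
    by_contra h1
    refine he1 (hHQ e he ?_)
    rw [← hcentQ hwQ h1]
    exact Subgroup.mem_centralizer_singleton_iff.mpr (Subgroup.mem_centralizer_singleton_iff.mp hwc).symm
  have hQbot : (Q : Subgroup G) ≠ ⊥ := fun h => hy1 (by rw [h] at hyQ; exact hyQ)
  -- its two Sylow subgroups
  have hdvd8 : Nat.card H' ∣ 8 * C.r := by
    rw [Nat.dvd_iff_prime_pow_dvd_dvd]
    intro p a hp hpa
    haveI : Fact p.Prime := ⟨hp⟩
    rcases Nat.eq_zero_or_pos a with rfl | ha
    · simp
    obtain ⟨P⟩ : Nonempty (Sylow p H') := inferInstance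
    have hPd := P.pow_dvd_card_of_pow_dvd_card hpa
    obtain ⟨w0, hw0⟩ := exists_prime_orderOf_dvd_card' (G := H') p ((dvd_pow_self p ha.ne').trans hpa)
    have hwG : orderOf (w0 : G) = p := by rw [Subgroup.orderOf_coe, hw0]
    have hp2r : p = 2 ∨ p = C.r := by
      have h := C.known_order (hHk _ w0.2 fun e => by rw [e, orderOf_one] at hwG; exact hp.one_lt.ne hwG)
      rw [hwG] at h
      rcases h with e | e | e | e
      · exact Or.inl e
      · exact absurd (e ▸ hp) (by norm_num)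
      · exact Or.inr e
      · exact absurd (e ▸ hp) (Nat.not_prime_mul (by norm_num) C.hr.one_lt.ne')
    rcases hp2r with rfl | hpr
    · have hτH : τ ∈ H' := hH'mem hτN rfl
      have hτP : (⟨τ, hτH⟩ : H') ∈ (P : Subgroup H') := by
        obtain ⟨P', hP'⟩ := (IsPGroup.of_card (G := Subgroup.zpowers (⟨τ, hτH⟩ : H')) (n := 1)
          (by rw [Nat.card_zpowers, Subgroup.orderOf_mk, hτ2, pow_one])).exists_le_sylow
        obtain ⟨c, hc⟩ := MulAction.exists_smul_eq H' P' P
        have hm : c * ⟨τ, hτH⟩ * c⁻¹ ∈ (P : Subgroup H') := by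
          rw [← hc]
          exact ⟨_, hP' (Subgroup.mem_zpowers _), rfl⟩
        rwa [show c * (⟨τ, hτH⟩ : H') * c⁻¹ = ⟨τ, hτH⟩ from Subtype.ext (by
          show (c : G) * τ * (c : G)⁻¹ = τ
          rw [hH'c _ c.2, mul_inv_cancel_right])] at hm
      have hz1 : (⟨⟨τ, hτH⟩, hτP⟩ : (P : Subgroup H')) ≠ 1 := fun e => by
        have h' := congrArg (fun u : (P : Subgroup H') => ((u : H') : G)) e
        simp only [OneMemClass.coe_one] at h'
        rw [h', orderOf_one] at hτ2
        omega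
      have hz2 : (⟨⟨τ, hτH⟩, hτP⟩ : (P : Subgroup H')) * ⟨⟨τ, hτH⟩, hτP⟩ = 1 := Subtype.ext (Subtype.ext
        (show τ * τ = 1 by rw [← pow_two, ← hτ2, pow_orderOf_eq_one]))
      have hu : ∀ w : (P : Subgroup H'), w * w = 1 → w = 1 ∨ w = ⟨⟨τ, hτH⟩, hτP⟩ := by
        intro w hw
        by_cases h1 : w = 1
        · exact Or.inl h1
        right
        set wg : G := ((w : H') : G) with hwg
        have hwH : wg ∈ H' := (w : H').2
        have hw2 : orderOf wg = 2 := by
          haveI : Fact (Nat.Prime 2) := ⟨Nat.prime_two⟩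
          refine orderOf_eq_prime ?_ fun e => h1 (Subtype.ext (Subtype.ext e))
          rw [pow_two]
          exact congrArg (fun u : (P : Subgroup H') => ((u : H') : G)) hw
        have hww : wg * wg = 1 := by rw [← pow_two, ← hw2, pow_orderOf_eq_one]
        have e1 : wg * τ ∈ (Q : Subgroup G) := by
          rw [← hcentQ hyQ hy1, Subgroup.mem_centralizer_singleton_iff, ← mul_inv_eq_iff_eq_mul,
            show wg * τ * y * (wg * τ)⁻¹ = wg * (τ * y * τ⁻¹) * wg⁻¹ by group, inverts hτ2 hτN y hyQ,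
            inverts hw2 (hH'N hwH) _ (inv_mem hyQ), inv_inv]
        have e2 := hHQ _ (mul_mem hwH hτH) e1
        refine Subtype.ext (Subtype.ext ?_)
        show wg = τ
        rw [eq_inv_of_mul_eq_one_left e2]
        exact inv_eq_of_mul_eq_one_right (by rw [← pow_two, ← hτ2, pow_orderOf_eq_one])
      have h4 : ∀ w : (P : Subgroup H'), w * w * (w * w) = 1 := by
        intro w
        obtain ⟨e, he⟩ := P.2 w
        have he' : ((w : H') : G) ^ 2 ^ e = 1 := congrArg (fun u : (P : Subgroup H') => ((u : H') : G)) he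
        obtain ⟨b, -, hb⟩ := (Nat.dvd_prime_pow Nat.prime_two).mp (orderOf_dvd_of_pow_eq_one he')
        by_cases h1 : ((w : H') : G) = 1
        · exact Subtype.ext (Subtype.ext (by simp [h1]))
        have h := C.known_order (hHk _ (w : H').2 h1)
        rw [hb] at h
        have hb2 : b ≤ 2 := by
          by_contra! hb2
          have h8 : 8 ∣ 2 ^ b := (show (8 : ℕ) = 2 ^ 3 by norm_num) ▸ pow_dvd_pow 2 hb2
          obtain ⟨c, hc⟩ := h8
          omega
        refine Subtype.ext (Subtype.ext ?_)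
        show ((w : H') : G) * (w : H') * (((w : H') : G) * (w : H')) = 1
        rw [← pow_two, ← pow_two, ← pow_mul, ← orderOf_dvd_iff_pow_eq_one, hb]
        exact (pow_dvd_pow 2 hb2).trans (by norm_num)
      have h8 := card_le_eight hz1 hz2 hu h4
      obtain ⟨e, he⟩ := IsPGroup.iff_card.mp P.2
      refine dvd_mul_of_dvd_left (hPd.trans ?_) _
      rw [he] at h8 ⊢
      rw [show (8 : ℕ) = 2 ^ 3 by norm_num] at h8 ⊢
      exact pow_dvd_pow 2 ((Nat.pow_le_pow_iff_right Nat.one_lt_two).mp h8)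
    · subst hpr
      set B : Subgroup G := (P : Subgroup H').map H'.subtype with hB
      have hBH : B ≤ H' := by rintro _ ⟨u, -, rfl⟩; exact u.2
      have hBp : IsPGroup C.r B := P.2.map _
      haveI : IsMulCommutative (Q : Subgroup G) := hQc
      have hBcyc : IsCyclic B := by
        refine Cfsg.Agent.CNOdd.isCyclic_of_fpf_odd hQbot (hBH.trans hH'N) (fun e he => hfpf e (hBH he))
          hBp.isNilpotent ?_
        obtain ⟨e, he⟩ := IsPGroup.iff_card.mp hBp
        rw [he]
        exact (C.hr.odd_of_ne_two C.hr2).pow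
      haveI := hBcyc
      obtain ⟨w, hw⟩ := IsCyclic.exists_ofOrder_eq_natCard (α := B)
      rw [← Subgroup.orderOf_coe] at hw
      refine dvd_mul_of_dvd_right (hPd.trans ?_) _
      rw [← Subgroup.card_map_of_injective (K := (P : Subgroup H')) H'.subtype_injective, ← hB, ← hw]
      by_cases h1 : (w : G) = 1
      · rw [h1, orderOf_one]; exact one_dvd _
      obtain ⟨e, he⟩ := IsPGroup.iff_card.mp hBp
      rcases C.known_order (hHk _ (hBH w.2) h1) with h | h | h | h
      · exfalso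
        rw [h, he] at hw
        have : Odd (C.r ^ e) := (C.hr.odd_of_ne_two C.hr2).pow
        rw [← hw] at this
        exact absurd this (by decide)
      · exfalso
        rw [h, he] at hw
        have : Odd (C.r ^ e) := (C.hr.odd_of_ne_two C.hr2).pow
        rw [← hw] at this
        exact absurd this (by decide)
      · rw [h]
      · exfalso
        rw [h, he] at hw
        have : Odd (C.r ^ e) := (C.hr.odd_of_ne_two C.hr2).pow
        rw [← hw] at this
        exact absurd this (by simp [Nat.odd_mul, show ¬ Odd 2 by decide])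
  refine ⟨y, hyR, fun j hj => ?_, ?_⟩
  · have hjo : orderOf (y ^ j) = q := by rw [(Nat.coprime_comm.mp hj).orderOf_pow, hy]
    exact C.unknown_conj hyR hyk (C.inR_prime hq hqm hjo) (C.other_prime_facts hq hqm h2 hr hjo)
  rw [hcentQ hyQ hy1, ← hHcard, ← hH'card]
  have hle := Nat.le_of_dvd (by omega) hdvd8
  rcases C.r_three_or_five with hr' | hr'
  · rw [colM, if_pos hr']; omega
  rw [colM, if_neg (by omega)]
  by_contra! hgt
  obtain ⟨b, hb⟩ := IsPGroup.iff_card.mp Q.2
  rw [← hHcard, ← hH'card] at hb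
  rw [hr'] at hdvd8 hr
  have hmem : Nat.card H' = 20 ∨ Nat.card H' = 40 := by
    have hmem' := Nat.mem_divisors.mpr ⟨hdvd8, by norm_num⟩
    rw [show Nat.divisors (8 * 5) = {1, 2, 4, 5, 8, 10, 20, 40} by decide] at hmem'
    simp only [Finset.mem_insert, Finset.mem_singleton] at hmem'
    omega
  rcases hmem with e | e <;> rw [e] at hb
  · have h3 := (Nat.prime_dvd_prime_iff_eq Nat.prime_three hq).mp
      (Nat.prime_three.dvd_of_dvd_pow (show 3 ∣ q ^ b by rw [← hb]; norm_num))
    have h7 := (Nat.prime_dvd_prime_iff_eq (by norm_num : Nat.Prime 7) hq).mp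
      ((by norm_num : Nat.Prime 7).dvd_of_dvd_pow (show 7 ∣ q ^ b by rw [← hb]; norm_num))
    omega
  · have := (Nat.prime_dvd_prime_iff_eq (by norm_num : Nat.Prime 41) hq).mp
      ((by norm_num : Nat.Prime 41).dvd_of_dvd_pow (show 41 ∣ q ^ b by rw [← hb]))
    omega

end LCtx

/-- The local lemma. -/
theorem local_cases {G : Type*} [Group G] [Finite G] (S : Setting G) (h5 : S.RClasses.ncard ≤ 5)
    (h1 : OneInvolClass G) (hv : ∃ v : G, orderOf v = 4) (hmix : Mixed G) :
    ∃ r, (r = 3 ∨ r = 5) ∧ ¬ r ∣ S.m ∧ 4 ≤ S.RClasses.ncard ∧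
      (∀ p : ℕ, p.Prime → p ∣ Nat.card G → p ∣ S.m ∨ p ∈ ({2, 3, 5, 7, 11, 13} : Finset ℕ)) ∧
      (S.SmallU r ∨ S.ColBound r) := by
  obtain ⟨v, hv⟩ := hv
  obtain ⟨i, x, hi, hx, hx2, hc⟩ := hmix
  let C : LCtx G := ⟨S, h5, h1, orderOf x, hx, hx2, i, x, v, hi, rfl, hv, hc⟩
  refine ⟨C.r, C.r_three_or_five, C.r_not_dvd_m, C.four_le, fun p hp hpd => ?_, ?_⟩
  · by_cases hpm : p ∣ S.m
    · exact Or.inl hpm
    right
    by_cases h2 : p = 2
    · simp [h2]
    by_cases hpr : p = C.r
    · rcases C.r_three_or_five with h | h <;> simp [hpr, h]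
    have := C.other_prime_le hp hpd hpm h2 hpr
    interval_cases p <;> simp_all (config := { decide := true })
  · by_cases hq : ∃ q : ℕ, q.Prime ∧ q ∣ Nat.card G ∧ ¬ q ∣ S.m ∧ q ≠ 2 ∧ q ≠ C.r
    · obtain ⟨q, hq, hqd, hqm, h2, hr⟩ := hq
      exact Or.inr (C.colBound_of_other hq hqd hqm h2 hr)
    · refine C.smallU_or_colBound fun p hp hpd hpm => ?_
      by_contra! h
      exact hq ⟨p, hp, hpd, hpm, h.1, h.2⟩

end CfsgLib.SuzukiSC
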