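import Mathlib
import Cfsg.Prelude.Def_Local
import Cfsg.Agent.Lib.PSolvable.Core
import Cfsg.Agent.Lib.Fitting.Basic
import Cfsg.Agent.Lib.FourOrbit.Basic

/-!
Group theoretic and numerical lemmas for the local analysis: `2`-groups with one involution, class
sizes, the parity of the number of involutions, and groups of order `2^a r^b`.
-/

set_option autoImplicit false
set_option linter.unusedSectionVars false
set_option linter.style.haveILetI false

namespace CfsgLib.SuzukiSC

section OneInvolution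

variable {P : Type*} [Group P] {z : P} (hz1 : z ≠ 1) (hz2 : z * z = 1)
  (hu : ∀ w : P, w * w = 1 → w = 1 ∨ w = z) (h4 : ∀ w : P, w * w * (w * w) = 1)

include hz1 hz2 hu h4

theorem inv_central (g : P) : g * z * g⁻¹ = z := by
  rcases hu (g * z * g⁻¹) (by
    calc g * z * g⁻¹ * (g * z * g⁻¹) = g * (z * z) * g⁻¹ := by group
      _ = 1 := by rw [hz2]; group) with h | h
  · exact absurd (conj_eq_one_iff.mp h) hz1
  · exact h

theorem inv_comm (g : P) : g * z = z * g := by
  have h := inv_central hz1 hz2 hu h4 g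
  rwa [mul_inv_eq_iff_eq_mul] at h

theorem sq_eq {x : P} (hx1 : x ≠ 1) (hxz : x ≠ z) : x * x = z := by
  rcases hu (x * x) (h4 x) with h | h
  · rcases hu x h with h' | h'
    · exact absurd h' hx1
    · exact absurd h' hxz
  · exact h

theorem comm_cases {x y : P} (hx1 : x ≠ 1) (hxz : x ≠ z) (hc : x * y = y * x) :
    y = 1 ∨ y = z ∨ y = x ∨ y = x * z := by
  by_cases hy1 : y = 1
  · exact Or.inl hy1
  by_cases hyz : y = z
  · exact Or.inr (Or.inl hyz)
  have ex := sq_eq hz1 hz2 hu h4 hx1 hxz
  have ey := sq_eq hz1 hz2 hu h4 hy1 hyz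
  have h : x * y * (x * y) = 1 := by
    calc x * y * (x * y) = x * (y * x) * y := by group
      _ = x * x * (y * y) := by rw [← hc]; group
      _ = 1 := by rw [ex, ey, hz2]
  have hxi : x⁻¹ = x * z := inv_eq_of_mul_eq_one_right (by rw [← mul_assoc, ex, hz2])
  rcases hu _ h with h' | h'
  · exact Or.inr (Or.inr (Or.inr (by rw [← hxi]; exact eq_inv_of_mul_eq_one_right h')))
  · refine Or.inr (Or.inr (Or.inl ?_))
    calc y = x⁻¹ * (x * y) := by group
      _ = x := by rw [h', hxi, mul_assoc, hz2, mul_one]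

theorem conj_cases {x : P} (hx1 : x ≠ 1) (hxz : x ≠ z) (g : P) :
    g * x * g⁻¹ = x ∨ g * x * g⁻¹ = x * z := by
  have key : ∀ w : P, w * w = 1 ∨ w * w = z := fun w => hu _ (h4 w)
  have hcm := inv_comm hz1 hz2 hu h4
  have hzc : ∀ c : P, (c = 1 ∨ c = z) → ∀ w : P, w * c = c * w := by
    rintro c (rfl | rfl) w
    · rw [mul_one, one_mul]
    · exact hcm w
  have ex := sq_eq hz1 hz2 hu h4 hx1 hxz
  have hxi : x⁻¹ = x * z := inv_eq_of_mul_eq_one_right (by rw [← mul_assoc, ex, hz2])
  obtain ⟨c, hc, hgc⟩ : ∃ c, (c = 1 ∨ c = z) ∧ g * g = c := ⟨g * g, key g, rfl⟩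
  obtain ⟨d, hd, hgd⟩ : ∃ d, (d = 1 ∨ d = z) ∧ g * x * (g * x) = d := ⟨_, key (g * x), rfl⟩
  have e : g * x * g⁻¹ = x⁻¹ * (d * c⁻¹) := by
    calc g * x * g⁻¹ = g * x * (g * x) * x⁻¹ * (g * g)⁻¹ := by group
      _ = d * x⁻¹ * c⁻¹ := by rw [hgd, hgc]
      _ = _ := by rw [← hzc d hd x⁻¹, mul_assoc]
  have hzi : z⁻¹ = z := inv_eq_of_mul_eq_one_right hz2
  rcases hc with rfl | rfl <;> rcases hd with rfl | rfl <;>
    simp only [hzi, inv_one, mul_one, one_mul, hz2, hxi] at e
  · exact Or.inr e
  · exact Or.inl (by simpa [mul_assoc, hz2] using e)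
  · exact Or.inl (by simpa [mul_assoc, hz2] using e)
  · exact Or.inr e

theorem card_le_eight [Finite P] : Nat.card P ≤ 8 := by
  classical
  by_cases hex : ∃ x : P, x ≠ 1 ∧ x ≠ z
  · obtain ⟨x, hx1, hxz⟩ := hex
    let c : Fin 4 → P := ![1, z, x, x * z]
    have hc : ∀ y, x * y = y * x → ∃ k, c k = y := by
      intro y hy
      rcases comm_cases hz1 hz2 hu h4 hx1 hxz hy with h | h | h | h
      exacts [⟨0, h.symm⟩, ⟨1, h.symm⟩, ⟨2, h.symm⟩, ⟨3, h.symm⟩]
    obtain ⟨g₀, hg₀⟩ : ∃ g₀ : P, ∀ g : P, g * x * g⁻¹ = x ∨ g * x * g⁻¹ = g₀ * x * g₀⁻¹ := by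
      by_cases h : ∃ g : P, g * x * g⁻¹ ≠ x
      · obtain ⟨g₀, hg₀⟩ := h
        refine ⟨g₀, fun g => ?_⟩
        rcases conj_cases hz1 hz2 hu h4 hx1 hxz g with e | e
        · exact Or.inl e
        · exact Or.inr (e.trans ((conj_cases hz1 hz2 hu h4 hx1 hxz g₀).resolve_left hg₀).symm)
      · push Not at h
        exact ⟨1, fun g => Or.inl (h g)⟩
    let f : Bool × Fin 4 → P := fun p => (if p.1 then g₀ else 1) * c p.2
    have hf : Function.Surjective f := by
      intro g
      rcases hg₀ g with e | e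
      · obtain ⟨k, hk⟩ := hc g (mul_inv_eq_iff_eq_mul.mp e).symm
        exact ⟨(false, k), by simp [f, hk]⟩
      · obtain ⟨k, hk⟩ := hc (g₀⁻¹ * g) (by
          calc x * (g₀⁻¹ * g) = g₀⁻¹ * (g₀ * x * g₀⁻¹) * g := by group
            _ = g₀⁻¹ * g * x := by rw [← e]; group)
        exact ⟨(true, k), by simp [f, hk]⟩
    refine (Nat.card_le_card_of_surjective f hf).trans ?_
    simp [Nat.card_eq_fintype_card]
  · push Not at hex
    let f : Bool → P := fun b => if b then z else 1
    refine (Nat.card_le_card_of_surjective f fun g => ?_).trans (by simp)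
    by_cases h : g = 1
    · exact ⟨false, h.symm⟩
    · exact ⟨true, (hex g h).symm⟩

/-- With all elements outside `⟨z⟩` conjugate the group has order two. -/
theorem card_eq_two [Finite P]
    (hconj : ∀ x y : P, x * x ≠ 1 → y * y ≠ 1 → IsConj x y) : Nat.card P = 2 := by
  classical
  have hall : ∀ x : P, x = 1 ∨ x = z := by
    intro x
    by_contra! h
    have ex := sq_eq hz1 hz2 hu h4 h.1 h.2
    have hxi : x * x ≠ 1 := by rw [ex]; exact hz1
    have hcase : ∀ g : P, g = 1 ∨ g = z ∨ g = x ∨ g = x * z := by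
      intro g
      by_cases hg1 : g = 1
      · exact Or.inl hg1
      by_cases hgz : g = z
      · exact Or.inr (Or.inl hgz)
      obtain ⟨w, hw⟩ := isConj_iff.mp (hconj x g hxi (by rw [sq_eq hz1 hz2 hu h4 hg1 hgz]; exact hz1))
      rcases conj_cases hz1 hz2 hu h4 h.1 h.2 w with e | e <;> rw [hw] at e
      · exact Or.inr (Or.inr (Or.inl e))
      · exact Or.inr (Or.inr (Or.inr e))
    have hxz2 : x * z * (x * z) = z := by
      rw [show x * z * (x * z) = x * (z * x) * z by group, ← inv_comm hz1 hz2 hu h4 x,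
        show x * (x * z) * z = x * x * (z * z) by group, ex, hz2, mul_one]
    obtain ⟨w, hw⟩ := isConj_iff.mp (hconj x (x * z) hxi (by rw [hxz2]; exact hz1))
    have hc : w * x = x * w := by
      have hcm := inv_comm hz1 hz2 hu h4
      rcases hcase w with rfl | rfl | rfl | rfl
      · rw [one_mul, mul_one]
      · exact (hcm x).symm
      · rfl
      · calc x * z * x = x * (z * x) := by group
          _ = x * (x * z) := by rw [← hcm x]
    rw [hc, mul_inv_cancel_right, left_eq_mul] at hw
    exact hz1 hw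
  refine le_antisymm ?_ ?_
  · refine (Nat.card_le_card_of_surjective (fun b : Bool => if b then z else (1 : P)) fun g => ?_).trans (by simp)
    rcases hall g with rfl | rfl
    · exact ⟨false, rfl⟩
    · exact ⟨true, rfl⟩
  · exact Finite.one_lt_card_iff_nontrivial.mpr ⟨⟨z, 1, hz1⟩⟩

end OneInvolution

section Count

variable {H : Type*} [Group H] [Finite H]

theorem card_conjugates (a : H) :
    Nat.card {b : H // IsConj a b} * Nat.card ↥(Subgroup.centralizer ({a} : Set H)) = Nat.card H := by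
  classical
  set K := Subgroup.centralizer ({a} : Set H) with hK
  have key : ∀ u w : H, u * a * u⁻¹ = w * a * w⁻¹ ↔ u⁻¹ * w ∈ K := by
    intro u w
    rw [hK, Subgroup.mem_centralizer_singleton_iff]
    constructor
    · intro h
      calc u⁻¹ * w * a = u⁻¹ * (w * a * w⁻¹) * w := by group
        _ = a * (u⁻¹ * w) := by rw [← h]; group
    · intro h
      calc u * a * u⁻¹ = u * (a * (u⁻¹ * w)) * w⁻¹ := by group
        _ = w * a * w⁻¹ := by rw [← h]; group
  let e : (H ⧸ K) → {b : H // IsConj a b} := fun q =>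
    Quotient.liftOn' q (fun u => ⟨u * a * u⁻¹, isConj_iff.mpr ⟨u, rfl⟩⟩) fun u w h =>
      Subtype.ext ((key u w).mpr (QuotientGroup.leftRel_apply.mp h))
  have he : Function.Bijective e := by
    constructor
    · rintro ⟨u⟩ ⟨w⟩ h
      exact QuotientGroup.eq.mpr ((key u w).mp (congrArg Subtype.val h))
    · rintro ⟨b, hb⟩
      obtain ⟨u, hu⟩ := isConj_iff.mp hb
      exact ⟨QuotientGroup.mk u, Subtype.ext hu⟩
  rw [← Nat.card_congr (Equiv.ofBijective e he), ← Subgroup.card_eq_card_quotient_mul_card_subgroup]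

theorem card_conjugates_dvd (a : H) {K : Subgroup H}
    (hK : K ≤ Subgroup.centralizer ({a} : Set H)) : Nat.card {b : H // IsConj a b} ∣ K.index := by
  have h := card_conjugates a
  have e : Nat.card {b : H // IsConj a b} = (Subgroup.centralizer ({a} : Set H)).index := by
    have h' := (Subgroup.centralizer ({a} : Set H)).card_mul_index
    rw [← h, mul_comm] at h'
    exact Nat.eq_of_mul_eq_mul_right Nat.card_pos h'.symm
  exact e ▸ Subgroup.index_dvd_of_le hK

theorem even_card_sq_one (h2 : 2 ∣ Nat.card H) : Even (Nat.card {w : H // w * w = 1}) := by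
  classical
  haveI := Fintype.ofFinite H
  have hsum : ∑ _w ∈ (Finset.univ.filter fun w : H => ¬ w * w = 1), (1 : ZMod 2) = 0 := by
    refine Finset.sum_involution (fun w _ => w⁻¹) (fun w _ => by decide) (fun w hw _ => ?_)
      (fun w hw => ?_) fun w _ => inv_inv w
    · intro e
      exact (Finset.mem_filter.mp hw).2 (by nth_rewrite 1 [← e]; exact inv_mul_cancel w)
    · refine Finset.mem_filter.mpr ⟨Finset.mem_univ _, fun e => (Finset.mem_filter.mp hw).2 ?_⟩
      rwa [← mul_inv_rev, inv_eq_one] at e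
  rw [Finset.sum_const, nsmul_one, ZMod.natCast_eq_zero_iff_even] at hsum
  have htot := Finset.card_filter_add_card_filter_not (s := (Finset.univ : Finset H))
    (fun w : H => w * w = 1)
  rw [Finset.card_univ, ← Nat.card_eq_fintype_card] at htot
  have : Nat.card {w : H // w * w = 1} = (Finset.univ.filter fun w : H => w * w = 1).card := by
    rw [Nat.card_eq_fintype_card, Fintype.card_subtype]
  rw [this]
  have he : Even (Nat.card H) := even_iff_two_dvd.mpr h2
  rw [← htot, Nat.even_add] at he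
  exact he.mpr hsum

theorem orderOf_le_two_of_pgroup (hno : ∀ w : H, orderOf w ≠ 4) {P : Subgroup H} (hP : IsPGroup 2 P)
    {w : H} (hw : w ∈ P) : w * w = 1 := by
  obtain ⟨k, hk⟩ := hP ⟨w, hw⟩
  have hk' : w ^ 2 ^ k = 1 := congrArg Subtype.val hk
  obtain ⟨n, -, hn⟩ := (Nat.dvd_prime_pow Nat.prime_two).mp (orderOf_dvd_of_pow_eq_one hk')
  rcases Nat.lt_or_ge n 2 with h | h
  · rw [← pow_two, ← orderOf_dvd_iff_pow_eq_one, hn]
    exact (pow_dvd_pow 2 (Nat.le_of_lt_succ h)).trans (by norm_num)
  · exfalso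
    refine hno (w ^ 2 ^ (n - 2)) ?_
    rw [orderOf_pow' w (pow_ne_zero _ two_ne_zero), hn, Nat.gcd_eq_right (pow_dvd_pow 2 (by omega)),
      Nat.pow_div (by omega) (by norm_num), show n - (n - 2) = 2 by omega]

/-- Without elements of order four there cannot be exactly two classes of involutions. -/
theorem two_classes_false (hno : ∀ w : H, orderOf w ≠ 4) {a b : H} (ha : orderOf a = 2)
    (hb : orderOf b = 2) (hab : ¬ IsConj a b)
    (hall : ∀ w : H, orderOf w = 2 → IsConj a w ∨ IsConj b w) : False := by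
  classical
  haveI : Fact (Nat.Prime 2) := ⟨Nat.prime_two⟩
  haveI := Fintype.ofFinite H
  have odd : ∀ w : H, orderOf w = 2 → ¬ 2 ∣ Nat.card {c : H // IsConj w c} := by
    intro w hw hd
    obtain ⟨P, hP⟩ := (IsPGroup.of_card (G := Subgroup.zpowers w) (n := 1)
      (by rw [Nat.card_zpowers, hw, pow_one])).exists_le_sylow
    have hwP : w ∈ (P : Subgroup H) := hP (Subgroup.mem_zpowers w)
    have inv : ∀ q ∈ (P : Subgroup H), q⁻¹ = q := fun q hq =>
      inv_eq_of_mul_eq_one_right (orderOf_le_two_of_pgroup hno P.2 hq)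
    have hle : (P : Subgroup H) ≤ Subgroup.centralizer ({w} : Set H) := fun q hq =>
      Subgroup.mem_centralizer_singleton_iff.mpr (by
        have := inv _ (mul_mem hq hwP)
        rw [mul_inv_rev, inv q hq, inv w hwP] at this
        exact this.symm)
    exact P.not_dvd_index (hd.trans (card_conjugates_dvd w hle))
  have hcard : Nat.card {w : H // w * w = 1} =
      1 + Nat.card {c : H // IsConj a c} + Nat.card {c : H // IsConj b c} := by
    simp only [Nat.card_eq_fintype_card, Fintype.card_subtype]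
    have hset : (Finset.univ.filter fun w : H => w * w = 1) = insert 1
        ((Finset.univ.filter fun c => IsConj a c) ∪ (Finset.univ.filter fun c => IsConj b c)) := by
      ext w
      simp only [Finset.mem_filter, Finset.mem_univ, true_and, Finset.mem_insert, Finset.mem_union]
      constructor
      · intro h
        by_cases h1 : w = 1
        · exact Or.inl h1
        · exact Or.inr (hall w (orderOf_eq_prime (by rw [pow_two]; exact h) h1))
      · rintro (rfl | h | h)
        · exact one_mul 1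
        all_goals
          obtain ⟨u, rfl⟩ := isConj_iff.mp h
        · rw [show u * a * u⁻¹ * (u * a * u⁻¹) = u * (a * a) * u⁻¹ by group, ← pow_two, ← ha,
            pow_orderOf_eq_one, mul_one, mul_inv_cancel]
        · rw [show u * b * u⁻¹ * (u * b * u⁻¹) = u * (b * b) * u⁻¹ by group, ← pow_two, ← hb,
            pow_orderOf_eq_one, mul_one, mul_inv_cancel]
    rw [hset, Finset.card_insert_of_notMem, Finset.card_union_of_disjoint]
    · omega
    · rw [Finset.disjoint_left]
      intro w h1 h2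
      exact hab ((Finset.mem_filter.mp h1).2.trans (Finset.mem_filter.mp h2).2.symm)
    · simp only [Finset.mem_union, Finset.mem_filter, Finset.mem_univ, true_and]
      rintro (h | h) <;>
      · have := isConj_one_left.mp h
        simp_all
  have he := even_card_sq_one (H := H) (ha ▸ orderOf_dvd_natCard a)
  rw [hcard] at he
  have h1 : Odd (Nat.card {c : H // IsConj a c}) := Nat.odd_iff.mpr (Nat.two_dvd_ne_zero.mp (odd a ha))
  have h2 : Odd (Nat.card {c : H // IsConj b c}) := Nat.odd_iff.mpr (Nat.two_dvd_ne_zero.mp (odd b hb))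
  rcases he with ⟨u, hu⟩
  obtain ⟨p, hp⟩ := h1
  obtain ⟨q, hq⟩ := h2
  omega

/-- A `{2,r}`-group with abelian Sylow `r`-subgroup, no odd-core obstruction and one class of
involutions: the Sylow `r`-subgroup is normal, or the class has `r`-power size `2^a - 1`. -/
theorem normal_or_class_size {r : ℕ} [hr : Fact r.Prime] (hr2 : r ≠ 2)
    (hprimes : ∀ s : ℕ, s.Prime → s ∣ Nat.card H → s = 2 ∨ s = r)
    (P : Sylow r H) (hP : IsMulCommutative (P : Subgroup H)) {a : H} (ha : orderOf a = 2)
    (hone : ∀ w : H, orderOf w = 2 → IsConj a w) :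
    (P : Subgroup H).Normal ∨ ∃ e k : ℕ, 2 ^ e = Nat.card {c : H // IsConj a c} + 1 ∧
      Nat.card {c : H // IsConj a c} = r ^ k := by
  classical
  haveI : Fact (Nat.Prime 2) := ⟨Nat.prime_two⟩
  haveI hOn : (Cfsg.pPrimeCore r H).Normal := Transfer.pPrimeCore_normal r H
  have hsolv : Group.IsSolvable H :=
    CfsgLib.FourOrbit.isSolvable_of_two_primes Nat.prime_two hr.out hr2.symm hprimes
  set E := Cfsg.pPrimeCore r H with hE
  by_cases hEb : E = ⊥
  · left
    have hc := PSolvable.centralizer_pCore_le (p := r) (PSolvable.isPSolvable_of_isSolvable hsolv) hEb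
    have hle : Cfsg.pCore r H ≤ (P : Subgroup H) := by
      have hp := Fitting.pCore_isPGroup (G := H) r
      haveI := Fitting.pCore_normal (G := H) r
      exact le_sup_left.trans (P.3 (hp.to_sup_of_normal_left P.2) le_sup_right).le
    have hPle : (P : Subgroup H) ≤ Cfsg.pCore r H := fun q hq => hc
      (Subgroup.mem_centralizer_iff.mpr fun c hcm =>
        congrArg Subtype.val (hP.is_comm.comm ⟨c, hle hcm⟩ ⟨q, hq⟩))
    rw [le_antisymm hPle hle]
    exact Fitting.pCore_normal r
  right
  have hcop := Transfer.pPrimeCore_coprime (G := H) r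
  have hE2 : IsPGroup 2 E := by
    refine IsPGroup.of_card (n := (Nat.card E).primeFactorsList.length) ?_
    refine Nat.eq_prime_pow_of_unique_prime_dvd Nat.card_pos.ne' fun {d} hd hdd => ?_
    rcases hprimes d hd (hdd.trans (Subgroup.card_subgroup_dvd_card E)) with h | h
    · exact h
    · exact absurd (Nat.dvd_gcd (h ▸ hdd) dvd_rfl) (by rw [hcop]; exact hr.out.not_dvd_one)
  haveI : Nontrivial E := (Subgroup.nontrivial_iff_ne_bot E).mpr hEb
  haveI := hE2.center_nontrivial
  obtain ⟨n, hn0, hn⟩ := (hE2.to_subgroup (Subgroup.center E)).nontrivial_iff_card.mp inferInstance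
  obtain ⟨c, hc⟩ := exists_prime_orderOf_dvd_card' (G := Subgroup.center E) 2
    (hn ▸ dvd_pow_self 2 hn0.ne')
  set j : H := ((c : E) : H) with hj
  have hj2 : orderOf j = 2 := by rw [hj, Subgroup.orderOf_coe, Subgroup.orderOf_coe, hc]
  have hjE : j ∈ E := (c : E).2
  have hjc : ∀ e ∈ E, e * j = j * e := fun e he =>
    congrArg Subtype.val (Subgroup.mem_center_iff.mp c.2 ⟨e, he⟩)
  have inv : ∀ w : H, orderOf w = 2 → w ∈ E ∧ ∀ e ∈ E, e * w = w * e := by
    intro w hw
    obtain ⟨g, rfl⟩ := isConj_iff.mp ((hone j hj2).symm.trans (hone w hw))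
    refine ⟨hOn.conj_mem _ hjE g, fun e he => ?_⟩
    have := hjc (g⁻¹ * e * g) (by simpa using hOn.conj_mem _ he g⁻¹)
    calc e * (g * j * g⁻¹) = g * (g⁻¹ * e * g * j) * g⁻¹ := by group
      _ = g * (j * (g⁻¹ * e * g)) * g⁻¹ := by rw [this]
      _ = _ := by group
  have ord2 : ∀ w : H, w * w = 1 → w ≠ 1 → orderOf w = 2 := fun w h h1 =>
    orderOf_eq_prime (by rw [pow_two]; exact h) h1
  let V : Subgroup H :=
    { carrier := {w | w * w = 1}
      one_mem' := one_mul 1
      mul_mem' := by
        intro u w (hu : u * u = 1) (hw : w * w = 1)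
        show u * w * (u * w) = 1
        by_cases h1 : u = 1
        · rw [h1, one_mul]; exact hw
        by_cases h2 : w = 1
        · rw [h2, mul_one]; exact hu
        have hc := (inv w (ord2 w hw h2)).2 u (inv u (ord2 u hu h1)).1
        calc u * w * (u * w) = u * (w * u) * w := by group
          _ = u * u * (w * w) := by rw [← hc]; group
          _ = 1 := by rw [hu, hw, one_mul]
      inv_mem' := by
        intro u (hu : u * u = 1)
        show u⁻¹ * u⁻¹ = 1
        rw [← mul_inv_rev, hu, inv_one] }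
  have hV : IsPGroup 2 V := fun ⟨w, (hw : w * w = 1)⟩ => ⟨1, Subtype.ext (by simp [pow_two, hw])⟩
  obtain ⟨e, he⟩ := IsPGroup.iff_card.mp hV
  haveI := Fintype.ofFinite H
  have hcard : Nat.card V = Nat.card {b : H // IsConj a b} + 1 := by
    have e1 : Nat.card V = (Finset.univ.filter fun w : H => w * w = 1).card := by
      rw [← Fintype.card_subtype, ← Nat.card_eq_fintype_card]
      rfl
    rw [e1, Nat.card_eq_fintype_card, Fintype.card_subtype]
    rw [show (Finset.univ.filter fun w : H => w * w = 1) =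
        insert 1 (Finset.univ.filter fun b => IsConj a b) by
      ext w
      simp only [Finset.mem_filter, Finset.mem_univ, true_and, Finset.mem_insert]
      constructor
      · intro h
        by_cases h1 : w = 1
        · exact Or.inl h1
        · exact Or.inr (hone w (ord2 w h h1))
      · rintro (rfl | h)
        · exact one_mul 1
        · obtain ⟨u, rfl⟩ := isConj_iff.mp h
          rw [show u * a * u⁻¹ * (u * a * u⁻¹) = u * (a * a) * u⁻¹ by group, ← pow_two, ← ha,
            pow_orderOf_eq_one, mul_one, mul_inv_cancel]]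
    rw [Finset.card_insert_of_notMem]
    simp only [Finset.mem_filter, Finset.mem_univ, true_and]
    intro h
    have := isConj_one_left.mp h
    simp_all
  -- the class has odd size
  obtain ⟨Tz, hTz⟩ : ∃ T : Sylow 2 H, True := ⟨Classical.arbitrary _, trivial⟩
  have h2T : 2 ∣ Nat.card (Tz : Subgroup H) := Tz.dvd_card_of_dvd_card (ha ▸ orderOf_dvd_natCard a)
  haveI : Nontrivial (Tz : Subgroup H) :=
    Finite.one_lt_card_iff_nontrivial.mp (Nat.le_of_dvd Nat.card_pos h2T)
  haveI := Tz.2.center_nontrivial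
  obtain ⟨n', hn0', hn'⟩ := (Tz.2.to_subgroup (Subgroup.center (Tz : Subgroup H))).nontrivial_iff_card.mp
    inferInstance
  obtain ⟨d, hd⟩ := exists_prime_orderOf_dvd_card' (G := Subgroup.center (Tz : Subgroup H)) 2
    (hn' ▸ dvd_pow_self 2 hn0'.ne')
  have hd2 : orderOf ((d : (Tz : Subgroup H)) : H) = 2 := by
    rw [Subgroup.orderOf_coe, Subgroup.orderOf_coe, hd]
  have hdc : (Tz : Subgroup H) ≤ Subgroup.centralizer ({((d : (Tz : Subgroup H)) : H)} : Set H) :=
    fun q hq => Subgroup.mem_centralizer_singleton_iff.mpr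
      (congrArg Subtype.val (Subgroup.mem_center_iff.mp d.2 ⟨q, hq⟩))
  have hdvd := card_conjugates_dvd _ hdc
  have heq : Nat.card {b : H // IsConj ((d : (Tz : Subgroup H)) : H) b} =
      Nat.card {b : H // IsConj a b} := by
    have hda := hone _ hd2
    exact Nat.card_congr (Equiv.subtypeEquivRight fun b => ⟨hda.trans, hda.symm.trans⟩)
  rw [heq] at hdvd
  have hpos : Nat.card {b : H // IsConj a b} ≠ 0 := by
    haveI : Nonempty {b : H // IsConj a b} := ⟨⟨a, IsConj.refl a⟩⟩
    exact Nat.card_pos.ne'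
  refine ⟨e, (Nat.card {b : H // IsConj a b}).primeFactorsList.length, he.symm.trans hcard, ?_⟩
  refine Nat.eq_prime_pow_of_unique_prime_dvd hpos fun {s} hs hsd => ?_
  rcases hprimes s hs (hsd.trans (hdvd.trans (Subgroup.index_dvd_card _))) with h | h
  · exact absurd ((h ▸ hsd).trans hdvd) Tz.not_dvd_index
  · exact h

end Count

section Arith

theorem mersenne_pow {r e k : ℕ} (hr : r = 3 ∨ r = 5) (he : 2 ^ e = r ^ k + 1) :
    r = 3 ∧ r ^ k ∣ 3 ∨ r ^ k = 1 := by
  rcases Nat.eq_zero_or_pos k with rfl | hk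
  · exact Or.inr (pow_zero r)
  rcases Nat.lt_or_ge e 3 with h3 | h3
  · have h4 : (2 : ℕ) ^ e ≤ 4 := by
      calc (2 : ℕ) ^ e ≤ 2 ^ 2 := Nat.pow_le_pow_right (by norm_num) (by omega)
        _ = 4 := by norm_num
    have hrk : r ≤ r ^ k := Nat.le_self_pow hk.ne' r
    rcases hr with rfl | rfl
    · exact Or.inl ⟨rfl, by rw [show (3 : ℕ) ^ k = 3 by omega]⟩
    · omega
  · have h8 : (2 : ℕ) ^ e % 8 = 0 := Nat.mod_eq_zero_of_dvd (pow_dvd_pow 2 h3)
    exfalso
    rcases hr with rfl | rfl
    · have : 3 ^ k % 8 = 1 ∨ 3 ^ k % 8 = 3 := by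
        clear he hk
        induction k with
        | zero => simp
        | succ k ih => rw [pow_succ, Nat.mul_mod]; rcases ih with h | h <;> simp [h]
      omega
    · have : 5 ^ k % 8 = 1 ∨ 5 ^ k % 8 = 5 := by
        clear he hk
        induction k with
        | zero => simp
        | succ k ih => rw [pow_succ, Nat.mul_mod]; rcases ih with h | h <;> simp [h]
      omega

theorem two_pow_sub {r c s : ℕ} (hr : r = 3 ∨ r = 5) (h : r ^ c = 2 ^ s + 1) :
    r = 3 ∧ r ^ c ≤ 9 ∨ r = 5 ∧ r ^ c ≤ 5 := by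
  rcases hr with rfl | rfl
  · refine Or.inl ⟨rfl, ?_⟩
    rcases Nat.lt_or_ge s 4 with h4 | h4
    · have : (2 : ℕ) ^ s ≤ 8 := by
        calc (2 : ℕ) ^ s ≤ 2 ^ 3 := Nat.pow_le_pow_right (by norm_num) (by omega)
          _ = 8 := by norm_num
      omega
    · exfalso
      have h16 : (2 : ℕ) ^ s % 16 = 0 := Nat.mod_eq_zero_of_dvd (pow_dvd_pow 2 h4)
      have h80 : 3 ^ c % 80 = 1 ∨ 3 ^ c % 80 = 3 ∨ 3 ^ c % 80 = 9 ∨ 3 ^ c % 80 = 27 := by
        clear h
        induction c with
        | zero => simp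
        | succ c ih => rw [pow_succ, Nat.mul_mod]; rcases ih with h | h | h | h <;> simp [h]
      have h5 : 5 ∣ 2 ^ s := Nat.dvd_of_mod_eq_zero (by omega)
      have := Nat.le_of_dvd (by norm_num) ((by norm_num : Nat.Prime 5).dvd_of_dvd_pow h5)
      omega
  · refine Or.inr ⟨rfl, ?_⟩
    rcases Nat.lt_or_ge s 3 with h3 | h3
    · have : (2 : ℕ) ^ s ≤ 4 := by
        calc (2 : ℕ) ^ s ≤ 2 ^ 2 := Nat.pow_le_pow_right (by norm_num) (by omega)
          _ = 4 := by norm_num
      omega
    · exfalso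
      have h8 : (2 : ℕ) ^ s % 8 = 0 := Nat.mod_eq_zero_of_dvd (pow_dvd_pow 2 h3)
      have h24 : 5 ^ c % 24 = 1 ∨ 5 ^ c % 24 = 5 := by
        clear h
        induction c with
        | zero => simp
        | succ c ih => rw [pow_succ, Nat.mul_mod]; rcases ih with h | h <;> simp [h]
      have h3' : 3 ∣ 2 ^ s := Nat.dvd_of_mod_eq_zero (by omega)
      have := Nat.le_of_dvd (by norm_num) ((by norm_num : Nat.Prime 3).dvd_of_dvd_pow h3')
      omega

end Arith

end CfsgLib.SuzukiSC
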