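import Cfsg.Agent.Lib.SuzukiSC.Facts
import Cfsg.Agent.Lib.SuzukiSC.LocalGroup

/-!
The context of the local lemma: an involution `i` centralising an element `x` of odd prime order `r`,
four base classes of orders `2, 4, r, 2r`, and at most one further class in `InR`.
-/

set_option autoImplicit false
set_option linter.unusedSectionVars false
set_option linter.style.haveILetI false

namespace CfsgLib.SuzukiSC

variable {G : Type*} [Group G] [Finite G]

theorem orderOf_conj' (g y : G) : orderOf (g * y * g⁻¹) = orderOf y :=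
  MulEquiv.orderOf_eq (MulAut.conj g) y

theorem orderOf_of_isConj {a b : G} (h : IsConj a b) : orderOf a = orderOf b := by
  obtain ⟨g, rfl⟩ := isConj_iff.mp h
  exact (orderOf_conj' g a).symm

theorem isConj_pow {a b : G} (h : IsConj a b) (n : ℕ) : IsConj (a ^ n) (b ^ n) := by
  obtain ⟨g, rfl⟩ := isConj_iff.mp h
  exact isConj_iff.mpr ⟨g, by rw [conj_pow]⟩

theorem pow_congr_exp {a : G} {n u w : ℕ} (h : a ^ n = 1) (hm : u ≡ w [MOD n]) : a ^ u = a ^ w :=
  pow_eq_pow_iff_modEq.mpr (hm.of_dvd (orderOf_dvd_of_pow_eq_one h))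

theorem conj_iterate {g y : G} {j : ℕ} (h : g * y * g⁻¹ = y ^ j) :
    ∀ n : ℕ, g ^ n * y * (g ^ n)⁻¹ = y ^ j ^ n := by
  intro n
  induction n with
  | zero => simp
  | succ n ih =>
    rw [pow_succ' g n, mul_inv_rev,
      show g * g ^ n * y * ((g ^ n)⁻¹ * g⁻¹) = g * (g ^ n * y * (g ^ n)⁻¹) * g⁻¹ by group, ih, ← conj_pow,
      h, ← pow_mul, ← pow_succ']

/-- If all generators of `⟨y⟩` are conjugate, `p - 1` divides the order of some conjugating element. -/
theorem exists_sub_one_dvd {p : ℕ} (hp : p.Prime) {y : G} (hy : orderOf y = p)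
    (hall : ∀ j : ℕ, orderOf (y ^ j) = p → IsConj y (y ^ j)) : ∃ g : G, p - 1 ∣ orderOf g := by
  haveI : Fact p.Prime := ⟨hp⟩
  obtain ⟨c, hc⟩ := IsCyclic.exists_ofOrder_eq_natCard (α := (ZMod p)ˣ)
  rw [Nat.card_eq_fintype_card, ZMod.card_units] at hc
  set j := (c : ZMod p).val with hj
  have hjv : (j : ZMod p) = (c : ZMod p) := ZMod.natCast_zmod_val _
  have hj0 : ¬ p ∣ j := fun h => by
    rw [← ZMod.natCast_eq_zero_iff, hjv] at h
    exact Units.ne_zero c h
  have hord : orderOf (y ^ j) = p := by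
    refine orderOf_eq_prime (by rw [← pow_mul, mul_comm, pow_mul, ← hy, pow_orderOf_eq_one, one_pow]) ?_
    intro e
    exact hj0 (hy ▸ orderOf_dvd_of_pow_eq_one e)
  obtain ⟨g, hg⟩ := isConj_iff.mp (hall j hord)
  refine ⟨g, ?_⟩
  have h := conj_iterate hg (orderOf g)
  rw [pow_orderOf_eq_one, one_mul, inv_one, mul_one] at h
  have hm : j ^ orderOf g ≡ 1 [MOD p] := hy ▸ pow_eq_pow_iff_modEq.mp (h.symm.trans (pow_one y).symm)
  rw [← ZMod.natCast_eq_natCast_iff, Nat.cast_pow, hjv, Nat.cast_one] at hm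
  rw [← hc]
  exact orderOf_dvd_of_pow_eq_one (Units.ext (by simpa using hm))

/-- The data of the local lemma. -/
structure LCtx (G : Type*) [Group G] [Finite G] where
  S : Setting G
  h5 : S.RClasses.ncard ≤ 5
  one : OneInvolClass G
  r : ℕ
  hr : r.Prime
  hr2 : r ≠ 2
  i : G
  x : G
  v : G
  hi : orderOf i = 2
  hx : orderOf x = r
  hv : orderOf v = 4
  hc : i * x = x * i

namespace LCtx

variable (C : LCtx G)

/-- The element of order `2r`. -/
def z : G := C.i * C.x

theorem r3 : 3 ≤ C.r := by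
  have := C.hr.two_le
  have := C.hr2
  omega

theorem r_odd : C.r % 2 = 1 := Nat.odd_iff.mp (C.hr.odd_of_ne_two C.hr2)

theorem orderOf_mul_invol {j y : G} (hj : orderOf j = 2) (hy : orderOf y = C.r) (h : j * y = y * j) :
    orderOf (j * y) = 2 * C.r := by
  rw [Commute.orderOf_mul_eq_mul_orderOf_of_coprime h (by
    rw [hj, hy]; exact (Nat.coprime_two_left.mpr (C.hr.odd_of_ne_two C.hr2))), hj, hy]

theorem hz : orderOf C.z = 2 * C.r := C.orderOf_mul_invol C.hi C.hx C.hc

theorem inR_two {j : G} (hj : orderOf j = 2) : C.S.InR j :=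
  C.S.inR_of_two_pow (a := 0) (by simpa using hj)

theorem inR_x {j y : G} (hj : orderOf j = 2) (hy : orderOf y = C.r) (h : j * y = y * j) : C.S.InR y :=
  (C.inR_two hj).comm_inR (fun e => by
    rw [e, orderOf_one] at hy
    exact C.hr.one_lt.ne hy) h

theorem r_not_dvd_m : ¬ C.r ∣ C.S.m := fun h => by
  have := (C.inR_x C.hi C.hx C.hc).orderOf_coprime
  rw [C.hx] at this
  exact C.hr.one_lt.ne' (Nat.eq_one_of_dvd_coprimes this dvd_rfl h)

theorem inR_orders {y : G} {a b : ℕ} (h1 : orderOf y = 2 ^ a * C.r ^ b) (hy : y ≠ 1) : C.S.InR y := by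
  refine C.S.inR_of_coprime hy ?_
  rw [h1]
  exact Nat.Coprime.mul_left ((Nat.coprime_two_left.mpr C.S.m_odd).pow_left _)
    (((C.hr.coprime_iff_not_dvd).mpr C.r_not_dvd_m).pow_left _)

theorem inR_z : C.S.InR C.z :=
  C.inR_orders (a := 1) (b := 1) (by rw [C.hz, pow_one, pow_one]) fun e => by
    have := C.hz
    rw [e, orderOf_one] at this
    have := C.r3
    omega

theorem inR_v : C.S.InR C.v := C.S.inR_of_two_pow (a := 1) (by simpa using C.hv)

/-- Conjugate to one of the four base elements. -/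
def Known (y : G) : Prop := IsConj C.i y ∨ IsConj C.v y ∨ IsConj C.x y ∨ IsConj C.z y

theorem known_order {y : G} (h : C.Known y) :
    orderOf y = 2 ∨ orderOf y = 4 ∨ orderOf y = C.r ∨ orderOf y = 2 * C.r := by
  rcases h with h | h | h | h <;> rw [← orderOf_of_isConj h]
  exacts [Or.inl C.hi, Or.inr (Or.inl C.hv), Or.inr (Or.inr (Or.inl C.hx)),
    Or.inr (Or.inr (Or.inr C.hz))]

theorem base_inj : Function.Injective
    (fun k : Fin 4 => ConjClasses.mk (![C.i, C.v, C.x, C.z] k)) := by
  intro a b h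
  have h' := orderOf_of_isConj (ConjClasses.mk_eq_mk_iff_isConj.mp h)
  have := C.r3
  have := C.r_odd
  fin_cases a <;> fin_cases b <;>
    simp [C.hi, C.hv, C.hx, C.hz] at h' ⊢ <;> omega

theorem base_inR : ∀ k : Fin 4, C.S.InR (![C.i, C.v, C.x, C.z] k) := by
  intro k
  fin_cases k
  exacts [C.inR_two C.hi, C.inR_v, C.inR_x C.hi C.hx C.hc, C.inR_z]

theorem four_le : 4 ≤ C.S.RClasses.ncard := by
  have hs : Set.range (fun k : Fin 4 => ConjClasses.mk (![C.i, C.v, C.x, C.z] k)) ⊆ C.S.RClasses := by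
    rintro _ ⟨k, rfl⟩
    exact ⟨_, C.base_inR k, rfl⟩
  haveI : Finite (ConjClasses G) := Finite.of_surjective _ ConjClasses.mk_surjective
  have := Set.ncard_le_ncard hs (Set.toFinite _)
  rwa [Set.ncard_range_of_injective C.base_inj, Nat.card_fin] at this

/-- There is at most one class besides the four base classes. -/
theorem unknown_conj {y w : G} (hy : C.S.InR y) (hy' : ¬ C.Known y) (hw : C.S.InR w)
    (hw' : ¬ C.Known w) : IsConj y w := by
  by_contra hne
  haveI : Finite (ConjClasses G) := Finite.of_surjective _ ConjClasses.mk_surjective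
  set f := fun k : Fin 4 => ConjClasses.mk (![C.i, C.v, C.x, C.z] k) with hf
  have hout : ∀ u : G, ¬ C.Known u → ConjClasses.mk u ∉ Set.range f := by
    rintro u hu ⟨k, hk⟩
    have h' := ConjClasses.mk_eq_mk_iff_isConj.mp hk
    apply hu
    fin_cases k
    exacts [Or.inl h', Or.inr (Or.inl h'), Or.inr (Or.inr (Or.inl h')), Or.inr (Or.inr (Or.inr h'))]
  have hs : insert (ConjClasses.mk y) (insert (ConjClasses.mk w) (Set.range f)) ⊆ C.S.RClasses := by
    refine Set.insert_subset ⟨y, hy, rfl⟩ (Set.insert_subset ⟨w, hw, rfl⟩ ?_)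
    rintro _ ⟨k, rfl⟩
    exact ⟨_, C.base_inR k, rfl⟩
  have h1 := Set.ncard_le_ncard hs (Set.toFinite _)
  rw [Set.ncard_insert_of_notMem ?_ (Set.toFinite _), Set.ncard_insert_of_notMem (hout w hw') (Set.toFinite _),
    Set.ncard_range_of_injective C.base_inj, Nat.card_fin] at h1
  · have := C.h5
    omega
  · rintro (h | h)
    · exact hne (ConjClasses.mk_eq_mk_iff_isConj.mp h)
    · exact hout y hy' h

theorem not_known_of_order {y : G} (h2 : orderOf y ≠ 2) (h4 : orderOf y ≠ 4) (hr : orderOf y ≠ C.r)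
    (h2r : orderOf y ≠ 2 * C.r) : ¬ C.Known y := fun h => by
  rcases C.known_order h with e | e | e | e <;> contradiction

/-- Two elements of `InR` of distinct orders outside `2, 4, r, 2r` do not exist. -/
theorem two_orders_false {y w : G} (hy : C.S.InR y) (hw : C.S.InR w) (hyk : ¬ C.Known y)
    (hwk : ¬ C.Known w) (h : orderOf y ≠ orderOf w) : False :=
  h (orderOf_of_isConj (C.unknown_conj hy hyk hw hwk))

/-- Elements of order `r` centralised by an involution are conjugate to `x`. -/
theorem x_conj {j y : G} (hj : orderOf j = 2) (hy : orderOf y = C.r) (h : j * y = y * j) :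
    IsConj C.x y := by
  by_contra hne
  have hr3 := C.r3
  have hro := C.r_odd
  have hyk : ¬ C.Known y := fun hk => by
    rcases hk with e | e | e | e
    · have := orderOf_of_isConj e; rw [C.hi, hy] at this; omega
    · have := orderOf_of_isConj e; rw [C.hv, hy] at this; omega
    · exact hne e
    · have := orderOf_of_isConj e; rw [C.hz, hy] at this; omega
  have hw := C.orderOf_mul_invol hj hy h
  have hwR : C.S.InR (j * y) := C.inR_orders (a := 1) (b := 1) (by rw [hw, pow_one, pow_one]) fun e => by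
    rw [e, orderOf_one] at hw; omega
  have hpow : ∀ {a b : G}, orderOf a = 2 → orderOf b = C.r → a * b = b * a →
      (a * b) ^ (C.r + 1) = b := by
    intro a b ha hb hab
    rw [Commute.mul_pow hab, pow_succ b, show b ^ C.r = 1 by rw [← hb, pow_orderOf_eq_one], one_mul,
      pow_congr_exp (u := C.r + 1) (w := 0) (n := 2) (by rw [← ha, pow_orderOf_eq_one])
        ((Nat.modEq_zero_iff_dvd).mpr (by omega)), pow_zero, one_mul]
  have hwk : ¬ C.Known (j * y) := fun hk => by
    rcases hk with e | e | e | e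
    · have := orderOf_of_isConj e; rw [C.hi, hw] at this; omega
    · have := orderOf_of_isConj e; rw [C.hv, hw] at this; omega
    · have := orderOf_of_isConj e; rw [C.hx, hw] at this; omega
    · have := isConj_pow e (C.r + 1)
      rw [z, hpow C.hi C.hx C.hc, hpow hj hy h] at this
      exact hne this
  exact C.two_orders_false (C.inR_x hj hy h) hwR hyk hwk (by rw [hy, hw]; omega)

theorem six_false {y w : G} (hy : C.S.InR y) (hw : C.S.InR w)
    (hy' : orderOf y ∉ ({2, 4, C.r, 2 * C.r} : Set ℕ)) (hw' : orderOf w ∉ ({2, 4, C.r, 2 * C.r} : Set ℕ))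
    (h : orderOf y ≠ orderOf w) : False :=
  C.two_orders_false hy hw (fun k => hy' (C.known_order k)) (fun k => hw' (C.known_order k)) h

/-- An element order in `InR` of even size is one of five shapes. -/
theorem even_order {g : G} (he : 2 ∣ orderOf g) :
    C.S.InR g ∧ (orderOf g = 2 ∨ orderOf g = 4 ∨ orderOf g = 8 ∨ orderOf g = 2 * C.r ∨
      orderOf g = 4 * C.r) := by
  have hr3 := C.r3
  have hro := C.r_odd
  have hpos : 0 < orderOf g := orderOf_pos g
  have hg1 : g ≠ 1 := fun e => by rw [e, orderOf_one] at he; omega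
  have hgR : C.S.InR g := by
    rcases C.S.inR_or hg1 with h | ⟨k, c, hk⟩
    · exact h
    · exfalso
      have d := Subgroup.orderOf_dvd_natCard _ hk
      rw [orderOf_conj'] at d
      exact Nat.not_even_iff_odd.mpr (C.S.n_odd k) (even_iff_two_dvd.mpr (he.trans d))
  refine ⟨hgR, ?_⟩
  by_cases hk : C.Known g
  · rcases C.known_order hk with e | e | e | e <;> omega
  obtain ⟨e, he'⟩ := he
  have he2 : orderOf (g ^ 2) = e := by
    rw [orderOf_pow' g two_ne_zero, he', Nat.gcd_eq_right (dvd_mul_right 2 e)]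
    exact Nat.mul_div_cancel_left e (by norm_num)
  by_cases h1 : g ^ 2 = 1
  · rw [h1, orderOf_one] at he2
    omega
  by_cases hk2 : C.Known (g ^ 2)
  · rcases C.known_order hk2 with e' | e' | e' | e' <;> omega
  · exact (C.two_orders_false hgR (hgR.pow h1) hk hk2 (by omega)).elim

theorem r_three_or_five : C.r = 3 ∨ C.r = 5 := by
  have hr3 := C.r3
  have hro := C.r_odd
  obtain ⟨g, hdvd⟩ := exists_sub_one_dvd C.hr C.hx fun j hj =>
    C.x_conj C.hi hj ((show Commute C.i C.x from C.hc).pow_right j).eq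
  have he : 2 ∣ orderOf g := (Nat.dvd_of_mod_eq_zero (by omega)).trans hdvd
  have key : C.r - 1 ∣ 2 * C.r → C.r - 1 ∣ 4 := fun h => by
    have := Nat.dvd_sub h (dvd_mul_left (C.r - 1) 2)
    rw [show 2 * C.r - 2 * (C.r - 1) = 2 by omega] at this
    exact this.trans (by norm_num)
  have h : C.r - 1 ∣ 4 ∨ C.r - 1 ∣ 8 := by
    rcases (C.even_order he).2 with e | e | e | e | e <;> rw [e] at hdvd
    · exact Or.inl (hdvd.trans (by norm_num))
    · exact Or.inl hdvd
    · exact Or.inr hdvd
    · exact Or.inl (key hdvd)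
    · left
      have := Nat.dvd_sub hdvd (dvd_mul_left (C.r - 1) 4)
      rwa [show 4 * C.r - 4 * (C.r - 1) = 4 by omega] at this
  have hle : C.r ≤ 9 := by
    rcases h with h | h <;> [have := Nat.le_of_dvd (by norm_num) h; have := Nat.le_of_dvd (by norm_num) h] <;> omega
  have hp := C.hr
  interval_cases hr : C.r <;> first | omega | (norm_num at hp) | (norm_num at h)

end LCtx

end CfsgLib.SuzukiSC
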