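import Cfsg.Agent.Lib.SuzukiSC.LocalCtx

/-!
The centraliser `D` of `x`: one class of involutions, hence one class of elements of order `2r`; then
either the odd part of `|C(i)|` is almost everything or `C(i x)` is small.
-/

set_option autoImplicit false
set_option linter.unusedSectionVars false
set_option linter.style.haveILetI false

namespace CfsgLib.SuzukiSC

namespace LCtx

variable {G : Type*} [Group G] [Finite G] (C : LCtx G)

theorem x_mem_R : C.S.InR C.x := C.inR_x C.hi C.hx C.hc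

theorem x_cube : C.x ^ C.r = 1 := by rw [← C.hx, pow_orderOf_eq_one]

theorem mul_x_order {w : G} {a : ℕ} (hw : orderOf w = 2 ^ a) (h : w * C.x = C.x * w) :
    orderOf (w * C.x) = 2 ^ a * C.r ∧ C.S.InR (w * C.x) := by
  have e : orderOf (w * C.x) = 2 ^ a * C.r := by
    rw [Commute.orderOf_mul_eq_mul_orderOf_of_coprime h (by
      rw [hw, C.hx]; exact (Nat.coprime_two_left.mpr (C.hr.odd_of_ne_two C.hr2)).pow_left _), hw, C.hx]
  refine ⟨e, C.inR_orders (a := a) (b := 1) (by rw [e, pow_one]) fun h1 => ?_⟩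
  rw [h1, orderOf_one] at e
  have := Nat.eq_one_of_mul_eq_one_left e.symm
  have := C.r3
  omega

/-- Conjugacy of `w x` to `w' x` is conjugacy of `w` to `w'` under `C(x)`. -/
theorem split_conj {w w' : G} (hw : w ^ 4 = 1) (hw' : w' ^ 4 = 1) (hc : w * C.x = C.x * w)
    (hc' : w' * C.x = C.x * w') (h : IsConj (w * C.x) (w' * C.x)) :
    ∃ g : Subgroup.centralizer ({C.x} : Set G), (g : G) * w * (g : G)⁻¹ = w' := by
  have hr := C.r_odd
  obtain ⟨k, hk⟩ : ∃ k, C.r = 2 * k + 1 := ⟨C.r / 2, by omega⟩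
  have p1 : ∀ {u : G}, u ^ 4 = 1 → u * C.x = C.x * u → (u * C.x) ^ ((C.r + 1) ^ 2) = C.x := by
    intro u hu hcu
    rw [Commute.mul_pow hcu, pow_congr_exp (w := 0) hu (Nat.modEq_zero_iff_dvd.mpr
        ⟨(k + 1) ^ 2, by rw [hk]; ring⟩), pow_zero, one_mul,
      pow_congr_exp (w := 1) C.x_cube (by
        have h1 : C.r + 1 ≡ 1 [MOD C.r] := by simp [Nat.ModEq]
        simpa using h1.pow 2), pow_one]
  have p2 : ∀ {u : G}, u ^ 4 = 1 → u * C.x = C.x * u → (u * C.x) ^ (C.r ^ 2) = u := by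
    intro u hu hcu
    rw [Commute.mul_pow hcu, pow_congr_exp (u := C.r ^ 2) (w := 1) hu (by
        rw [hk, Nat.ModEq, show (2 * k + 1) ^ 2 = 1 + 4 * (k * k + k) by ring]
        exact Nat.add_mul_mod_self_left 1 4 _), pow_one,
      pow_two, pow_mul, C.x_cube, one_pow, mul_one]
  obtain ⟨g, hg⟩ := isConj_iff.mp h
  have e1 := congrArg (· ^ ((C.r + 1) ^ 2)) hg
  simp only [conj_pow, p1 hw hc, p1 hw' hc'] at e1
  have e2 := congrArg (· ^ (C.r ^ 2)) hg
  simp only [conj_pow, p2 hw hc, p2 hw' hc'] at e2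
  exact ⟨⟨g, Subgroup.mem_centralizer_singleton_iff.mpr (mul_inv_eq_iff_eq_mul.mp e1)⟩, e2⟩

theorem comm_of_mem {w : G} (h : w ∈ Subgroup.centralizer ({C.x} : Set G)) : w * C.x = C.x * w :=
  Subgroup.mem_centralizer_singleton_iff.mp h

/-- The involution in `C(x)`. -/
def iD : Subgroup.centralizer ({C.x} : Set G) :=
  ⟨C.i, Subgroup.mem_centralizer_singleton_iff.mpr C.hc⟩

theorem iD_order : orderOf C.iD = 2 := by rw [← Subgroup.orderOf_coe]; exact C.hi

theorem pow_four_of_order {w : G} (h : orderOf w = 2 ∨ orderOf w = 4) : w ^ 4 = 1 := by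
  rw [← orderOf_dvd_iff_pow_eq_one]
  rcases h with h | h <;> rw [h]
  norm_num

/-- `C(x)` has one class of involutions. -/
theorem one_class_D (j : Subgroup.centralizer ({C.x} : Set G)) (hj : orderOf j = 2) :
    IsConj C.iD j := by
  by_contra hne
  set H := Subgroup.centralizer ({C.x} : Set G)
  have ordG : ∀ {w : H}, orderOf w = 2 → orderOf (w : G) = 2 := fun {w} h => by rwa [Subgroup.orderOf_coe]
  have sep : ∀ {a b : H}, orderOf a = 2 → orderOf b = 2 → IsConj ((a : G) * C.x) ((b : G) * C.x) →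
      IsConj a b := by
    intro a b ha hb h
    obtain ⟨g, hg⟩ := C.split_conj (pow_four_of_order (Or.inl (ordG ha))) (pow_four_of_order (Or.inl (ordG hb)))
      (C.comm_of_mem a.2) (C.comm_of_mem b.2) h
    exact isConj_iff.mpr ⟨g, Subtype.ext hg⟩
  have hr3 := C.r3
  have unk : ∀ {a : H}, orderOf a = 2 → ¬ IsConj C.iD a →
      C.S.InR ((a : G) * C.x) ∧ ¬ C.Known ((a : G) * C.x) ∧ orderOf ((a : G) * C.x) = 2 * C.r := by
    intro a ha hna
    obtain ⟨e, hR⟩ := C.mul_x_order (a := 1) (by rw [pow_one]; exact ordG ha) (C.comm_of_mem a.2)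
    rw [pow_one] at e
    refine ⟨hR, fun hk => ?_, e⟩
    rcases hk with h | h | h | h
    · have := orderOf_of_isConj h; rw [C.hi, e] at this; omega
    · have := orderOf_of_isConj h; rw [C.hv, e] at this; have := C.r_odd; omega
    · have := orderOf_of_isConj h; rw [C.hx, e] at this; omega
    · exact hna (sep C.iD_order ha h)
  obtain ⟨hR, hk, ho⟩ := unk hj hne
  refine two_classes_false (H := H) (fun w hw => ?_) C.iD_order hj hne fun w hw => ?_
  · obtain ⟨e, hR'⟩ := C.mul_x_order (a := 2) (w := (w : G)) (by rw [Subgroup.orderOf_coe, hw]; norm_num)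
      (C.comm_of_mem w.2)
    refine C.two_orders_false hR hR' hk (fun h => ?_) (by rw [ho, e]; omega)
    have := C.known_order h
    have := C.r_odd
    rw [e] at *
    omega
  · by_contra! h
    obtain ⟨hR', hk', -⟩ := unk hw h.1
    exact h.2 (sep hj hw (C.unknown_conj hR hk hR' hk'))

/-- Elements of order `2r` are conjugate to `z`. -/
theorem z_conj {w : G} (hw : orderOf w = 2 * C.r) : IsConj C.z w := by
  have hr3 := C.r3
  have hro := C.r_odd
  have hp : orderOf (w ^ C.r) = 2 := by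
    rw [orderOf_pow' w (by omega), hw, Nat.gcd_eq_right (dvd_mul_left _ _), Nat.mul_div_cancel _ (by omega)]
  have h2r : w ^ (2 * C.r) = 1 := by rw [← hw, pow_orderOf_eq_one]
  have hq : orderOf (w ^ (C.r + 1)) = C.r := by
    refine @orderOf_eq_prime _ _ _ C.r ⟨C.hr⟩ ?_ ?_
    · obtain ⟨k, hk⟩ : 2 ∣ C.r + 1 := Nat.dvd_of_mod_eq_zero (by omega)
      rw [hk, ← pow_mul, show 2 * k * C.r = 2 * C.r * k by ring, pow_mul, h2r, one_pow]
    · intro e
      have := Nat.le_of_dvd (by omega) (orderOf_dvd_of_pow_eq_one e)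
      omega
  obtain ⟨g, hg⟩ := isConj_iff.mp (C.x_conj hp hq (Commute.pow_pow_self w _ _).eq).symm
  have hw' : w = w ^ C.r * w ^ (C.r + 1) := by
    rw [← pow_add, show C.r + (C.r + 1) = 2 * C.r + 1 by omega, pow_add, h2r, one_mul, pow_one]
  have hmem : g * w ^ C.r * g⁻¹ ∈ Subgroup.centralizer ({C.x} : Set G) := by
    refine Subgroup.mem_centralizer_singleton_iff.mpr ?_
    rw [← hg]
    calc g * w ^ C.r * g⁻¹ * (g * w ^ (C.r + 1) * g⁻¹) = g * (w ^ C.r * w ^ (C.r + 1)) * g⁻¹ := by group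
      _ = g * (w ^ (C.r + 1) * w ^ C.r) * g⁻¹ := by rw [(Commute.pow_pow_self w _ _).eq]
      _ = _ := by group
  obtain ⟨c, hc⟩ := isConj_iff.mp (C.one_class_D ⟨_, hmem⟩ (by
    rw [Subgroup.orderOf_mk, orderOf_conj', hp]))
  have hc' : (c : G) * C.i * (c : G)⁻¹ = g * w ^ C.r * g⁻¹ := congrArg Subtype.val hc
  refine isConj_iff.mpr ⟨g⁻¹ * (c : G), ?_⟩
  have hcx : (c : G) * C.x * (c : G)⁻¹ = C.x := by rw [C.comm_of_mem c.2, mul_inv_cancel_right]
  calc g⁻¹ * (c : G) * C.z * (g⁻¹ * (c : G))⁻¹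
      = g⁻¹ * ((c : G) * C.i * (c : G)⁻¹) * ((c : G) * C.x * (c : G)⁻¹) * g := by rw [z]; group
    _ = g⁻¹ * (g * w ^ C.r * g⁻¹) * (g * w ^ (C.r + 1) * g⁻¹) * g := by rw [hc', hcx, hg]
    _ = w := by
      conv_rhs => rw [hw']
      group

theorem comm_rgroup {K : Subgroup G} (hK : IsPGroup C.r K) : ∀ a ∈ K, ∀ b ∈ K, a * b = b * a := by
  haveI : Fact C.r.Prime := ⟨C.hr⟩
  obtain ⟨P, hP⟩ := hK.exists_le_sylow
  intro a ha b hb
  exact congrArg Subtype.val ((C.S.ab C.r C.hr C.hr2 C.r_not_dvd_m P).is_comm.comm ⟨a, hP ha⟩ ⟨b, hP hb⟩)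

theorem card_cent_invol {j : G} (hj : orderOf j = 2) :
    Nat.card ↥(Subgroup.centralizer ({j} : Set G)) = Nat.card ↥(Subgroup.centralizer ({C.i} : Set G)) := by
  obtain ⟨g, rfl⟩ := isConj_iff.mp (C.one C.i j C.hi hj)
  have h : (Subgroup.centralizer ({C.i} : Set G)).map (MulAut.conj g).toMonoidHom =
      Subgroup.centralizer ({g * C.i * g⁻¹} : Set G) := by
    ext u
    rw [Transfer.mem_conj_map_iff, Subgroup.mem_centralizer_singleton_iff,
      Subgroup.mem_centralizer_singleton_iff]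
    constructor
    · intro h
      calc u * (g * C.i * g⁻¹) = g * (g⁻¹ * u * g * C.i) * g⁻¹ := by group
        _ = g * (C.i * (g⁻¹ * u * g)) * g⁻¹ := by rw [h]
        _ = _ := by group
    · intro h
      calc g⁻¹ * u * g * C.i = g⁻¹ * (u * (g * C.i * g⁻¹)) * g := by group
        _ = g⁻¹ * (g * C.i * g⁻¹ * u) * g := by rw [h]
        _ = _ := by group
  rw [← h, Subgroup.card_map_of_injective (MulAut.conj g).injective]

/-- The `r`-part of `C(i)` when every prime outside `m` is `2` or `r`. -/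
theorem cent_i_bound (hpr : ∀ p : ℕ, p.Prime → p ∣ Nat.card G → ¬ p ∣ C.S.m → p = 2 ∨ p = C.r) :
    ∃ s c : ℕ, Nat.card ↥(Subgroup.centralizer ({C.i} : Set G)) = 2 ^ s * C.r ^ c ∧
      (C.r = 3 ∧ C.r ^ c ≤ 9 ∨ C.r = 5 ∧ C.r ^ c ≤ 5) := by
  classical
  haveI : Fact C.r.Prime := ⟨C.hr⟩
  haveI : Fact (Nat.Prime 2) := ⟨Nat.prime_two⟩
  set M := Subgroup.centralizer ({C.i} : Set G) with hM
  have hMp : ∀ p : ℕ, p.Prime → p ∣ Nat.card M → p = 2 ∨ p = C.r := fun p hp hd => hpr p hp
    (hd.trans (Subgroup.card_subgroup_dvd_card M)) fun hm =>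
      hp.one_lt.ne' (Nat.eq_one_of_dvd_coprimes (C.inR_two C.hi).centralizer_coprime hd hm)
  have hxM : C.x ∈ M := Subgroup.mem_centralizer_singleton_iff.mpr C.hc.symm
  obtain ⟨R0, hR0⟩ := (IsPGroup.of_card (G := Subgroup.zpowers (⟨C.x, hxM⟩ : M)) (n := 1)
    (by rw [Nat.card_zpowers, Subgroup.orderOf_mk, C.hx, pow_one])).exists_le_sylow
  have hcomm : IsMulCommutative (R0 : Subgroup M) := ⟨⟨fun a b => Subtype.ext (Subtype.ext
    (C.comm_rgroup (R0.2.map M.subtype) _ ⟨_, a.2, rfl⟩ _ ⟨_, b.2, rfl⟩))⟩⟩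
  have hMc : ∀ w : M, C.i * (w : G) = (w : G) * C.i := fun w =>
    (Subgroup.mem_centralizer_singleton_iff.mp w.2).symm
  have hexp : ∀ w : M, w ∈ (R0 : Subgroup M) → w ≠ 1 → orderOf (w : G) = C.r := by
    intro w hw hw1
    obtain ⟨n, hn⟩ := R0.2 ⟨w, hw⟩
    have hn' : (w : G) ^ C.r ^ n = 1 := congrArg (fun u : (R0 : Subgroup M) => ((u : M) : G)) hn
    obtain ⟨k, -, hk⟩ := (Nat.dvd_prime_pow C.hr).mp (orderOf_dvd_of_pow_eq_one hn')
    rcases (by omega : k = 0 ∨ k = 1 ∨ 2 ≤ k) with rfl | rfl | hk2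
    · exact absurd (Subtype.ext (orderOf_eq_one_iff.mp (by simpa using hk))) hw1
    · simpa using hk
    · exfalso
      set u : G := (w : G) ^ C.r ^ (k - 2) with hu
      have hru : orderOf u = C.r * C.r := by
        rw [hu, orderOf_pow' (w : G) (pow_ne_zero _ C.hr.ne_zero), hk,
          Nat.gcd_eq_right (pow_dvd_pow _ (by omega)), Nat.pow_div (by omega) C.hr.pos,
          show k - (k - 2) = 2 by omega, pow_two]
      have hcu : C.i * u = u * C.i := ((show Commute C.i (w : G) from hMc w).pow_right _).eq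
      have h2u : orderOf (C.i * u) = 2 * (C.r * C.r) := by
        rw [Commute.orderOf_mul_eq_mul_orderOf_of_coprime hcu (by
          rw [C.hi, hru]; exact Nat.coprime_two_left.mpr ((C.hr.odd_of_ne_two C.hr2).mul
            (C.hr.odd_of_ne_two C.hr2))), C.hi, hru]
      have hr3 := C.r3
      have hro := C.r_odd
      have h9 : 3 * C.r ≤ C.r * C.r := Nat.mul_le_mul_right _ hr3
      have hodd : (C.r * C.r) % 2 = 1 := by rw [Nat.mul_mod, hro]
      refine C.six_false (C.inR_orders (a := 0) (b := 2) (by rw [hru]; ring) ?_)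
        (C.inR_orders (y := C.i * u) (a := 1) (b := 2) (by rw [h2u]; ring) ?_) ?_ ?_ (by rw [hru, h2u]; omega)
      · intro e; rw [e, orderOf_one] at hru; omega
      · intro e; rw [e, orderOf_one] at h2u; omega
      · simp only [hru, Set.mem_insert_iff, Set.mem_singleton_iff]; omega
      · simp only [h2u, Set.mem_insert_iff, Set.mem_singleton_iff]; omega
  have hconj : ∀ a : M, a ∈ (R0 : Subgroup M) → a ≠ 1 → IsConj (⟨C.x, hxM⟩ : M) a := by
    intro a ha ha1
    have hoa := C.orderOf_mul_invol C.hi (hexp a ha ha1) (hMc a)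
    obtain ⟨g, hg⟩ := isConj_iff.mp (C.z_conj hoa)
    have e1 := congrArg (· ^ C.r) hg
    simp only [conj_pow, z] at e1
    have hri : C.i ^ C.r = C.i := by
      rw [pow_congr_exp (w := 1) (n := 2) (by rw [← C.hi, pow_orderOf_eq_one]) (by
        simp [Nat.ModEq, C.r_odd]), pow_one]
    rw [Commute.mul_pow C.hc, Commute.mul_pow (hMc a), C.x_cube,
      show (a : G) ^ C.r = 1 by rw [← hexp a ha ha1, pow_orderOf_eq_one],
      mul_one, hri] at e1
    refine isConj_iff.mpr ⟨⟨g, Subgroup.mem_centralizer_singleton_iff.mpr (mul_inv_eq_iff_eq_mul.mp e1)⟩,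
      Subtype.ext ?_⟩
    show g * C.x * g⁻¹ = a
    rw [show g * C.x * g⁻¹ = (g * C.i * g⁻¹)⁻¹ * (g * C.z * g⁻¹) by rw [z]; group, hg, e1,
      inv_mul_cancel_left]
  set N := Subgroup.normalizer ((R0 : Subgroup M) : Set M) with hN
  set xN : N := ⟨⟨C.x, hxM⟩, Subgroup.le_normalizer (hR0 (Subgroup.mem_zpowers _))⟩ with hxN
  have hxR : (⟨C.x, hxM⟩ : M) ∈ (R0 : Subgroup M) := hR0 (Subgroup.mem_zpowers _)
  have hclass : ∀ b : N, IsConj xN b ↔ (b : M) ∈ (R0 : Subgroup M) ∧ (b : M) ≠ 1 := by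
    intro b
    constructor
    · intro h
      obtain ⟨u, hu⟩ := isConj_iff.mp h
      have hu' : (u : M) * ⟨C.x, hxM⟩ * (u : M)⁻¹ = (b : M) := congrArg Subtype.val hu
      refine ⟨hu' ▸ (Subgroup.mem_normalizer_iff.mp u.2 _).mp hxR, fun e => ?_⟩
      rw [e, conj_eq_one_iff] at hu'
      have h' := congrArg (fun t : M => orderOf (t : G)) hu'
      simp only [C.hx, OneMemClass.coe_one, orderOf_one] at h'
      exact C.hr.one_lt.ne' h'
    · rintro ⟨hb, hb1⟩
      obtain ⟨g, hg⟩ := isConj_iff.mp (hconj _ hb hb1)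
      haveI := hcomm
      obtain ⟨n, hn, hn'⟩ := R0.conj_eq_normalizer_conj_of_mem (⟨C.x, hxM⟩ : M) g⁻¹ hxR
        (by rw [inv_inv, hg]; exact hb)
      refine isConj_iff.mpr ⟨⟨n⁻¹, inv_mem hn⟩, Subtype.ext ?_⟩
      show n⁻¹ * (⟨C.x, hxM⟩ : M) * n⁻¹⁻¹ = b
      rw [inv_inv, ← hn', inv_inv, hg]
  have hsize : Nat.card {b : N // IsConj xN b} + 1 = Nat.card (R0 : Subgroup M) := by
    haveI := Fintype.ofFinite (R0 : Subgroup M)
    have e : {b : N // IsConj xN b} ≃ {b : (R0 : Subgroup M) // b ≠ 1} :=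
      { toFun := fun b => ⟨⟨b.1, ((hclass b.1).mp b.2).1⟩, fun h =>
          ((hclass b.1).mp b.2).2 (congrArg Subtype.val h)⟩
        invFun := fun b => ⟨⟨b.1, Subgroup.le_normalizer b.1.2⟩, (hclass _).mpr ⟨b.1.2, fun h =>
          b.2 (Subtype.ext h)⟩⟩
        left_inv := fun b => rfl
        right_inv := fun b => rfl }
    rw [Nat.card_congr e, Nat.card_eq_fintype_card, Nat.card_eq_fintype_card, Fintype.card_subtype_compl,
      Fintype.card_subtype_eq]
    have := Fintype.card_pos (α := (R0 : Subgroup M))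
    omega
  have hdvd : Nat.card {b : N // IsConj xN b} ∣ ((R0 : Subgroup M).subgroupOf N).index := by
    refine card_conjugates_dvd xN fun b hb => Subgroup.mem_centralizer_singleton_iff.mpr (Subtype.ext ?_)
    show (b : M) * ⟨C.x, hxM⟩ = ⟨C.x, hxM⟩ * (b : M)
    exact congrArg Subtype.val (hcomm.is_comm.comm ⟨_, Subgroup.mem_subgroupOf.mp hb⟩ ⟨_, hxR⟩)
  have hdvd' : Nat.card {b : N // IsConj xN b} ∣ (R0 : Subgroup M).index := by
    refine hdvd.trans ?_
    rw [← Subgroup.relIndex]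
    exact Subgroup.relIndex_dvd_index_of_le Subgroup.le_normalizer
  obtain ⟨c, hc⟩ := IsPGroup.iff_card.mp R0.2
  have two_pow : ∀ {n : ℕ}, n ≠ 0 → n ∣ (R0 : Subgroup M).index → ∃ s, n = 2 ^ s := fun {n} hn hd => by
    refine ⟨n.primeFactorsList.length, Nat.eq_prime_pow_of_unique_prime_dvd hn fun {d} hp hdd => ?_⟩
    rcases hMp d hp (hdd.trans (hd.trans (Subgroup.index_dvd_card _))) with h | h
    · exact h
    · exact absurd ((h ▸ hdd).trans hd) R0.not_dvd_index
  obtain ⟨s, hs⟩ := two_pow Subgroup.index_ne_zero_of_finite dvd_rfl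
  haveI : Nonempty {b : N // IsConj xN b} := ⟨⟨xN, IsConj.refl xN⟩⟩
  obtain ⟨s', hs'⟩ := two_pow Nat.card_pos.ne' hdvd'
  refine ⟨s, c, ?_, two_pow_sub (s := s') C.r_three_or_five (by rw [← hc, ← hsize, hs'])⟩
  rw [← (R0 : Subgroup M).card_mul_index, hc, hs, mul_comm]

/-- The two outcomes when no further prime occurs outside `m`. -/
theorem smallU_or_colBound (hpr : ∀ p : ℕ, p.Prime → p ∣ Nat.card G → ¬ p ∣ C.S.m → p = 2 ∨ p = C.r) :
    C.S.SmallU C.r ∨ C.S.ColBound C.r := by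
  classical
  haveI : Fact C.r.Prime := ⟨C.hr⟩
  haveI : Fact (Nat.Prime 2) := ⟨Nat.prime_two⟩
  set H := Subgroup.centralizer ({C.x} : Set G) with hH
  have hHp : ∀ p : ℕ, p.Prime → p ∣ Nat.card H → p = 2 ∨ p = C.r := fun p hp hd => hpr p hp
    (hd.trans (Subgroup.card_subgroup_dvd_card H)) fun hm =>
      hp.one_lt.ne' (Nat.eq_one_of_dvd_coprimes C.x_mem_R.centralizer_coprime hd hm)
  obtain ⟨PG, hPG⟩ := (IsPGroup.of_card (G := Subgroup.zpowers C.x) (n := 1)
    (by rw [Nat.card_zpowers, C.hx, pow_one])).exists_le_sylow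
  have hPGH : (PG : Subgroup G) ≤ H := fun q hq => Subgroup.mem_centralizer_singleton_iff.mpr
    (C.comm_rgroup PG.2 q hq C.x (hPG (Subgroup.mem_zpowers _)))
  obtain ⟨P⟩ : Nonempty (Sylow C.r H) := inferInstance
  have hPc : IsMulCommutative (P : Subgroup H) := ⟨⟨fun a b => Subtype.ext (Subtype.ext
    (C.comm_rgroup (P.2.map H.subtype) _ ⟨_, a.2, rfl⟩ _ ⟨_, b.2, rfl⟩))⟩⟩
  rcases normal_or_class_size C.hr2 hHp P hPc C.iD_order C.one_class_D with hnorm | ⟨e, k, he, hk⟩
  · right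
    haveI := hnorm
    set π := QuotientGroup.mk' (P : Subgroup H)
    obtain ⟨n, hn⟩ := IsPGroup.iff_card.mp P.2
    set o := Nat.card (P : Subgroup H) with ho
    have hoo : o % 2 = 1 := by rw [hn, Nat.pow_mod, C.r_odd, one_pow, Nat.one_mod]
    have lift : ∀ t : H ⧸ (P : Subgroup H), t ^ 8 = 1 → ∃ w : H, π w = t ∧ orderOf w = orderOf t := by
      intro t ht
      obtain ⟨w, rfl⟩ := QuotientGroup.mk'_surjective _ t
      refine ⟨w ^ (o * o), ?_, ?_⟩
      · rw [map_pow, pow_congr_exp (w := 1) ht ?_, pow_one]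
        have h : o * o % 8 = 1 := by
          rw [Nat.mul_mod]
          rcases (by omega : o % 8 = 1 ∨ o % 8 = 3 ∨ o % 8 = 5 ∨ o % 8 = 7) with h | h | h | h <;> rw [h]
        rw [Nat.ModEq, h]
      · have h1 : (w ^ (o * o)) ^ orderOf (π w) = 1 := by
          have hm : w ^ orderOf (π w) ∈ (P : Subgroup H) := by
            rw [← QuotientGroup.eq_one_iff]
            exact (map_pow π w _).trans (pow_orderOf_eq_one _)
          rw [← pow_mul, mul_comm, pow_mul, pow_mul]
          have := congrArg Subtype.val (pow_card_eq_one' (x := (⟨_, hm⟩ : (P : Subgroup H))))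
          rw [← ho] at this
          rw [show ((w ^ orderOf (π w)) ^ o) = 1 from this, one_pow]
        refine Nat.dvd_antisymm (orderOf_dvd_of_pow_eq_one h1) ?_
        rw [show π w = π (w ^ (o * o)) by
          rw [map_pow, pow_congr_exp (w := 1) ht ?_, pow_one]
          have h : o * o % 8 = 1 := by
            rw [Nat.mul_mod]
            rcases (by omega : o % 8 = 1 ∨ o % 8 = 3 ∨ o % 8 = 5 ∨ o % 8 = 7) with h | h | h | h <;> rw [h]
          rw [Nat.ModEq, h]]
        exact orderOf_map_dvd _ _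
    have hT2 : IsPGroup 2 (H ⧸ (P : Subgroup H)) := by
      refine IsPGroup.of_card (n := (P : Subgroup H).index.primeFactorsList.length) ?_
      rw [← Subgroup.index_eq_card]
      refine Nat.eq_prime_pow_of_unique_prime_dvd Subgroup.index_ne_zero_of_finite fun {d} hd hdd => ?_
      rcases hHp d hd (hdd.trans (Subgroup.index_dvd_card _)) with h | h
      · exact h
      · exact absurd (h ▸ hdd) P.not_dvd_index
    have ord2 : ∀ t : H ⧸ (P : Subgroup H), t * t = 1 → t ≠ 1 → orderOf t = 2 := fun t h h1 =>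
      orderOf_eq_prime (by rw [pow_two]; exact h) h1
    have hiso : ∀ t : H ⧸ (P : Subgroup H), orderOf t = 2 → IsConj (π C.iD) t := by
      intro t ht
      obtain ⟨w, hw, hwo⟩ := lift t (by rw [← orderOf_dvd_iff_pow_eq_one, ht]; norm_num)
      exact hw ▸ π.map_isConj (C.one_class_D w (hwo.trans ht))
    have hzne : π C.iD ≠ 1 := by
      intro h
      have hm : C.iD ∈ (P : Subgroup H) := (QuotientGroup.eq_one_iff _).mp h
      have := Subgroup.orderOf_dvd_natCard _ hm
      rw [C.iD_order, ← ho] at this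
      omega
    have hz2 : π C.iD * π C.iD = 1 := by
      rw [← map_mul, ← pow_two, show C.iD ^ 2 = 1 by rw [← C.iD_order, pow_orderOf_eq_one], map_one]
    have hu : ∀ t : H ⧸ (P : Subgroup H), t * t = 1 → t = 1 ∨ t = π C.iD := by
      haveI : Nontrivial (H ⧸ (P : Subgroup H)) := ⟨⟨π C.iD, 1, hzne⟩⟩
      haveI := hT2.center_nontrivial
      obtain ⟨n', hn0', hn'⟩ := (hT2.to_subgroup (Subgroup.center _)).nontrivial_iff_card.mp inferInstance
      obtain ⟨d, hd⟩ := exists_prime_orderOf_dvd_card' (G := Subgroup.center (H ⧸ (P : Subgroup H))) 2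
        (hn' ▸ dvd_pow_self 2 hn0'.ne')
      have hd2 : orderOf (d : H ⧸ (P : Subgroup H)) = 2 := by rw [Subgroup.orderOf_coe, hd]
      intro t ht
      by_cases h1 : t = 1
      · exact Or.inl h1
      right
      have key : ∀ u, orderOf u = 2 → u = (d : H ⧸ (P : Subgroup H)) := by
        intro u hu'
        obtain ⟨g, hg⟩ := isConj_iff.mp ((hiso _ hd2).symm.trans (hiso u hu'))
        rw [← hg, (Subgroup.mem_center_iff.mp d.2 g), mul_inv_cancel_right]
      rw [key t (ord2 t ht h1), key _ (ord2 _ hz2 hzne)]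
    have h4 : ∀ t : H ⧸ (P : Subgroup H), t * t * (t * t) = 1 := by
      intro t
      obtain ⟨a, ha⟩ := hT2 t
      obtain ⟨b, -, hb⟩ := (Nat.dvd_prime_pow Nat.prime_two).mp (orderOf_dvd_of_pow_eq_one ha)
      rcases Nat.lt_or_ge b 3 with hb3 | hb3
      · rw [← pow_two, ← pow_two, ← pow_mul, ← orderOf_dvd_iff_pow_eq_one, hb]
        exact (pow_dvd_pow 2 (Nat.le_of_lt_succ hb3)).trans (by norm_num)
      · exfalso
        have h8 : orderOf (t ^ 2 ^ (b - 3)) = 8 := by
          rw [orderOf_pow' t (pow_ne_zero _ two_ne_zero), hb, Nat.gcd_eq_right (pow_dvd_pow 2 (by omega)),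
            Nat.pow_div (by omega) (by norm_num), show b - (b - 3) = 3 by omega]
        obtain ⟨w, -, hwo⟩ := lift (t ^ 2 ^ (b - 3)) (by rw [← h8, pow_orderOf_eq_one])
        have hw8 : orderOf (w : G) = 8 := by rw [Subgroup.orderOf_coe, hwo, h8]
        obtain ⟨e8, hR8⟩ := C.mul_x_order (w := (w : G)) (a := 3) (by rw [hw8]; norm_num) (C.comm_of_mem w.2)
        have hr3 := C.r3
        have hro := C.r_odd
        refine C.six_false (C.S.inR_of_two_pow (y := (w : G)) (a := 2) (by rw [hw8]; norm_num)) hR8 ?_ ?_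
          (by rw [hw8, e8]; omega)
        · simp only [hw8, Set.mem_insert_iff, Set.mem_singleton_iff]; omega
        · simp only [e8, Set.mem_insert_iff, Set.mem_singleton_iff]; omega
    have hcard := card_eq_two hzne hz2 hu h4 fun t t' ht ht' => by
      have o4 : ∀ {u : H ⧸ (P : Subgroup H)}, u * u ≠ 1 → orderOf u = 4 := fun {u} hne =>
        orderOf_eq_prime_pow (p := 2) (n := 1) (by rwa [pow_one, pow_two])
          (by rw [show u ^ 2 ^ (1 + 1) = u * u * (u * u) by simp [pow_succ, mul_assoc]]; exact h4 u)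
      obtain ⟨w, hw, hwo⟩ := lift t (by rw [← orderOf_dvd_iff_pow_eq_one, o4 ht]; norm_num)
      obtain ⟨w', hw', hwo'⟩ := lift t' (by rw [← orderOf_dvd_iff_pow_eq_one, o4 ht']; norm_num)
      have g4 : ∀ {u : H}, orderOf u = 4 → orderOf (u : G) = 4 := fun h => by rwa [Subgroup.orderOf_coe]
      have hr3 := C.r3
      have hro := C.r_odd
      obtain ⟨e1, R1⟩ := C.mul_x_order (w := (w : G)) (a := 2) (by rw [g4 (hwo.trans (o4 ht))]; norm_num)
        (C.comm_of_mem w.2)
      obtain ⟨e2, R2⟩ := C.mul_x_order (w := (w' : G)) (a := 2) (by rw [g4 (hwo'.trans (o4 ht'))]; norm_num)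
        (C.comm_of_mem w'.2)
      have k1 : ¬ C.Known ((w : G) * C.x) := C.not_known_of_order (by omega) (by omega) (by omega) (by omega)
      have k2 : ¬ C.Known ((w' : G) * C.x) := C.not_known_of_order (by omega) (by omega) (by omega) (by omega)
      obtain ⟨g, hg⟩ := C.split_conj (pow_four_of_order (Or.inr (g4 (hwo.trans (o4 ht)))))
        (pow_four_of_order (Or.inr (g4 (hwo'.trans (o4 ht'))))) (C.comm_of_mem w.2) (C.comm_of_mem w'.2)
        (C.unknown_conj R1 k1 R2 k2)
      rw [← hw, ← hw']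
      exact π.map_isConj (isConj_iff.mpr ⟨g, Subtype.ext hg⟩)
    have hHcard : Nat.card H = 2 * C.r ^ n := by
      rw [Subgroup.card_eq_card_quotient_mul_card_subgroup (P : Subgroup H), hcard, ← ho, hn]
    obtain ⟨s, c, hM, hb⟩ := C.cent_i_bound hpr
    set K := Subgroup.centralizer ({C.z} : Set G) with hK
    have hzr : C.z ^ C.r = C.i := by
      rw [z, Commute.mul_pow C.hc, C.x_cube, mul_one, pow_congr_exp (w := 1) (n := 2)
        (by rw [← C.hi, pow_orderOf_eq_one]) (by simp [Nat.ModEq, C.r_odd]), pow_one]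
    have hKi : ∀ u ∈ K, u * C.i = C.i * u := fun u hu => by
      rw [← hzr]
      exact ((show Commute u C.z from Subgroup.mem_centralizer_singleton_iff.mp hu).pow_right _).eq
    have hKM : K ≤ Subgroup.centralizer ({C.i} : Set G) := fun u hu =>
      Subgroup.mem_centralizer_singleton_iff.mpr (hKi u hu)
    have hKH : K ≤ H := fun u hu => Subgroup.mem_centralizer_singleton_iff.mpr (by
      have h1 := Subgroup.mem_centralizer_singleton_iff.mp hu
      rw [show C.x = C.i⁻¹ * C.z by rw [z, inv_mul_cancel_left]]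
      exact ((show Commute u C.i from hKi u hu).inv_right.mul_right h1).eq)
    have hd1 : Nat.card K ∣ 2 * C.r ^ n := hHcard ▸ Subgroup.card_dvd_of_le hKH
    have hd2 : Nat.card K ∣ 2 ^ s * C.r ^ c := hM ▸ Subgroup.card_dvd_of_le hKM
    have hKd : Nat.card K ∣ 2 * C.r ^ c := by
      rw [Nat.dvd_iff_prime_pow_dvd_dvd]
      intro p a hp hpa
      rcases Nat.eq_zero_or_pos a with rfl | ha
      · simp
      have cop : (2 : ℕ).Coprime C.r := Nat.coprime_two_left.mpr (C.hr.odd_of_ne_two C.hr2)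
      by_cases hp2 : p = 2
      · exact (((hp2 ▸ cop).pow a n).dvd_of_dvd_mul_right (hpa.trans hd1)).trans (dvd_mul_right _ _)
      · exact ((((Nat.coprime_primes hp Nat.prime_two).mpr hp2).pow a s).dvd_of_dvd_mul_left
          (hpa.trans hd2)).trans (dvd_mul_left _ _)
    refine ⟨C.z, C.inR_z, fun j hj => C.z_conj ?_, ?_⟩
    · rw [(Nat.coprime_comm.mp hj).orderOf_pow, C.hz]
    · refine (Nat.le_of_dvd (Nat.mul_pos two_pos (pow_pos C.hr.pos c)) hKd).trans ?_
      rcases hb with ⟨e3, hle⟩ | ⟨e5, hle⟩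
      · rw [colM, if_pos e3]; omega
      · rw [colM, if_neg (by omega)]; omega
  · left
    intro j hj
    rw [C.card_cent_invol hj]
    set c := Nat.card ↥(Subgroup.centralizer ({C.i} : Set G)) with hc
    set Nc := Nat.card {b : H // IsConj C.iD b} with hNc
    have hN3 : C.r = 3 ∧ Nc ∣ 3 ∨ Nc = 1 := by
      rcases mersenne_pow C.r_three_or_five (e := e) (k := k) (by rw [he, hk]) with h | h
      · exact Or.inl ⟨h.1, by rw [hk]; exact h.2⟩
      · exact Or.inr (by rw [hk]; exact h)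
    have hcop : c.Coprime C.S.m := (C.inR_two C.hi).centralizer_coprime
    have hmd : C.S.m ∣ Nat.card G := by
      have hn : ∀ q, C.S.n q ∣ Nat.card G := fun q => Subgroup.card_subgroup_dvd_card _
      exact Nat.Coprime.mul_dvd_of_dvd_of_dvd
        (Nat.Coprime.mul_left (C.S.coprime (by decide)) (C.S.coprime (by decide)))
        ((C.S.coprime (by decide)).mul_dvd_of_dvd_of_dvd (hn 0) (hn 1)) (hn 2)
    obtain ⟨w, hw⟩ : C.S.m * c ∣ Nat.card G :=
      hcop.symm.mul_dvd_of_dvd_of_dvd hmd (Subgroup.card_subgroup_dvd_card _)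
    have hfull : Nat.card G ∣ C.S.m * Nc * c := by
      rw [Nat.dvd_iff_prime_pow_dvd_dvd]
      intro p a hp hpa
      haveI : Fact p.Prime := ⟨hp⟩
      rcases Nat.eq_zero_or_pos a with rfl | ha
      · simp
      have hpd : p ∣ Nat.card G := (dvd_pow_self p ha.ne').trans hpa
      by_cases hpm : p ∣ C.S.m
      · obtain ⟨q, hq⟩ := C.S.exists_n_of_dvd_m hp hpm
        obtain ⟨P'⟩ : Nonempty (Sylow p G) := inferInstance
        refine dvd_mul_of_dvd_left (dvd_mul_of_dvd_left ((?_ : p ^ a ∣ C.S.n q).trans (C.S.n_dvd_m q)) _) _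
        obtain ⟨Q, hQc⟩ : ∃ Q : Subgroup G, IsPGroup p Q ∧ p ^ a ∣ Nat.card Q :=
          ⟨P', P'.2, P'.pow_dvd_card_of_pow_dvd_card hpa⟩
        haveI : Nontrivial Q := Finite.one_lt_card_iff_nontrivial.mp (lt_of_lt_of_le
          (Nat.one_lt_pow ha.ne' hp.one_lt) (Nat.le_of_dvd Nat.card_pos hQc.2))
        haveI := hQc.1.center_nontrivial
        obtain ⟨⟨d, hdZ⟩, hd1⟩ := exists_ne (1 : Subgroup.center Q)
        have hd1' : (d : G) ≠ 1 := fun h => hd1 (Subtype.ext (Subtype.ext h))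
        obtain ⟨b, hb⟩ := hQc.1 d
        obtain ⟨b', -, hb'⟩ := (Nat.dvd_prime_pow hp).mp (orderOf_dvd_of_pow_eq_one
          (show (d : G) ^ p ^ b = 1 from congrArg Subtype.val hb))
        obtain ⟨g, hg⟩ := C.S.conj_into hp q hq hb'
        have : Q.map (MulAut.conj g).toMonoidHom ≤ C.S.A q := by
          rintro _ ⟨u, hu, rfl⟩
          exact C.S.conj_mem_of_comm q hg hd1'
            (congrArg Subtype.val (Subgroup.mem_center_iff.mp hdZ ⟨u, hu⟩))
        have := Subgroup.card_dvd_of_le this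
        rw [Subgroup.card_map_of_injective (MulAut.conj g).injective] at this
        exact hQc.2.trans this
      · rcases hpr p hp hpd hpm with rfl | rfl
        · refine dvd_mul_of_dvd_right ?_ _
          obtain ⟨P'⟩ : Nonempty (Sylow 2 G) := inferInstance
          haveI : Nontrivial (P' : Subgroup G) := Finite.one_lt_card_iff_nontrivial.mp (lt_of_lt_of_le
            (Nat.one_lt_pow ha.ne' Nat.one_lt_two) (Nat.le_of_dvd Nat.card_pos (P'.pow_dvd_card_of_pow_dvd_card hpa)))
          haveI := P'.2.center_nontrivial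
          obtain ⟨n', hn0', hn'⟩ := (P'.2.to_subgroup (Subgroup.center _)).nontrivial_iff_card.mp inferInstance
          obtain ⟨d, hd⟩ := exists_prime_orderOf_dvd_card' (G := Subgroup.center (P' : Subgroup G)) 2
            (hn' ▸ dvd_pow_self 2 hn0'.ne')
          have hd2 : orderOf ((d : (P' : Subgroup G)) : G) = 2 := by
            rw [Subgroup.orderOf_coe, Subgroup.orderOf_coe, hd]
          rw [hc, ← C.card_cent_invol hd2]
          refine (P'.pow_dvd_card_of_pow_dvd_card hpa).trans (Subgroup.card_dvd_of_le fun u hu => ?_)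
          exact Subgroup.mem_centralizer_singleton_iff.mpr
            (congrArg Subtype.val (Subgroup.mem_center_iff.mp d.2 ⟨u, hu⟩))
        · have h1 := (PG.pow_dvd_card_of_pow_dvd_card hpa).trans (Subgroup.card_dvd_of_le hPGH)
          rw [← card_conjugates C.iD] at h1
          refine h1.trans ?_
          rw [mul_assoc]
          refine dvd_mul_of_dvd_right (mul_dvd_mul_left Nc ?_) _
          rw [← Subgroup.card_map_of_injective H.subtype_injective]
          refine Subgroup.card_dvd_of_le ?_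
          rintro _ ⟨u, hu, rfl⟩
          exact Subgroup.mem_centralizer_singleton_iff.mpr
            (congrArg Subtype.val (Subgroup.mem_centralizer_singleton_iff.mp hu))
    have hw3 : w ∣ Nc := by
      rw [hw, mul_right_comm C.S.m Nc c] at hfull
      exact Nat.dvd_of_mul_dvd_mul_left (Nat.mul_pos C.S.m_pos Nat.card_pos) hfull
    refine ⟨w, ?_, by rw [hw]; ring⟩
    rcases hN3 with ⟨h3, hd⟩ | h
    · exact Or.inl ⟨h3, hw3.trans hd⟩
    · exact Or.inr (Nat.dvd_one.mp (h ▸ hw3))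

end LCtx

end CfsgLib.SuzukiSC
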