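import Cfsg.Agent.Lib.SuzukiSC.Table
import Cfsg.Agent.Lib.SuzukiSC.Local
import Cfsg.Agent.Lib.SuzukiSC.Arith

/-!
# No involution centralises an element of odd prime order

The column data (`ColData`) and the shapes of the table contradict the two outcomes of the local lemma.
-/

set_option autoImplicit false
set_option linter.style.haveILetI false
set_option linter.unusedSectionVars false

namespace CfsgLib.SuzukiSC

open Cfsg CfsgLib

variable {G : Type*} [Group G] [Finite G]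

/-- What the columns of the table give. -/
structure ColData {S : Setting G} (T : Table S) : Prop where
  dvd_F : T.bigF ∣ (Nat.card G : ℤ)
  dvd_E : 1 + T.bigF ∣ (Nat.card G : ℤ)
  lt_card : (S.t 0 : ℤ) * (1 + T.bigF) ^ 2 < (Nat.card G : ℤ)
  modEq : (S.n 0 : ℤ) ∣ T.bigF - 1
  one : OneInvolClass G
  invol : ∀ x : G, orderOf x = 2 → ∃ P : ℤ,
    (S.n 0 : ℤ) * (Nat.card ↥(Subgroup.centralizer ({x} : Set G)) : ℤ) ^ 2 * T.bigF * (1 + T.bigF) =
      (Nat.card G : ℤ) * (T.bigF - P) ^ 2 ∧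
    1 + P ^ 2 + (S.t 0 : ℤ) * (1 + P) ^ 2 ≤ Nat.card ↥(Subgroup.centralizer ({x} : Set G))
  std : T.Std → ∀ y : G, S.InR y → (∀ j : ℕ, j.Coprime (orderOf y) → IsConj y (y ^ j)) →
    ∃ P X2 X3 : ℤ, 1 + P ^ 2 + (S.t 0 : ℤ) * (1 + P) ^ 2 + (S.t 1 : ℤ) * X2 ^ 2 +
        (S.t 2 : ℤ) * X3 ^ 2 ≤ Nat.card ↥(Subgroup.centralizer ({y} : Set G)) ∧
      2 - 2 * P + T.s 1 * X2 + T.s 2 * X3 = 0

namespace Setting

variable (S : Setting G)

theorem t_one_eq : (S.n 0 - 1) / 2 = S.t 0 := rfl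

theorem t_two_eq : (S.n 1 - 1) / 4 = S.t 1 := rfl

theorem t_three_eq : (S.n 2 - 1) / 4 = S.t 2 := rfl

theorem mod_four {i : Fin 3} (hi : i ≠ 0) : S.n i % 4 = 1 := by
  have h := S.n_eq i
  rw [show eIdx i = 4 by fin_cases i <;> simp [eIdx] at hi ⊢] at h
  omega

theorem not_mixed [IsSimpleGroup G] (hG : ¬ IsMulCommutative G) (D : ∀ i, FamData S i)
    (hcol : ∀ T : Table S, ColData T) : ¬ Mixed G := by
  intro hmix
  obtain ⟨T, h5, h4'⟩ := Setting.exists_shape hG D
  have C := hcol T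
  obtain ⟨r, hr, hrm, h4, hpr, hlocal⟩ := local_cases S h5 C.one S.exists_four' hmix
  obtain ⟨hmk, hshape⟩ := h4' h4
  obtain ⟨x, y', hx, -⟩ := hmix
  set c := Nat.card ↥(Subgroup.centralizer ({x} : Set G)) with hc
  obtain ⟨P, heq, hcc⟩ := C.invol x hx
  have hcl := S.sq_centralizer_le C.one hx
  have hk3 := S.k_le
  have hcong := S.congruence
  have hrn : ∀ i, ¬ r ∣ S.n i := fun i h => hrm (h.trans (S.n_dvd_m i))
  have q2 := S.mod_four (i := 1) (by decide)
  have q3 := S.mod_four (i := 2) (by decide)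
  have l2 : 5 < S.n 1 := S.six 1 (by decide)
  have l3 : 5 < S.n 2 := S.six 2 (by decide)
  have h12 := S.coprime (i := 0) (j := 1) (by decide)
  have h13 := S.coprime (i := 0) (j := 2) (by decide)
  have h23 := S.coprime (i := 1) (j := 2) (by decide)
  rw [← hc] at heq hcc hcl
  rw [S.card_eq] at heq hcl
  push_cast at heq
  have hFg := C.dvd_F
  have hEg := C.dvd_E
  have hlt := C.lt_card
  rw [S.card_eq] at hFg hEg hlt
  simp only [Setting.m] at hmk hk3 hcong hcl heq hFg hEg hlt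
  rcases hlocal with hu | ⟨y, hy, hrat, hC⟩
  · obtain ⟨u, hu, hg⟩ := hu x hx
    refine small_u_false hr (S.n_odd 0) S.five q2 l2 q3 l3 h23 (hrn 1) (hrn 2) hu
      (k := S.k) (c := c) ?_ hmk (by rw [S.t_one_eq, S.t_two_eq, S.t_three_eq]; exact hcl)
    refine Nat.eq_of_mul_eq_mul_right S.m_pos ?_
    rw [← S.card_eq, hg, ← hc]
    ring
  · have ht : ∀ i : Fin 3, i ≠ 0 → r = 3 → 3 ≤ S.t i := fun i hi h3 => by
      have h := S.n_eq i
      rw [show eIdx i = 4 by fin_cases i <;> simp [eIdx] at hi ⊢] at h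
      have := S.t_two i
      have hn := hrn i
      rw [h3] at hn
      omega
    rcases hshape with ⟨hstd, hF2, hF3⟩ | ⟨h0, hsw⟩
    · obtain ⟨Py, X2, X3, hb, he⟩ := C.std hstd y hy hrat
      have hb' := std_col (t1 := S.t 0) (t2 := S.t 1) (t3 := S.t 2) hstd.1 hstd.2.1 ?_ hb he
      · have h49 : S.n 0 ≤ 49 := by
          have h := S.n_eq 0
          rw [show eIdx 0 = 2 by simp [eIdx]] at h
          omega
        refine std_false (k := S.k) (c := c) (P := P) (S.n_odd 0) S.five h49 q2 l2 q3 l3 h12 h13 h23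
          hmk hk3 hcong C.modEq hF2 hF3 hFg ?_ ?_ ?_ ?_
        · rw [S.t_one_eq]; exact hlt
        · push_cast at heq ⊢; linear_combination heq
        · rw [S.t_one_eq, S.t_two_eq, S.t_three_eq]; exact hcl
        · rw [S.t_one_eq]; exact hcc
      · rcases hr with rfl | rfl
        · exact Or.inl ⟨by simpa [colM] using hC, ht 1 (by decide) rfl, ht 2 (by decide) rfl⟩
        · exact Or.inr ⟨by simpa [colM] using hC, S.t_two 1, S.t_two 2⟩
    · obtain rfl : r = 3 := by
        rcases hr with h | h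
        · exact h
        · exact absurd (h ▸ h0.symm ▸ dvd_rfl : r ∣ S.n 0) (hrn 0)
      have ht0 : S.t 0 = 2 := by rw [← S.t_one_eq, h0]
      rw [ht0] at hcl hlt hcc
      rw [h0] at hmk hk3 hcong hcl heq hFg hEg hlt h12 h13
      have hF1 : (5 : ℤ) ∣ T.bigF - 1 := by have := C.modEq; rwa [h0] at this
      have hp : ∀ p : ℕ, p.Prime → p ∣ S.k * (5 * S.n 1 * S.n 2) →
          p ∣ 5 * S.n 1 * S.n 2 ∨ p ∈ ({2, 3, 5, 7, 11, 13} : Finset ℕ) := fun p hp h => by
        have := hpr p hp (by rw [S.card_eq, Setting.m, h0]; exact h)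
        rwa [Setting.m, h0] at this
      rcases hsw with ⟨hF2, hF3⟩ | ⟨hF3, hF2⟩
      · refine spc_false (k := S.k) (c := c) (P := P) q2 l2 q3 l3 h12 h13 h23 (hrn 1) (hrn 2)
          hmk hk3 hcong hF1 hF2 hF3 hFg hEg ?_ ?_ ?_ hcc hp
        · exact_mod_cast hlt
        · push_cast at heq ⊢; linear_combination heq
        · rw [S.t_two_eq, S.t_three_eq, ← add_assoc]; exact hcl
      · have e : 5 * S.n 2 * S.n 1 = 5 * S.n 1 * S.n 2 := by ring
        refine spc_false (k := S.k) (c := c) (P := P) q3 l3 q2 l2 h13 h12 h23.symm (hrn 2) (hrn 1)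
          (e ▸ hmk) (e ▸ hk3) ?_ hF1 hF3 hF2 (e ▸ hFg) (e ▸ hEg) ?_ ?_ ?_ hcc (e ▸ hp)
        · rw [e]
          have : bn 5 (S.n 2) (S.n 1) = bn 5 (S.n 1) (S.n 2) := by simp only [bn]; ring
          rw [this]; exact hcong
        · rw [e]; exact_mod_cast hlt
        · push_cast at heq ⊢; linear_combination heq
        · rw [S.t_two_eq, S.t_three_eq, e, add_comm (S.t 2), ← add_assoc]; exact hcl

end Setting

end CfsgLib.SuzukiSC
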