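import Mathlib

/-!
# The integer case analysis behind the partial character table
-/

set_option autoImplicit false

namespace CfsgLib.SuzukiSC

open Finset

/-- The possible sums of squares off a family of index two. -/
theorem two_cases {t : ℕ} (ht : 2 ≤ t) {e y : ℤ} (he : e = 1 ∨ e = -1)
    (h1 : 1 ≤ 2 + 2 * (e * y) - t * y ^ 2) :
    2 + 2 * (e * y) - t * y ^ 2 = 1 ∨
      (2 + 2 * (e * y) - t * y ^ 2 = 2 ∧ (-e + t * y = 1 ∨ -e + t * y = -1)) := by
  have ht' : (2 : ℤ) ≤ t := by exact_mod_cast ht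
  have hy : e * y = 0 ∨ e * y = 1 := by
    have hsq : (e * y) ^ 2 = y ^ 2 := by rcases he with rfl | rfl <;> ring
    have : e * y < 2 ∧ -1 < e * y := by constructor <;> nlinarith [sq_nonneg (e * y), sq_nonneg y]
    omega
  rcases he with rfl | rfl
  · rcases hy with h | h
    · obtain rfl : y = 0 := by linarith
      right; norm_num
    · obtain rfl : y = 1 := by linarith
      rcases eq_or_lt_of_le ht' with h' | h'
      · right; rw [← h']; norm_num
      · left; nlinarith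
  · rcases hy with h | h
    · obtain rfl : y = 0 := by linarith
      right; norm_num
    · obtain rfl : y = -1 := by linarith
      rcases eq_or_lt_of_le ht' with h' | h'
      · right; rw [← h']; norm_num
      · left; nlinarith

/-- The possible sums of squares off a family of index four. -/
theorem four_cases {t : ℕ} (ht : 2 ≤ t) {e y : ℤ} (he : e = 1 ∨ e = -1)
    (h1 : 1 ≤ 4 + 2 * (e * y) - t * y ^ 2) :
    4 + 2 * (e * y) - t * y ^ 2 ≤ 4 ∧
      (4 + 2 * (e * y) - t * y ^ 2 = 4 ∨ t = 2 → -e + t * y = 1 ∨ -e + t * y = -1) := by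
  have ht' : (2 : ℤ) ≤ t := by exact_mod_cast ht
  have hy : e * y = 0 ∨ e * y = 1 := by
    have hsq : (e * y) ^ 2 = y ^ 2 := by rcases he with rfl | rfl <;> ring
    have : e * y < 2 ∧ -1 < e * y := by constructor <;> nlinarith [sq_nonneg (e * y), sq_nonneg y]
    omega
  rcases he with rfl | rfl
  · rcases hy with h | h
    · obtain rfl : y = 0 := by linarith
      norm_num
    · obtain rfl : y = 1 := by linarith
      refine ⟨by linarith, ?_⟩
      rintro (h | rfl)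
      · left; linarith
      · norm_num
  · rcases hy with h | h
    · obtain rfl : y = 0 := by linarith
      norm_num
    · obtain rfl : y = -1 := by linarith
      refine ⟨by nlinarith, ?_⟩
      rintro (h | rfl)
      · right; linarith
      · norm_num

theorem exists_unit_of_sum_sq_one {ι : Type*} (s : Finset ι) (f : ι → ℤ)
    (h : ∑ x ∈ s, f x ^ 2 = 1) :
    ∃ a ∈ s, (f a = 1 ∨ f a = -1) ∧ ∀ x ∈ s, x ≠ a → f x = 0 := by
  classical
  obtain ⟨a, ha, hne⟩ := exists_ne_zero_of_sum_ne_zero (h.symm ▸ (one_ne_zero : (1 : ℤ) ≠ 0))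
  have hs : f a ^ 2 + ∑ x ∈ s.erase a, f x ^ 2 = 1 := by
    rw [add_sum_erase s (fun x => f x ^ 2) ha, h]
  have h1 : 1 ≤ f a ^ 2 := (sq_nonneg _).lt_of_ne (Ne.symm hne)
  have h2 : 0 ≤ ∑ x ∈ s.erase a, f x ^ 2 := sum_nonneg fun x _ => sq_nonneg _
  refine ⟨a, ha, sq_eq_one_iff.1 (by omega), fun x hx hxa => ?_⟩
  have h3 := (sum_eq_zero_iff_of_nonneg fun x _ => sq_nonneg (f x)).1
    (show ∑ x ∈ s.erase a, f x ^ 2 = 0 by omega) x (mem_erase.2 ⟨hxa, hx⟩)
  exact sq_eq_zero_iff.1 h3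

theorem card_supp_le {ι : Type*} (s : Finset ι) (f : ι → ℤ) :
    ((s.filter fun x => f x ≠ 0).card : ℤ) ≤ ∑ x ∈ s, f x ^ 2 := by
  rw [card_filter, Nat.cast_sum]
  refine sum_le_sum fun x _ => ?_
  by_cases h : f x = 0
  · simp [h]
  · rw [if_pos h]; exact (sq_nonneg _).lt_of_ne (Ne.symm (pow_ne_zero 2 h))

theorem eq_zero_of_sum_sq {ι : Type*} (s : Finset ι) (f : ι → ℤ) (h : ∑ x ∈ s, f x ^ 2 ≤ 0) :
    ∀ x ∈ s, f x = 0 := fun x hx => sq_eq_zero_iff.1
  ((sum_eq_zero_iff_of_nonneg fun y _ => sq_nonneg (f y)).1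
    (le_antisymm h (sum_nonneg fun y _ => sq_nonneg _)) x hx)

theorem abs_le_one {p : ℤ} (h : p ^ 2 < 4) : p = -1 ∨ p = 0 ∨ p = 1 := by
  have : -2 < p ∧ p < 2 := by constructor <;> nlinarith
  omega

/-- The values of the distinguished character and of the first family on a further subgroup. -/
theorem value_cases {t0 : ℕ} (h0 : 2 ≤ t0) {dl s0 p c : ℤ} (hdl : dl = 1 ∨ dl = -1)
    (hs0 : s0 = 1 ∨ s0 = -1) (hO : 1 + dl * p + s0 * c = 0) (hQ : 1 + p ^ 2 + t0 * c ^ 2 ≤ 4) :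
    (p = -dl ∧ c = 0) ∨ (p = 0 ∧ c = -s0 ∧ t0 ≤ 3) := by
  have h0' : (2 : ℤ) ≤ t0 := by exact_mod_cast h0
  rcases abs_le_one (p := p) (by nlinarith) with rfl | rfl | rfl <;>
    rcases abs_le_one (p := c) (by nlinarith) with rfl | rfl | rfl <;>
    rcases hdl with rfl | rfl <;> rcases hs0 with rfl | rfl <;>
    simp at * <;> omega

/-- The conclusion of the case analysis. -/
structure TableOut {ι : Type*} (s : Finset ι) (t0 : ℕ) (dl p c q d e : ℤ) (sj sk : ℤ)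
    (f g : ι → ℤ) : Prop where
  card_le : (s.filter fun x => f x ≠ 0 ∨ g x ≠ 0).card ≤ 2
  rest : (s.filter fun x => f x ≠ 0 ∨ g x ≠ 0).card ≠ 0 →
    (p = -dl ∧ q = -dl ∧ c = 0 ∧ e = 0 ∧ d = 0 ∧ (sj = 1 ∨ sj = -1) ∧ (sk = 1 ∨ sk = -1) ∧
      ∀ x ∈ s, f x + g x = 0) ∨
    (t0 = 2 ∧ ((p = 0 ∧ q = -dl) ∨ (q = 0 ∧ p = -dl)))

/-- One subgroup of each type. -/
theorem mixed_cases {ι : Type*} (s : Finset ι) {t0 tk : ℕ} (h0 : 2 ≤ t0) (h0' : t0 ≤ 3)
    (hk : 2 ≤ tk) {sj sk d1 d2 : ℤ} (f g : ι → ℤ) (hQj : 1 + t0 + tk * d2 ^ 2 + ∑ x ∈ s, f x ^ 2 ≤ 4)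
    {tj : ℕ} (hj : 2 ≤ tj) (hQk : 2 + tj * d1 ^ 2 + ∑ x ∈ s, g x ^ 2 ≤ 4)
    (hO : 1 + sj * d1 + sk * d2 + ∑ x ∈ s, f x * g x = 0) :
    (s.filter fun x => f x ≠ 0 ∨ g x ≠ 0).card ≤ 2 ∧
      ((s.filter fun x => f x ≠ 0 ∨ g x ≠ 0).card ≠ 0 → t0 = 2) := by
  classical
  have hf : 0 ≤ ∑ x ∈ s, f x ^ 2 := sum_nonneg fun x _ => sq_nonneg _
  have hg : 0 ≤ ∑ x ∈ s, g x ^ 2 := sum_nonneg fun x _ => sq_nonneg _
  have h0z : (2 : ℤ) ≤ t0 := by exact_mod_cast h0
  have hkz : (2 : ℤ) ≤ tk := by exact_mod_cast hk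
  have hjz : (2 : ℤ) ≤ tj := by exact_mod_cast hj
  have hd2 : d2 = 0 := sq_eq_zero_iff.1 (le_antisymm (by nlinarith [sq_nonneg d2]) (sq_nonneg _))
  subst hd2
  have sf := card_supp_le s f
  have sg := card_supp_le s g
  by_cases hd : d1 = 0
  · subst hd
    have hne : ∑ x ∈ s, f x ^ 2 ≠ 0 := fun h => by
      rw [sum_eq_zero (f := fun x => f x * g x) fun x hx => by
        rw [eq_zero_of_sum_sq s f h.le x hx, zero_mul]] at hO
      simp at hO
    have hle : ∑ x ∈ s, f x ^ 2 ≤ 1 := by linarith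
    obtain ⟨a, ha, -, hz⟩ := exists_unit_of_sum_sq_one s f (by omega : _ = (1 : ℤ))
    have hga : g a ≠ 0 := fun h => by
      rw [sum_eq_zero (f := fun x => f x * g x) fun x hx => by
        by_cases hxa : x = a
        · rw [hxa, h, mul_zero]
        · rw [hz x hx hxa, zero_mul]] at hO
      simp at hO
    refine ⟨?_, fun _ => by omega⟩
    have : s.filter (fun x => f x ≠ 0 ∨ g x ≠ 0) ⊆ s.filter fun x => g x ≠ 0 := fun x hx => by
      obtain ⟨hxs, h⟩ := mem_filter.1 hx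
      refine mem_filter.2 ⟨hxs, h.elim (fun hfx => ?_) id⟩
      by_cases hxa : x = a
      · rw [hxa]; exact hga
      · exact absurd (hz x hxs hxa) hfx
    have := card_le_card this
    omega
  · have h1 : 1 ≤ d1 ^ 2 := (sq_nonneg _).lt_of_ne (Ne.symm (pow_ne_zero 2 hd))
    have hg0 := eq_zero_of_sum_sq s g (by nlinarith)
    have : s.filter (fun x => f x ≠ 0 ∨ g x ≠ 0) ⊆ s.filter fun x => f x ≠ 0 := fun x hx => by
      obtain ⟨hxs, h⟩ := mem_filter.1 hx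
      exact mem_filter.2 ⟨hxs, h.elim id fun hgx => absurd (hg0 x hxs) hgx⟩
    have := card_le_card this
    constructor
    · omega
    · intro hne; omega

/-- The case analysis on the two subgroups of index four. -/
theorem table_cases {ι : Type*} (s : Finset ι) {t0 t1 t2 : ℕ} (h0 : 2 ≤ t0) (h1 : 2 ≤ t1)
    (h2 : 2 ≤ t2) (h12 : t1 ≠ t2) {dl s0 p c q e d1 d2 s1 s2 Q1 Q2 : ℤ} (f g : ι → ℤ)
    (hdl : dl = 1 ∨ dl = -1) (hs0 : s0 = 1 ∨ s0 = -1)
    (hO1 : 1 + dl * p + s0 * c = 0) (hO2 : 1 + dl * q + s0 * e = 0)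
    (hQ1 : Q1 = 1 + p ^ 2 + t0 * c ^ 2 + t2 * d2 ^ 2 + ∑ x ∈ s, f x ^ 2) (hQ1' : Q1 ≤ 4)
    (hQ2 : Q2 = 1 + q ^ 2 + t0 * e ^ 2 + t1 * d1 ^ 2 + ∑ x ∈ s, g x ^ 2) (hQ2' : Q2 ≤ 4)
    (hs1 : Q1 = 4 ∨ t1 = 2 → s1 = 1 ∨ s1 = -1) (hs2 : Q2 = 4 ∨ t2 = 2 → s2 = 1 ∨ s2 = -1)
    (hO : 1 + p * q + t0 * c * e + s1 * d1 + s2 * d2 + ∑ x ∈ s, f x * g x = 0) :
    TableOut s t0 dl p c q (d1 ^ 2 + d2 ^ 2) e s1 s2 f g := by
  classical
  have hf : 0 ≤ ∑ x ∈ s, f x ^ 2 := sum_nonneg fun x _ => sq_nonneg _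
  have hg : 0 ≤ ∑ x ∈ s, g x ^ 2 := sum_nonneg fun x _ => sq_nonneg _
  have h0z : (2 : ℤ) ≤ t0 := by exact_mod_cast h0
  have h1z : (2 : ℤ) ≤ t1 := by exact_mod_cast h1
  have h2z : (2 : ℤ) ≤ t2 := by exact_mod_cast h2
  have v1 := value_cases h0 hdl hs0 hO1 (by nlinarith [sq_nonneg d2])
  have v2 := value_cases h0 hdl hs0 hO2 (by nlinarith [sq_nonneg d1])
  have hdd : dl * dl = 1 := by rcases hdl with rfl | rfl <;> rfl
  rcases v1 with ⟨rfl, rfl⟩ | ⟨rfl, rfl, h03⟩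
  · rcases v2 with ⟨rfl, rfl⟩ | ⟨rfl, rfl, h03⟩
    · -- both of the first type
      have hsq : (-dl) ^ 2 = 1 := by rw [neg_sq, sq, hdd]
      rw [hsq] at hQ1 hQ2
      simp only [ne_eq, OfNat.ofNat_ne_zero, not_false_eq_true, zero_pow, mul_zero, zero_mul, add_zero,
        mul_neg, neg_mul, neg_neg, hdd] at hQ1 hQ2 hO
      have small : ∀ d : ℤ, ∀ t : ℕ, 2 ≤ t → (t : ℤ) * d ^ 2 ≤ 2 → d ≠ 0 →
          t = 2 ∧ (d = 1 ∨ d = -1) := fun d t ht hle hd => by
        have hd2 : 1 ≤ d ^ 2 := (sq_nonneg _).lt_of_ne (Ne.symm (pow_ne_zero 2 hd))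
        have ht' : (2 : ℤ) ≤ t := by exact_mod_cast ht
        refine ⟨by nlinarith, ?_⟩
        rcases abs_le_one (p := d) (by nlinarith) with h | h | h <;> omega
      have z1 : d1 = 0 := by
        by_contra hd
        obtain ⟨ht, hdv⟩ := small d1 t1 h1 (by nlinarith) hd
        have hg0 := eq_zero_of_sum_sq s g (by
          rw [ht] at hQ2; push_cast at hQ2; rcases hdv with rfl | rfl <;> linarith)
        have hd2 : d2 = 0 := by
          by_contra hd2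
          exact h12 (ht.trans (small d2 t2 h2 (by nlinarith) hd2).1.symm)
        subst hd2
        rw [sum_eq_zero (f := fun x => f x * g x) fun x hx => by rw [hg0 x hx, mul_zero]] at hO
        rcases hs1 (Or.inr ht) with rfl | rfl <;> rcases hdv with rfl | rfl <;> omega
      subst z1
      have z2 : d2 = 0 := by
        by_contra hd
        obtain ⟨ht, hdv⟩ := small d2 t2 h2 (by nlinarith) hd
        have hf0 := eq_zero_of_sum_sq s f (by
          rw [ht] at hQ1; push_cast at hQ1; rcases hdv with rfl | rfl <;> linarith)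
        rw [sum_eq_zero (f := fun x => f x * g x) fun x hx => by rw [hf0 x hx, zero_mul]] at hO
        rcases hs2 (Or.inr ht) with rfl | rfl <;> rcases hdv with rfl | rfl <;> omega
      subst z2
      simp at hQ1 hQ2 hO
      have e0 : ∑ x ∈ s, (f x + g x) ^ 2 =
          (∑ x ∈ s, f x ^ 2) + 2 * (∑ x ∈ s, f x * g x) + ∑ x ∈ s, g x ^ 2 := by
        rw [mul_sum, ← sum_add_distrib, ← sum_add_distrib]
        exact sum_congr rfl fun x _ => by ring
      have hn : 0 ≤ ∑ x ∈ s, (f x + g x) ^ 2 := sum_nonneg fun x _ => sq_nonneg _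
      have hz := eq_zero_of_sum_sq s (fun x => f x + g x) (by omega)
      have hsupp : s.filter (fun x => f x ≠ 0 ∨ g x ≠ 0) = s.filter fun x => f x ≠ 0 :=
        filter_congr fun x hx => by have := hz x hx; omega
      have sf := card_supp_le s f
      refine ⟨by rw [hsupp]; omega, fun _ => Or.inl ⟨rfl, rfl, rfl, rfl, by ring,
        hs1 (Or.inl (by omega)), hs2 (Or.inl (by omega)), hz⟩⟩
    · have hsq : (-dl) ^ 2 = 1 := by rw [neg_sq, sq, hdd]
      have hss : (-s0) ^ 2 = 1 := by rcases hs0 with rfl | rfl <;> norm_num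
      rw [hsq] at hQ1
      rw [hss] at hQ2
      obtain ⟨hU, ht⟩ := mixed_cases s h0 h03 h1 (tj := t2) (sj := s2) (sk := s1) g f
        (d1 := d2) (d2 := d1) (by linarith) h2 (by linarith)
        (by rw [sum_congr rfl fun x _ => mul_comm (g x) (f x)]; linarith)
      rw [filter_congr fun x _ => or_comm] at hU ht
      exact ⟨hU, fun h => Or.inr ⟨ht h, Or.inr ⟨rfl, rfl⟩⟩⟩
  · have hss : (-s0) ^ 2 = 1 := by rcases hs0 with rfl | rfl <;> norm_num
    rw [hss] at hQ1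
    rcases v2 with ⟨rfl, rfl⟩ | ⟨rfl, rfl, -⟩
    · have hsq : (-dl) ^ 2 = 1 := by rw [neg_sq, sq, hdd]
      rw [hsq] at hQ2
      obtain ⟨hU, ht⟩ := mixed_cases s h0 h03 h2 (tj := t1) (sj := s1) (sk := s2) f g
        (d1 := d1) (d2 := d2) (by linarith) h1 (by linarith) (by linarith)
      exact ⟨hU, fun h => Or.inr ⟨ht h, Or.inl ⟨rfl, rfl⟩⟩⟩
    · -- both of the second type
      exfalso
      rw [hss] at hQ2
      have hd1 : d1 = 0 := sq_eq_zero_iff.1 (le_antisymm (by nlinarith) (sq_nonneg _))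
      have hd2 : d2 = 0 := sq_eq_zero_iff.1 (le_antisymm (by nlinarith) (sq_nonneg _))
      subst hd1; subst hd2
      have e0 : ∑ x ∈ s, (f x + g x) ^ 2 =
          (∑ x ∈ s, f x ^ 2) + 2 * (∑ x ∈ s, f x * g x) + ∑ x ∈ s, g x ^ 2 := by
        rw [mul_sum, ← sum_add_distrib, ← sum_add_distrib]
        exact sum_congr rfl fun x _ => by ring
      have hn : 0 ≤ ∑ x ∈ s, (f x + g x) ^ 2 := sum_nonneg fun x _ => sq_nonneg _
      have hse : (t0 : ℤ) * (-s0) * (-s0) = t0 := by rcases hs0 with rfl | rfl <;> ring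
      rw [hse] at hO
      nlinarith

end CfsgLib.SuzukiSC
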