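import Cfsg.Agent.Lib.SuzukiSC.TableDef
import Cfsg.Agent.Lib.SuzukiSC.TableArith

/-!
# Existence of the partial table and the possible shapes of the exceptional characters

The characters outside the three families, other than `1` and `ψ`, are as many as the classes outside
the three subgroups less one.  Those vanishing on all three subgroups have degree divisible by `m`.
-/

set_option autoImplicit false
set_option linter.style.haveILetI false
set_option linter.unusedSectionVars false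

namespace CfsgLib.SuzukiSC

open Cfsg CfsgLib
open scoped CfsgLib.Char _root_.Classical ComplexConjugate

variable {G : Type*} [Group G] [Finite G]

theorem value_one_eq (φ : IrrCharacter G) :
    (φ : G → ℂ) 1 = ((charDegree (φ : G → ℂ) : ℤ) : ℂ) := by
  rw [Int.cast_natCast]; exact (Blocks.irr_degree_eq φ).1

namespace Setting

variable (S : Setting G)

theorem congr_of_zero {j : Fin 3} {φ : IrrCharacter G} {c : ℤ}
    (h : ∀ a ∈ S.A j, a ≠ 1 → (φ : G → ℂ) a = c) :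
    (S.n j : ℤ) ∣ (charDegree (φ : G → ℂ) : ℤ) - c := by
  haveI := Fintype.ofFinite G
  obtain ⟨q, hq, hd⟩ := Char.exists_int_of_constant (S.A j) (fun a ha b hb => S.comm j ha hb)
    (S.ne_bot j) φ h (d := charDegree (φ : G → ℂ)) (Blocks.irr_degree_eq φ).1
  rw [Int.cast_injective hq]
  exact hd

variable {S}

section

variable (D : ∀ i, FamData S i)

/-- The integer value on `A j` outside its family, and zero inside. -/
noncomputable def cv (j : Fin 3) (φ : IrrCharacter G) : ℤ :=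
  if h : φ ∈ (D j).F then 0 else ((D j).const φ h).choose

theorem cv_spec {j : Fin 3} {φ : IrrCharacter G} (h : φ ∉ (D j).F) {a : G} (ha : a ∈ S.A j)
    (h1 : a ≠ 1) : (φ : G → ℂ) a = (cv D j φ : ℂ) := by
  rw [cv, dif_neg h]; exact ((D j).const φ h).choose_spec a ha h1

theorem cv_mem {j : Fin 3} {φ : IrrCharacter G} (h : φ ∈ (D j).F) : cv D j φ = 0 := by
  rw [cv, dif_pos h]

/-- The sum of the squares of the values outside a family. -/
theorem sum_cv_sq (j : Fin 3) : ∑ φ, cv D j φ ^ 2 =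
    eIdx j + 2 * ((D j).eps * (D j).gam) - S.t j * (D j).gam ^ 2 := by
  obtain ⟨a, ha, h1⟩ := S.exists_ne_one j
  rw [← Finset.sum_filter_add_sum_filter_not Finset.univ (fun φ => φ ∉ (D j).F),
    Finset.sum_eq_zero (s := Finset.univ.filter fun φ => ¬ φ ∉ (D j).F) fun φ hφ => by
      rw [cv_mem D (not_not.1 (Finset.mem_filter.1 hφ).2)]; ring, add_zero]
  have h := (D j).sum_compl a ha h1
  rw [Finset.sum_congr rfl fun (φ : IrrCharacter G) hφ => show Complex.normSq ((φ : G → ℂ) a) = ((cv D j φ ^ 2 : ℤ) : ℝ) by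
    rw [cv_spec D (Finset.mem_filter.1 hφ).2 ha h1, ← Complex.ofReal_intCast, Complex.normSq_ofReal]
    push_cast; ring, ← Int.cast_sum] at h
  exact Int.cast_injective h

theorem not_dSet_of_mem {i j : Fin 3} (hij : i ≠ j) {a : G} (ha : a ∈ S.A j) (h1 : a ≠ 1) :
    a ∉ S.dSet i := fun h => hij (S.dSet_disjoint h (S.mem_dSet ha h1))

theorem one_not_dSet (i : Fin 3) : (1 : G) ∉ S.dSet i := fun h => h.1 rfl

theorem triv_notMem (i : Fin 3) : Blocks.trivIrr G ∉ (D i).F := fun h => by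
  obtain ⟨a, -, -, b, -, -, hne⟩ := (D i).nonconst _ h
  exact hne rfl

theorem cv_triv (j : Fin 3) : cv D j (Blocks.trivIrr G) = 1 := by
  obtain ⟨a, ha, h1⟩ := S.exists_ne_one j
  have h := cv_spec D (triv_notMem D j) ha h1
  exact Int.cast_injective (α := ℂ) (h.symm.trans (Int.cast_one).symm)

theorem fam_disjoint {i j : Fin 3} (hij : i ≠ j) : Disjoint (D i).F (D j).F := by
  rw [Finset.disjoint_left]
  intro φ hi hj
  obtain ⟨ψ, hψ, hne⟩ := Finset.exists_mem_ne (lt_of_lt_of_le one_lt_two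
    ((S.t_two i).trans_eq (D i).card_F.symm)) φ
  obtain ⟨a, ha, h1, b, hb, hb1, hab⟩ := (D j).nonconst φ hj
  have ea := (D i).agree φ hi ψ hψ a (not_dSet_of_mem hij ha h1)
  have eb := (D i).agree φ hi ψ hψ b (not_dSet_of_mem hij hb hb1)
  have hψj : ψ ∈ (D j).F := by
    by_contra h
    obtain ⟨c, hc⟩ := (D j).const ψ h
    exact hab (by rw [ea, eb, hc a ha h1, hc b hb hb1])
  refine hne (Subtype.ext (funext fun g => ?_))
  by_cases hg : g ∈ S.dSet i
  · exact ((D j).agree φ hj ψ hψj g fun h => hij (S.dSet_disjoint hg h)).symm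
  · exact ((D i).agree φ hi ψ hψ g hg).symm

theorem exists_table [IsSimpleGroup G] (hG : ¬ IsMulCommutative G) :
    ∃ T : Table S, (∀ i, T.F i = (D i).F) ∧
      ∀ i, T.s i = -(D i).eps + S.t i * (D i).gam := by
  haveI := Fintype.ofFinite G
  have hne : ∀ i, (D i).F.Nonempty := fun i => Finset.card_pos.1 (by
    rw [(D i).card_F]; have := S.t_two i; omega)
  choose X hX using hne
  obtain ⟨a, ha, ha1⟩ := S.exists_ne_one 0
  set s0 : ℤ := -(D 0).eps + S.t 0 * (D 0).gam with hs0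
  have hq : ∑ φ, cv D 0 φ ^ 2 = 2 + 2 * ((D 0).eps * (D 0).gam) - S.t 0 * (D 0).gam ^ 2 := by
    rw [sum_cv_sq]; simp [eIdx]
  have hpos : 1 ≤ ∑ φ, cv D 0 φ ^ 2 := by
    refine le_trans (le_of_eq ?_) (Finset.single_le_sum (fun φ _ => sq_nonneg (cv D 0 φ))
      (Finset.mem_univ (Blocks.trivIrr G)))
    rw [cv_triv]; norm_num
  rw [hq] at hpos
  -- the column against the identity
  have hcol : (1 : ℂ) + (∑ φ ∈ Finset.univ.erase (Blocks.trivIrr G),
      (cv D 0 φ : ℂ) * (φ : G → ℂ) 1) + (s0 : ℂ) * (X 0 : G → ℂ) 1 = 0 := by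
    have h := Char.sum_degree_mul_irr a
    rw [if_neg ha1, ← Finset.sum_filter_add_sum_filter_not Finset.univ (fun φ => φ ∈ (D 0).F),
      Finset.filter_univ_mem] at h
    have e1 : ∑ φ ∈ (D 0).F, (φ : G → ℂ) 1 * (φ : G → ℂ) a = (s0 : ℂ) * (X 0 : G → ℂ) 1 := by
      rw [mul_comm, ← (D 0).sum_F a ha ha1, Finset.mul_sum]
      exact Finset.sum_congr rfl fun φ hφ => by
        rw [(D 0).agree φ hφ (X 0) (hX 0) 1 (one_not_dSet 0)]
    have e2 : ∑ φ ∈ Finset.univ.filter (fun φ => φ ∉ (D 0).F), (φ : G → ℂ) 1 * (φ : G → ℂ) a =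
        ∑ φ, (cv D 0 φ : ℂ) * (φ : G → ℂ) 1 := by
      rw [Finset.sum_filter]
      refine Finset.sum_congr rfl fun φ _ => ?_
      by_cases hφ : φ ∈ (D 0).F
      · rw [if_neg (not_not.2 hφ), cv_mem D hφ]; simp
      · rw [if_pos hφ, cv_spec D hφ ha ha1, mul_comm]
    rw [e1, e2, ← Finset.add_sum_erase Finset.univ _ (Finset.mem_univ (Blocks.trivIrr G)), cv_triv,
      Int.cast_one, one_mul, show (Blocks.trivIrr G : G → ℂ) 1 = 1 from rfl] at h
    linear_combination h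
  rw [← Finset.add_sum_erase Finset.univ _ (Finset.mem_univ (Blocks.trivIrr G)), cv_triv] at hq
  rcases two_cases (S.t_two 0) (D 0).eps_sq hpos with h1 | ⟨h2, hs⟩
  · -- only the trivial character: the family consists of linear characters
    exfalso
    rw [h1] at hq
    have hz := eq_zero_of_sum_sq (Finset.univ.erase (Blocks.trivIrr G)) (cv D 0) (by linarith)
    rw [Finset.sum_eq_zero fun φ hφ => by rw [hz φ hφ, Int.cast_zero, zero_mul], add_zero,
      value_one_eq, ← Int.cast_one, ← Int.cast_mul, ← Int.cast_add, Int.cast_eq_zero] at hcol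
    have hd := BrauerReynolds.one_lt_degree_of_simple hG (χ := X 0)
      fun e => triv_notMem D 0 (e ▸ hX 0)
    have hu := Int.isUnit_iff.1 (isUnit_of_dvd_one (a := (charDegree (X 0 : G → ℂ) : ℤ))
      ⟨-s0, by linarith⟩)
    omega
  rw [h2] at hq
  obtain ⟨psi, hpsi, hdl, hz⟩ := exists_unit_of_sum_sq_one
    (Finset.univ.erase (Blocks.trivIrr G)) (cv D 0) (by linarith)
  have hp0 : psi ∉ (D 0).F := fun h => by rw [cv_mem D h] at hdl; omega
  have hzero : ∀ φ, φ ≠ Blocks.trivIrr G → φ ≠ psi → cv D 0 φ = 0 := fun φ h h' =>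
    hz φ (Finset.mem_erase.2 ⟨h, Finset.mem_univ _⟩) h'
  have hpn : ∀ i, psi ∉ (D i).F := by
    intro i h
    rcases eq_or_ne i 0 with rfl | hi
    · exact hp0 h
    obtain ⟨φ, hφ, hne⟩ := Finset.exists_mem_ne (lt_of_lt_of_le one_lt_two
      ((S.t_two i).trans_eq (D i).card_F.symm)) psi
    have h0 : φ ∉ (D 0).F := Finset.disjoint_left.1 (fam_disjoint D hi) hφ
    have e := (D i).agree φ hφ psi h a (not_dSet_of_mem hi ha ha1)
    rw [cv_spec D h0 ha ha1, cv_spec D hp0 ha ha1, Int.cast_inj,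
      hzero φ (fun q => triv_notMem D i (q ▸ hφ)) hne] at e
    omega
  exact ⟨{ F := fun i => (D i).F
           card_F := fun i => (D i).card_F
           X := X
           X_mem := hX
           agree := fun i φ hφ g hg => (D i).agree φ hφ (X i) (hX i) g hg
           disj := fun i j h => fam_disjoint D h
           psi := psi
           psi_ne := (Finset.mem_erase.1 hpsi).1
           psi_notMem := hpn
           triv_notMem := triv_notMem D
           dl := cv D 0 psi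
           dl_sq := hdl
           s := fun i => -(D i).eps + S.t i * (D i).gam
           s_zero := hs
           sum_F := fun i => (D i).sum_F
           psi_val := fun b hb hb1 => cv_spec D hp0 hb hb1
           zero_val := fun φ h0 h1 h2 b hb hb1 => by
             rw [cv_spec D h0 hb hb1, hzero φ h1 h2, Int.cast_zero] },
    fun _ => rfl, fun _ => rfl⟩

end

end Setting

namespace Table

variable {S : Setting G} (T : Table S)

/-- The characters outside the families other than `1` and `ψ`. -/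
noncomputable def restSet : Finset (IrrCharacter G) :=
  Finset.univ.filter fun φ => φ ≠ Blocks.trivIrr G ∧ φ ≠ T.psi ∧ ∀ i, φ ∉ T.F i

theorem mem_restSet {φ : IrrCharacter G} :
    φ ∈ T.restSet ↔ φ ≠ Blocks.trivIrr G ∧ φ ≠ T.psi ∧ ∀ i, φ ∉ T.F i := by simp [restSet]

theorem split {M : Type*} [AddCommMonoid M] (f : IrrCharacter G → M) :
    ∑ φ, f φ = f (Blocks.trivIrr G) + f T.psi + (∑ φ ∈ T.F 0, f φ) + (∑ φ ∈ T.F 1, f φ) +
      (∑ φ ∈ T.F 2, f φ) + ∑ φ ∈ T.restSet, f φ := by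
  have huniv : (Finset.univ : Finset (IrrCharacter G)) =
      {Blocks.trivIrr G} ∪ {T.psi} ∪ T.F 0 ∪ T.F 1 ∪ T.F 2 ∪ T.restSet := by
    ext φ
    simp only [Finset.mem_univ, Finset.mem_union, Finset.mem_singleton, mem_restSet, true_iff]
    by_cases h : ∀ i, φ ∉ T.F i
    · tauto
    · push Not at h
      obtain ⟨i, hi⟩ := h
      fin_cases i
      · exact Or.inl (Or.inl (Or.inl (Or.inr hi)))
      · exact Or.inl (Or.inl (Or.inr hi))
      · exact Or.inl (Or.inr hi)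
  have n1 := T.triv_notMem
  have n2 := T.psi_notMem
  have n3 := T.psi_ne
  rw [huniv, Finset.sum_union, Finset.sum_union, Finset.sum_union, Finset.sum_union,
    Finset.sum_union, Finset.sum_singleton, Finset.sum_singleton]
  · simpa using n3.symm
  · simp [Finset.disjoint_left, n1, n2]
  · simp [n1, n2, T.disj 0 1]
  · simp [n1, n2, T.disj 0 2, T.disj 1 2]
  · simp only [Finset.disjoint_left, Finset.mem_union, Finset.mem_singleton, mem_restSet]
    rintro φ h ⟨h1, h2, h3⟩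
    have := h3 0; have := h3 1; have := h3 2
    tauto

theorem value_on {i j : Fin 3} (hij : i ≠ j) {φ : IrrCharacter G} (hφ : φ ∈ T.F i) {a : G}
    (ha : a ∈ S.A j) (h1 : a ≠ 1) : (φ : G → ℂ) a = (T.X i : G → ℂ) a :=
  T.agree i φ hφ a (Setting.not_dSet_of_mem hij ha h1)

theorem not_isConj {i j : Fin 3} (hij : i ≠ j) {a b : G} (ha : a ∈ S.A i) (ha1 : a ≠ 1)
    (hb : b ∈ S.A j) (hb1 : b ≠ 1) : ¬ IsConj a b := fun h =>
  hij (S.dSet_disjoint (S.dSet_conj h (S.mem_dSet ha ha1)) (S.mem_dSet hb hb1))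

theorem card_rest : S.RClasses.ncard = 1 + T.restSet.card := by
  haveI := Fintype.ofFinite G
  have h := T.split (fun _ => 1)
  simp only [← Finset.card_eq_sum_ones, T.card_F, Finset.card_univ, ← Nat.card_eq_fintype_card,
    Char.card_irr_eq_card_conjClasses, S.card_conjClasses] at h
  omega

end Table

namespace Setting

variable {S : Setting G} (D : ∀ i, FamData S i) {T : Table S}

open Table

theorem orth_cv (hF : ∀ i, T.F i = (D i).F) {i j : Fin 3} (hij : i ≠ j) (k : Fin 3) (hki : k ≠ i)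
    (hkj : k ≠ j) {a b : G} (ha : a ∈ S.A i) (ha1 : a ≠ 1) (hb : b ∈ S.A j) (hb1 : b ≠ 1) :
    (∑ φ ∈ T.F i, (φ : G → ℂ) a * conj ((φ : G → ℂ) b) = ((T.s i * cv D j (T.X i) : ℤ) : ℂ)) ∧
    (∑ φ ∈ T.F j, (φ : G → ℂ) a * conj ((φ : G → ℂ) b) = ((T.s j * cv D i (T.X j) : ℤ) : ℂ)) ∧
    (∑ φ ∈ T.F k, (φ : G → ℂ) a * conj ((φ : G → ℂ) b) =
      ((S.t k * (cv D i (T.X k) * cv D j (T.X k)) : ℤ) : ℂ)) := by
  have out : ∀ {p q : Fin 3}, p ≠ q → ∀ φ ∈ T.F p, φ ∉ (D q).F := fun {p q} h φ hφ => by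
    rw [← hF q]; exact Finset.disjoint_left.1 (T.disj p q h) hφ
  have vv : ∀ {p q : Fin 3}, p ≠ q → ∀ φ ∈ T.F p, ∀ c ∈ S.A q, c ≠ 1 →
      (φ : G → ℂ) c = (cv D q (T.X p) : ℂ) := fun {p q} h φ hφ c hc hc1 => by
    rw [T.value_on h hφ hc hc1, cv_spec D (out h _ (T.X_mem p)) hc hc1]
  refine ⟨?_, ?_, ?_⟩
  · rw [Finset.sum_congr rfl fun φ hφ => by rw [vv hij φ hφ b hb hb1, map_intCast],
      ← Finset.sum_mul, T.sum_F i a ha ha1, Int.cast_mul]
  · rw [Finset.sum_congr rfl fun φ hφ => by rw [vv hij.symm φ hφ a ha ha1],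
      ← Finset.mul_sum, ← map_sum, T.sum_F j b hb hb1, map_intCast, Int.cast_mul, mul_comm]
  · rw [Finset.sum_congr rfl fun φ hφ => by rw [vv hki φ hφ a ha ha1, vv hkj φ hφ b hb hb1,
      map_intCast], Finset.sum_const, T.card_F, nsmul_eq_mul]
    push_cast
    ring

theorem table_out (hF : ∀ i, T.F i = (D i).F)
    (hs : ∀ i, T.s i = -(D i).eps + S.t i * (D i).gam) :
    TableOut T.restSet (S.t 0) T.dl (cv D 1 T.psi) (cv D 1 (T.X 0)) (cv D 2 T.psi)
      (cv D 2 (T.X 1) ^ 2 + cv D 1 (T.X 2) ^ 2) (cv D 2 (T.X 0)) (T.s 1) (T.s 2)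
      (cv D 1) (cv D 2) := by
  haveI := Fintype.ofFinite G
  obtain ⟨a, ha, a1⟩ := S.exists_ne_one 0
  obtain ⟨b, hb, b1⟩ := S.exists_ne_one 1
  obtain ⟨c, hc, c1⟩ := S.exists_ne_one 2
  have psiv : ∀ i, ∀ x ∈ S.A i, x ≠ 1 → (T.psi : G → ℂ) x = (cv D i T.psi : ℂ) := fun i x hx hx1 =>
    cv_spec D (by rw [← hF i]; exact T.psi_notMem i) hx hx1
  have restv : ∀ i, ∀ φ ∈ T.restSet, φ ∉ (D i).F := fun i φ hφ => by
    rw [← hF i]; exact ((T.mem_restSet).1 hφ).2.2 i
  -- orthogonality with the first subgroup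
  have first : ∀ j : Fin 3, j ≠ 0 → 1 + T.dl * cv D j T.psi + T.s 0 * cv D j (T.X 0) = 0 := by
    intro j hj
    obtain ⟨d, hd, d1⟩ := S.exists_ne_one j
    have h := Char.column_orthogonality a d
    rw [if_neg (Table.not_isConj (fun e => hj e.symm) ha a1 hd d1), T.split] at h
    obtain ⟨e0, -, -⟩ := orth_cv D hF (i := 0) (j := j) (fun e => hj e.symm)
      (if j = 1 then 2 else 1) (by fin_cases j <;> simp at hj ⊢) (by fin_cases j <;> simp at hj ⊢)
      ha a1 hd d1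
    have z : ∀ i : Fin 3, i ≠ 0 → ∑ φ ∈ T.F i, (φ : G → ℂ) a * conj ((φ : G → ℂ) d) = 0 :=
      fun i hi => Finset.sum_eq_zero fun φ hφ => by
        rw [T.zero_val φ (Finset.disjoint_left.1 (T.disj i 0 hi) hφ)
          (fun e => T.triv_notMem i (e ▸ hφ)) (fun e => T.psi_notMem i (e ▸ hφ)) a ha a1, zero_mul]
    rw [e0, z 1 (by decide), z 2 (by decide), Finset.sum_eq_zero (s := T.restSet) fun φ hφ => by
        obtain ⟨h1, h2, h3⟩ := (T.mem_restSet).1 hφ
        rw [T.zero_val φ (h3 0) h1 h2 a ha a1, zero_mul],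
      T.psi_val a ha a1, psiv j d hd d1, map_intCast, add_zero, add_zero, add_zero,
      show (Blocks.trivIrr G : G → ℂ) a * conj ((Blocks.trivIrr G : G → ℂ) d) = 1 by
        simp [Blocks.trivIrr]] at h
    exact_mod_cast h
  -- sums of squares
  have sq : ∀ j k : Fin 3, j ≠ 0 → k ≠ 0 → k ≠ j → ∑ φ, cv D j φ ^ 2 =
      1 + cv D j T.psi ^ 2 + S.t 0 * cv D j (T.X 0) ^ 2 + S.t k * cv D j (T.X k) ^ 2 +
        ∑ φ ∈ T.restSet, cv D j φ ^ 2 := by
    intro j k hj hk hkj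
    obtain ⟨d, hd, d1⟩ := S.exists_ne_one j
    have cf : ∀ i, i ≠ j → ∑ φ ∈ T.F i, cv D j φ ^ 2 = S.t i * cv D j (T.X i) ^ 2 := fun i hi => by
      have hout : ∀ φ ∈ T.F i, φ ∉ (D j).F := fun φ hφ => by
        rw [← hF j]; exact Finset.disjoint_left.1 (T.disj i j hi) hφ
      rw [Finset.sum_congr rfl fun φ hφ => show cv D j φ ^ 2 = cv D j (T.X i) ^ 2 by
        have e := T.value_on hi hφ hd d1
        rw [cv_spec D (hout φ hφ) hd d1, cv_spec D (hout _ (T.X_mem i)) hd d1, Int.cast_inj] at e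
        rw [e], Finset.sum_const, T.card_F, nsmul_eq_mul]
    have cj : ∑ φ ∈ T.F j, cv D j φ ^ 2 = 0 := Finset.sum_eq_zero fun φ hφ => by
      rw [cv_mem D (hF j ▸ hφ)]; ring
    rw [T.split, cv_triv, cf 0 hj.symm]
    have hh : ∀ i : Fin 3, i ≠ 0 → i = 1 ∨ i = 2 := by decide
    rcases hh j hj with rfl | rfl <;> rcases hh k hk with rfl | rfl <;> simp at hkj
    · rw [cj, cf 2 (by decide)]; ring
    · rw [cj, cf 1 (by decide)]; ring
  have four : ∀ j : Fin 3, j ≠ 0 → ∑ φ, cv D j φ ^ 2 ≤ 4 ∧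
      (∑ φ, cv D j φ ^ 2 = 4 ∨ S.t j = 2 → T.s j = 1 ∨ T.s j = -1) := by
    intro j hj
    have he : (eIdx j : ℤ) = 4 := by fin_cases j <;> simp [eIdx] at hj ⊢
    have hpos : 1 ≤ ∑ φ, cv D j φ ^ 2 := le_trans (le_of_eq (by rw [cv_triv]; norm_num))
      (Finset.single_le_sum (fun φ _ => sq_nonneg (cv D j φ)) (Finset.mem_univ (Blocks.trivIrr G)))
    rw [sum_cv_sq, he] at hpos ⊢
    rw [hs]
    exact four_cases (S.t_two j) (D j).eps_sq hpos
  have h12 : S.t 1 ≠ S.t 2 := fun e => by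
    have e' : S.n 1 = S.n 2 := by rw [S.n_eq 1, S.n_eq 2, e]; simp [eIdx]
    have := S.coprime (i := 1) (j := 2) (by decide)
    rw [e', Nat.coprime_self] at this
    have := S.n_ge 2
    omega
  have cross : 1 + cv D 1 T.psi * cv D 2 T.psi + S.t 0 * cv D 1 (T.X 0) * cv D 2 (T.X 0) +
      T.s 1 * cv D 2 (T.X 1) + T.s 2 * cv D 1 (T.X 2) +
      ∑ φ ∈ T.restSet, cv D 1 φ * cv D 2 φ = 0 := by
    have h := Char.column_orthogonality b c
    rw [if_neg (Table.not_isConj (i := 1) (j := 2) (by decide) hb b1 hc c1), T.split] at h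
    obtain ⟨e1, e2, e0⟩ := orth_cv D hF (i := 1) (j := 2) (by decide) 0 (by decide) (by decide)
      hb b1 hc c1
    rw [e0, e1, e2, psiv 1 b hb b1, psiv 2 c hc c1, map_intCast,
      Finset.sum_congr rfl (g := fun φ => ((cv D 1 φ * cv D 2 φ : ℤ) : ℂ)) fun φ hφ => by
        rw [cv_spec D (restv 1 φ hφ) hb b1, cv_spec D (restv 2 φ hφ) hc c1, map_intCast,
          Int.cast_mul],
      ← Int.cast_sum, ← Int.cast_mul,
      show (Blocks.trivIrr G : G → ℂ) b * conj ((Blocks.trivIrr G : G → ℂ) c) = ((1 : ℤ) : ℂ) by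
        simp [Blocks.trivIrr]] at h
    simp only [← Int.cast_add, Int.cast_eq_zero] at h
    linarith
  exact table_cases T.restSet (S.t_two 0) (S.t_two 1) (S.t_two 2) h12 (cv D 1) (cv D 2) T.dl_sq
    T.s_zero (first 1 (by decide)) (first 2 (by decide))
    (sq 1 2 (by decide) (by decide) (by decide)) (four 1 (by decide)).1
    (sq 2 1 (by decide) (by decide) (by decide)) (four 2 (by decide)).1
    (four 1 (by decide)).2 (four 2 (by decide)).2 cross

theorem psi_congr (hF : ∀ i, T.F i = (D i).F) (j : Fin 3) :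
    (S.n j : ℤ) ∣ T.bigF - T.dl * cv D j T.psi := by
  have h := S.congr_of_zero (j := j) (φ := T.psi) (c := cv D j T.psi) fun a ha h1 =>
    cv_spec D (by rw [← hF j]; exact T.psi_notMem j) ha h1
  rw [Table.bigF, ← mul_sub]
  exact h.mul_left _

theorem theta_dvd (hF : ∀ i, T.F i = (D i).F) {φ : IrrCharacter G} (hφ : φ ∈ T.restSet)
    (h1 : cv D 1 φ = 0) (h2 : cv D 2 φ = 0) : S.m ∣ charDegree (φ : G → ℂ) := by
  obtain ⟨ht, hp, hn⟩ := (T.mem_restSet).1 hφ
  have hd : ∀ j, (S.n j) ∣ charDegree (φ : G → ℂ) := fun j => by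
    have := S.congr_of_zero (j := j) (φ := φ) (c := 0) fun a ha a1 => by
      rw [Int.cast_zero]
      rcases (show ∀ i : Fin 3, i = 0 ∨ i = 1 ∨ i = 2 by decide) j with rfl | rfl | rfl
      · exact T.zero_val φ (hn 0) ht hp a ha a1
      · rw [cv_spec D (hF 1 ▸ hn 1) ha a1, h1, Int.cast_zero]
      · rw [cv_spec D (hF 2 ▸ hn 2) ha a1, h2, Int.cast_zero]
    rw [sub_zero] at this
    exact Int.natCast_dvd_natCast.1 this
  exact Nat.Coprime.mul_dvd_of_dvd_of_dvd
    ((S.coprime (i := 0) (j := 2) (by decide)).mul_left (S.coprime (i := 1) (j := 2) (by decide)))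
    (Nat.Coprime.mul_dvd_of_dvd_of_dvd (S.coprime (i := 0) (j := 1) (by decide)) (hd 0) (hd 1))
    (hd 2)

theorem theta_bound (hF : ∀ i, T.F i = (D i).F) :
    let Θ := T.restSet.filter fun φ => ¬ (cv D 1 φ ≠ 0 ∨ cv D 2 φ ≠ 0)
    Θ.card ≤ 2 ∧ (Θ.card ≠ 0 → S.m < S.k) := by
  intro Θ
  have hsum : ∑ φ : IrrCharacter G, charDegree (φ : G → ℂ) ^ 2 = Nat.card G := by
    have h := Char.sum_sq_degree (G := G)
    rw [Finset.sum_congr rfl fun φ _ => by rw [(Blocks.irr_degree_eq φ).1]] at h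
    exact_mod_cast h
  have hdeg : ∀ φ ∈ Θ, S.m ^ 2 ≤ charDegree (φ : G → ℂ) ^ 2 := fun φ hφ => by
    obtain ⟨hr, h⟩ := Finset.mem_filter.1 hφ
    push Not at h
    exact Nat.pow_le_pow_left (Nat.le_of_dvd (Blocks.irr_degree_eq φ).2
      (theta_dvd D hF hr h.1 h.2)) 2
  have hnot : Blocks.trivIrr G ∉ Θ := fun h => ((T.mem_restSet).1 (Finset.mem_filter.1 h).1).1 rfl
  have hle : ∑ φ ∈ insert (Blocks.trivIrr G) Θ, charDegree (φ : G → ℂ) ^ 2 ≤ Nat.card G :=
    hsum ▸ Finset.sum_le_sum_of_subset (Finset.subset_univ _)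
  rw [Finset.sum_insert hnot] at hle
  have h1 : 1 ≤ charDegree (Blocks.trivIrr G : G → ℂ) ^ 2 :=
    Nat.one_le_pow _ _ (Blocks.irr_degree_eq _).2
  have h2 := Finset.card_nsmul_le_sum Θ (fun φ => charDegree (φ : G → ℂ) ^ 2) (S.m ^ 2) hdeg
  rw [smul_eq_mul] at h2
  have hg : Θ.card * S.m ^ 2 < S.k * S.m := by rw [← S.card_eq]; omega
  have hk := Nat.mul_le_mul_right S.m S.k_le
  constructor
  · by_contra hcon
    have : 3 * S.m ^ 2 ≤ Θ.card * S.m ^ 2 := Nat.mul_le_mul_right _ (by omega)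
    have : 3 * S.m * S.m = 3 * S.m ^ 2 := by ring
    omega
  · intro hne
    have : S.m ^ 2 ≤ Θ.card * S.m ^ 2 := Nat.le_mul_of_pos_left _ (Nat.pos_of_ne_zero hne)
    refine lt_of_mul_lt_mul_right (a := S.m) ?_ (Nat.zero_le _)
    rw [← pow_two]
    omega

/-- The shapes left when there are at least four classes outside the three subgroups. -/
theorem exists_shape [IsSimpleGroup G] (hG : ¬ IsMulCommutative G) (D : ∀ i, FamData S i) :
    ∃ T : Table S, S.RClasses.ncard ≤ 5 ∧ (4 ≤ S.RClasses.ncard → S.m < S.k ∧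
      ((T.Std ∧ (S.n 1 : ℤ) ∣ T.bigF + 1 ∧ (S.n 2 : ℤ) ∣ T.bigF + 1) ∨
       (S.n 0 = 5 ∧ (((S.n 1 : ℤ) ∣ T.bigF ∧ (S.n 2 : ℤ) ∣ T.bigF + 1) ∨
         ((S.n 2 : ℤ) ∣ T.bigF ∧ (S.n 1 : ℤ) ∣ T.bigF + 1))))) := by
  obtain ⟨T, hF, hs⟩ := exists_table D hG
  have hout := table_out D hF hs
  obtain ⟨ht1, ht2⟩ := theta_bound D (T := T) hF
  have hsplit := Finset.card_filter_add_card_filter_not (s := T.restSet)
    (fun φ => cv D 1 φ ≠ 0 ∨ cv D 2 φ ≠ 0)
  have hR := T.card_rest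
  have hU := hout.card_le
  refine ⟨T, by omega, fun h4 => ⟨ht2 (by omega), ?_⟩⟩
  have hc1 := psi_congr D (T := T) hF 1
  have hc2 := psi_congr D (T := T) hF 2
  have hdd : T.dl * T.dl = 1 := by rcases T.dl_sq with h | h <;> rw [h] <;> norm_num
  rcases hout.rest (by omega) with ⟨hp, hq, hc, he, hd, hs1, hs2, hz⟩ | ⟨h0, h⟩
  · rw [hp, mul_neg, hdd, sub_neg_eq_add] at hc1
    rw [hq, mul_neg, hdd, sub_neg_eq_add] at hc2
    refine Or.inl ⟨⟨hs1, hs2, fun a ha a1 b hb b1 => ?_⟩, hc1, hc2⟩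
    have hd' := (add_eq_zero_iff_of_nonneg (sq_nonneg _) (sq_nonneg _)).1 hd
    rw [sq_eq_zero_iff, sq_eq_zero_iff] at hd'
    have out : ∀ {i j : Fin 3}, i ≠ j → ∀ φ ∈ T.F i, φ ∉ (D j).F := fun {i j} h φ hφ => by
      rw [← hF j]; exact Finset.disjoint_left.1 (T.disj i j h) hφ
    refine ⟨?_, ?_, ?_, ?_, fun φ h1 h2 h3 h4 => ?_⟩
    · rw [cv_spec D (hF 1 ▸ T.psi_notMem 1) ha a1, hp, Int.cast_neg]
    · rw [cv_spec D (hF 2 ▸ T.psi_notMem 2) hb b1, hq, Int.cast_neg]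
    · rw [cv_spec D (out (by decide) _ (T.X_mem 2)) ha a1, hd'.2, Int.cast_zero]
    · rw [cv_spec D (out (by decide) _ (T.X_mem 1)) hb b1, hd'.1, Int.cast_zero]
    · by_cases h5 : φ ∈ T.F 0
      · rw [T.value_on (by decide) h5 ha a1, T.value_on (by decide) h5 hb b1,
          cv_spec D (out (by decide) _ (T.X_mem 0)) ha a1,
          cv_spec D (out (by decide) _ (T.X_mem 0)) hb b1, hc, he]
        simp
      · have hr : φ ∈ T.restSet := (T.mem_restSet).2 ⟨h1, h2, fun i => by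
          fin_cases i <;> assumption⟩
        rw [cv_spec D (hF 1 ▸ h3) ha a1, cv_spec D (hF 2 ▸ h4) hb b1, ← Int.cast_add, hz φ hr,
          Int.cast_zero]
  · refine Or.inr ⟨by rw [S.n_eq 0, h0]; rfl, ?_⟩
    rcases h with ⟨hp, hq⟩ | ⟨hq, hp⟩
    · rw [hp, mul_zero, sub_zero] at hc1
      rw [hq, mul_neg, hdd, sub_neg_eq_add] at hc2
      exact Or.inl ⟨hc1, hc2⟩
    · rw [hq, mul_zero, sub_zero] at hc2
      rw [hp, mul_neg, hdd, sub_neg_eq_add] at hc1
      exact Or.inr ⟨hc2, hc1⟩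

end Setting

end CfsgLib.SuzukiSC
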