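import Cfsg.Agent.Lib.SuzukiSC.Counts
import Cfsg.Agent.Lib.BrauerReynolds.Centralizer

/-!
# The partial character table of the three families: definitions
-/

set_option autoImplicit false

namespace CfsgLib.SuzukiSC

open Cfsg CfsgLib
open scoped CfsgLib.Char _root_.Classical

variable {G : Type*} [Group G] [Finite G]

/-- The exceptional family of `A i`. -/
structure FamData (S : Setting G) (i : Fin 3) where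
  F : Finset (IrrCharacter G)
  card_F : F.card = S.t i
  const : ∀ φ, φ ∉ F → ∃ c : ℤ, ∀ a ∈ S.A i, a ≠ 1 → (φ : G → ℂ) a = c
  agree : ∀ φ ∈ F, ∀ ψ ∈ F, ∀ g : G, g ∉ S.dSet i → (φ : G → ℂ) g = (ψ : G → ℂ) g
  nonconst : ∀ φ ∈ F, ∃ a ∈ S.A i, a ≠ 1 ∧ ∃ b ∈ S.A i, b ≠ 1 ∧ (φ : G → ℂ) a ≠ (φ : G → ℂ) b
  gam : ℤ
  eps : ℤ
  eps_sq : eps = 1 ∨ eps = -1
  sum_F : ∀ a ∈ S.A i, a ≠ 1 →
    ∑ φ ∈ F, (φ : G → ℂ) a = ((-eps + S.t i * gam : ℤ) : ℂ)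
  sum_compl : ∀ a ∈ S.A i, a ≠ 1 → ∑ φ ∈ Finset.univ.filter (fun φ => φ ∉ F),
    Complex.normSq ((φ : G → ℂ) a) = ((eIdx i + 2 * (eps * gam) - S.t i * gam ^ 2 : ℤ) : ℝ)

/-- The part of the table known on the whole group. -/
structure Table (S : Setting G) where
  F : Fin 3 → Finset (IrrCharacter G)
  card_F : ∀ i, (F i).card = S.t i
  X : Fin 3 → IrrCharacter G
  X_mem : ∀ i, X i ∈ F i
  agree : ∀ i, ∀ φ ∈ F i, ∀ g : G, g ∉ S.dSet i → (φ : G → ℂ) g = (X i : G → ℂ) g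
  disj : ∀ i j, i ≠ j → Disjoint (F i) (F j)
  psi : IrrCharacter G
  psi_ne : psi ≠ Blocks.trivIrr G
  psi_notMem : ∀ i, psi ∉ F i
  triv_notMem : ∀ i, Blocks.trivIrr G ∉ F i
  dl : ℤ
  dl_sq : dl = 1 ∨ dl = -1
  s : Fin 3 → ℤ
  s_zero : s 0 = 1 ∨ s 0 = -1
  sum_F : ∀ i, ∀ a ∈ S.A i, a ≠ 1 → ∑ φ ∈ F i, (φ : G → ℂ) a = (s i : ℂ)
  psi_val : ∀ a ∈ S.A 0, a ≠ 1 → (psi : G → ℂ) a = (dl : ℂ)
  zero_val : ∀ φ, φ ∉ F 0 → φ ≠ Blocks.trivIrr G → φ ≠ psi →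
    ∀ a ∈ S.A 0, a ≠ 1 → (φ : G → ℂ) a = 0

/-- `δ ψ(1)`. -/
noncomputable def Table.bigF {S : Setting G} (T : Table S) : ℤ :=
  T.dl * (charDegree (T.psi : G → ℂ) : ℤ)

/-- Both subgroups of index four meet `ψ` in `-δ`; the other characters cancel between them. -/
def Table.Std {S : Setting G} (T : Table S) : Prop :=
  (T.s 1 = 1 ∨ T.s 1 = -1) ∧ (T.s 2 = 1 ∨ T.s 2 = -1) ∧
  ∀ a ∈ S.A 1, a ≠ 1 → ∀ b ∈ S.A 2, b ≠ 1 →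
    (T.psi : G → ℂ) a = -(T.dl : ℂ) ∧ (T.psi : G → ℂ) b = -(T.dl : ℂ) ∧
    (T.X 2 : G → ℂ) a = 0 ∧ (T.X 1 : G → ℂ) b = 0 ∧
    ∀ φ, φ ≠ Blocks.trivIrr G → φ ≠ T.psi → φ ∉ T.F 1 → φ ∉ T.F 2 →
      (φ : G → ℂ) a + (φ : G → ℂ) b = 0

end CfsgLib.SuzukiSC
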